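import Cfsg.Agent.Lib.PStab.Offender.Embed
import Cfsg.Agent.Lib.Transfer.Factorizable
import Cfsg.Agent.S0601

/-!
When the Thompson factorization fails, `J(G)` induces on `V` a product of copies of `SL(2, p)`.
-/

set_option autoImplicit false

namespace CfsgLib.PStab.BestOff

open Subgroup Cfsg SemidirectProduct
open scoped commutatorElement

variable {G : Type*} [Group G] [Finite G] {p : ℕ} [hp : Fact p.Prime] (V : Subgroup G) [V.Normal]

/-- The image of `J(G)` in the semidirect product. -/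
abbrev semiJ (p : ℕ) : Subgroup (Semi V) := semiMap V (thompsonSubgroup p G)

/-- Its `p'`-core. -/
abbrev semiQ (p : ℕ) : Subgroup (Semi V) :=
  (pPrimeCore p ↥(semiJ V p)).map (semiJ V p).subtype

variable {V}

theorem semiJ_setup (hV : IsElementaryAbelian p V) (hsep : IsPSolvable p G)
    (hO : pCore p (G ⧸ centralizer (V : Set G)) = ⊥) :
    Setup p (semiV V) (semiJ V p) (semiQ V p) ∧
      semiJ V p ≤ sSup {S | S ≤ semiJ V p ∧ IsTr p (semiV V) S} := by
  haveI : ((thompsonSubgroup p G).map (QuotientGroup.mk' (centralizer (V : Set G)))).Normal :=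
    (CfsgLib.Transfer.thompsonSubgroup_normal_inst' p).map _ (QuotientGroup.mk'_surjective _)
  have hS := setup_semi hV hsep hO
    ((thompsonSubgroup p G).map (QuotientGroup.mk' (centralizer (V : Set G))))
  refine ⟨hS, ?_⟩
  rw [semiJ, semiMap, Subgroup.map_le_iff_le_comap, Subgroup.map_le_iff_le_comap, thompsonSubgroup]
  refine sSup_le fun A hA => ?_
  rw [← Subgroup.map_le_iff_le_comap, ← Subgroup.map_le_iff_le_comap]
  have hle : semiMap V A ≤ semiJ V p :=
    Subgroup.map_mono (Subgroup.map_mono (CfsgLib.Transfer.le_thompsonSubgroup hA))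
  exact (hS.le_sSup_isTr (isEq_maxEA hV hS hA hle) hle).trans
    (sSup_le_sSup fun T hT => ⟨hT.1.trans hle, hT.2⟩)

/-- The pull-back of a component is a normal subgroup of `J(G) C(V)` inducing `SL(2, p)`. -/
theorem exists_preimage {T : Subgroup (Semi V)}
    (h : CompHyp p (semiV V) (semiJ V p) (semiQ V p) T)
    (hgen : semiJ V p ≤ sSup {S | S ≤ semiJ V p ∧ IsTr p (semiV V) S}) :
    ∃ E : Subgroup G, centralizer (V : Set G) ≤ E ∧
      E ≤ thompsonSubgroup p G ⊔ centralizer (V : Set G) ∧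
      thompsonSubgroup p G ⊔ centralizer (V : Set G) ≤ normalizer (E : Set G) ∧
      ∃ hn : ((centralizer (V : Set G)).subgroupOf E).Normal,
        Nonempty ((↥E ⧸ (centralizer (V : Set G)).subgroupOf E) ≃*
          Matrix.SpecialLinearGroup (Fin 2) (ZMod p)) := by
  set C := centralizer (V : Set G)
  set π := QuotientGroup.mk' C
  set j : G →* Semi V := (inr : G ⧸ C →* Semi V).comp π with hj
  set Es := comp (semiQ V p) T with hEs
  set E := Es.comap j with hE
  have hjker : ∀ g, j g = 1 ↔ g ∈ C := fun g =>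
    ⟨fun e => (QuotientGroup.eq_one_iff g).1 (inr_injective (show inr (π g) = inr 1 by rw [map_one]; exact e)),
      fun e => by
        show inr (π g) = 1
        rw [show π g = 1 from (QuotientGroup.eq_one_iff g).2 e, map_one]⟩
  have hmap : E.map j = Es := by
    refine le_antisymm (map_comap_le _ _) fun y hy => ?_
    obtain ⟨_, ⟨g, hg, rfl⟩, rfl⟩ := h.comp_le hy
    exact ⟨g, hy, rfl⟩
  have hCE : C ≤ E := fun g hg => by
    show j g ∈ Es
    rw [(hjker g).2 hg]
    exact one_mem _
  refine ⟨E, hCE, fun g hg => ?_, sup_le (fun g hg => ?_) fun g hg => ?_, ?_⟩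
  · obtain ⟨_, ⟨a, ha, rfl⟩, he⟩ := h.comp_le hg
    have h1 : a⁻¹ * g ∈ C := by
      rw [← hjker, map_mul, map_inv, inv_mul_eq_one]
      exact he
    have h2 := mul_mem (mem_sup_left (T := C) ha) (mem_sup_right h1)
    rwa [mul_inv_cancel_left] at h2
  · have hg' := mem_normalizer_iff.1 (h.le_normalizer_comp hgen ⟨π g, ⟨g, hg, rfl⟩, rfl⟩)
    exact mem_normalizer_iff.2 fun x => (hg' (j x)).trans (by
      show j g * j x * (j g)⁻¹ ∈ Es ↔ g * x * g⁻¹ ∈ E
      rw [← map_inv, ← map_mul, ← map_mul]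
      exact Iff.rfl)
  · exact le_normalizer (hCE hg)
  let e1 : ↥E →* ↥Es := (j.comp E.subtype).codRestrict Es fun x => x.2
  have hsurj : Function.Surjective e1 := by
    rintro ⟨y, hy⟩
    obtain ⟨g, hg, rfl⟩ := hmap.ge hy
    exact ⟨⟨g, hg⟩, rfl⟩
  have hker : e1.ker = C.subgroupOf E := by
    ext x
    rw [MonoidHom.mem_ker, mem_subgroupOf, ← hjker]
    exact ⟨fun e => congrArg Subtype.val e, fun e => Subtype.ext e⟩
  obtain ⟨φ⟩ := h.iso
  haveI hn : (C.subgroupOf E).Normal := hker ▸ inferInstance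
  exact ⟨hn, ⟨(QuotientGroup.quotientMulEquivOfEq hker.symm).trans
    ((QuotientGroup.quotientKerEquivOfSurjective e1 hsurj).trans φ)⟩⟩

end CfsgLib.PStab.BestOff
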