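import Cfsg.Agent.Lib.PStab.Offender.AbelianTwo
import Cfsg.Agent.Lib.PStab.Offender.Factorization
import Cfsg.Agent.Lib.Transfer.Sections
import Cfsg.Agent.Lib.Transfer.SolvablePSolvable
import Cfsg.Agent.Lib.Solvable.Fitting
import Cfsg.Agent.Lib.PStab.MaxAdm
import Cfsg.Agent.Lib.FGS.OrdersUpToFour

/-!
Solvable groups with `F(X) = O₂(X)`: the abelian Thompson subgroup induces a direct product of
copies of `S₃` modulo the core of the centraliser of the centre of a Sylow 2-subgroup.
-/

set_option autoImplicit false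

namespace CfsgLib.PStab.AbFactor

open Subgroup Cfsg SemidirectProduct CfsgLib.PStab.BestOff
open scoped commutatorElement

theorem nonempty_SL_two_perm_three :
    Nonempty (Matrix.SpecialLinearGroup (Fin 2) (ZMod 2) ≃* Equiv.Perm (Fin 3)) := by
  refine CfsgLib.FGS.OrdersFour.nonempty_perm_three card_SL_two
    ⟨!![1, 1; 0, 1], by decide⟩ ⟨!![1, 0; 1, 1], by decide⟩ ?_ ?_
  · haveI := Fact.mk Nat.prime_two
    refine orderOf_eq_prime (by decide +kernel) fun h => ?_
    have h1 := congrArg (fun M : Matrix.SpecialLinearGroup (Fin 2) (ZMod 2) => M.1 0 1) h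
    exact absurd h1 (by decide +kernel)
  · intro h
    have h1 := congrArg (fun M : Matrix.SpecialLinearGroup (Fin 2) (ZMod 2) => M.1 0 0) h.eq
    exact absurd h1 (by decide +kernel)

variable {X : Type*} [Group X] [Finite X]

/-- Pieces `Z(S)` over the Sylow 2-subgroups. -/
abbrev piece (S : Sylow 2 X) : Subgroup X := (S : Subgroup X) ⊓ centralizer ((S : Subgroup X) : Set X)

theorem centralizer_iSup_piece (T : Sylow 2 X) :
    centralizer ((⨆ S : Sylow 2 X, piece S : Subgroup X) : Set X) =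
      (centralizer (piece T : Set X)).normalCore := by
  haveI := Fact.mk Nat.prime_two
  refine le_antisymm ?_ fun x hx => ?_
  · have hn : (⨆ S : Sylow 2 X, piece S : Subgroup X).Normal := by
      refine Subgroup.normalizer_eq_top_iff.1 (eq_top_iff.2 fun g _ => ?_)
      refine CfsgLib.LocalEven.mem_normalizer_of_conj_le ?_
      rw [Subgroup.map_iSup]
      refine iSup_le fun S => le_trans ?_ (le_iSup piece (g • S))
      rintro _ ⟨z, hz, rfl⟩
      have e : ((g • S : Sylow 2 X) : Subgroup X) = (S : Subgroup X).map (MulAut.conj g).toMonoidHom := by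
        rw [Sylow.coe_subgroup_smul]
        rfl
      refine ⟨e.ge ⟨z, hz.1, rfl⟩, mem_centralizer_iff.2 fun s hs => ?_⟩
      obtain ⟨s', hs', rfl⟩ := e.le hs
      show g * s' * g⁻¹ * (g * z * g⁻¹) = g * z * g⁻¹ * (g * s' * g⁻¹)
      rw [show g * s' * g⁻¹ * (g * z * g⁻¹) = g * (s' * z) * g⁻¹ by group,
        mem_centralizer_iff.1 hz.2 s' hs']
      group
    haveI := hn
    exact Subgroup.normal_le_normalCore.2 (centralizer_le (le_iSup piece T))
  · have hle : (⨆ S : Sylow 2 X, piece S : Subgroup X) ≤ centralizer ({x} : Set X) := by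
      refine iSup_le fun S z hz => mem_centralizer_singleton_iff.2 ?_
      obtain ⟨g, rfl⟩ := MulAction.exists_smul_eq X T S
      have e : ((g • T : Sylow 2 X) : Subgroup X) = (T : Subgroup X).map (MulAut.conj g).toMonoidHom := by
        rw [Sylow.coe_subgroup_smul]
        rfl
      obtain ⟨z', hz', rfl⟩ := e.le hz.1
      have hzT : z' ∈ piece T := by
        refine ⟨hz', mem_centralizer_iff.2 fun s hs => ?_⟩
        have h1 : g * s * g⁻¹ * (g * z' * g⁻¹) = g * z' * g⁻¹ * (g * s * g⁻¹) :=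
          mem_centralizer_iff.1 hz.2 _ (e.ge ⟨s, hs, rfl⟩)
        rw [show g * s * g⁻¹ * (g * z' * g⁻¹) = g * (s * z') * g⁻¹ by group,
          show g * z' * g⁻¹ * (g * s * g⁻¹) = g * (z' * s) * g⁻¹ by group] at h1
        exact mul_left_cancel (mul_right_cancel h1)
      have h2 := mem_centralizer_iff.1 (hx g⁻¹) z' hzT
      rw [inv_inv] at h2
      calc g * z' * g⁻¹ * x = g * (z' * (g⁻¹ * x * g)) * g⁻¹ := by group
        _ = g * (g⁻¹ * x * g * z') * g⁻¹ := by rw [h2]
        _ = x * (g * z' * g⁻¹) := by group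
    rw [mem_centralizer_iff]
    exact fun v hv => mem_centralizer_singleton_iff.1 (hle hv)

/-- An element of odd order fixing the elements of order at most two of an abelian 2-group fixes it. -/
theorem commute_of_fix_two {V : Subgroup X} (hVc : ∀ a ∈ V, ∀ b ∈ V, a * b = b * a) (hV : IsPGroup 2 V)
    {x : X} (hx : Odd (orderOf x)) (hxV : x ∈ normalizer (V : Set X))
    (hfix : ∀ v ∈ V, v ^ 2 = 1 → x * v = v * x) : ∀ v ∈ V, x * v = v * x := by
  have key : ∀ (k : ℕ), ∀ v ∈ V, v ^ 2 ^ k = 1 → x * v = v * x := by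
    intro k
    induction k with
    | zero => intro v _ h; rw [pow_zero, pow_one] at h; rw [h, mul_one, one_mul]
    | succ k ih =>
      intro v hv h
      have h2 : x * v ^ 2 = v ^ 2 * x := ih _ (pow_mem hv 2) (by rw [← pow_mul, ← pow_succ']; exact h)
      set d := v⁻¹ * (x * v * x⁻¹) with hd
      have hdV : d ∈ V := mul_mem (inv_mem hv) ((mem_normalizer_iff.1 hxV v).1 hv)
      have hd2 : d ^ 2 = 1 := by
        rw [hd, (show Commute v⁻¹ (x * v * x⁻¹) from
          hVc _ (inv_mem hv) _ ((mem_normalizer_iff.1 hxV v).1 hv)).mul_pow, inv_pow, conj_pow, h2,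
          mul_inv_cancel_right, inv_mul_cancel]
      have hxd : Commute x d := hfix d hdV hd2
      have hvd : Commute v d := hVc v hv d hdV
      have hn : ∀ n : ℕ, x ^ n * v * (x ^ n)⁻¹ = v * d ^ n := by
        intro n
        induction n with
        | zero => simp
        | succ n ihn =>
          rw [pow_succ' x, show x * x ^ n * v * (x * x ^ n)⁻¹ = x * (x ^ n * v * (x ^ n)⁻¹) * x⁻¹ by group,
            ihn, show x * (v * d ^ n) * x⁻¹ = x * v * x⁻¹ * (x * d ^ n * x⁻¹) by group,
            show x * v * x⁻¹ = v * d by rw [hd]; group, (hxd.pow_right n).eq, mul_inv_cancel_right,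
            mul_assoc, ← pow_succ']
      have h3 := hn (orderOf x)
      rw [pow_orderOf_eq_one, one_mul, inv_one, mul_one, left_eq_mul] at h3
      have hd1 : d = 1 := by
        obtain ⟨m, hm⟩ := hx
        rw [hm, pow_succ, pow_mul, hd2, one_pow, one_mul] at h3
        exact h3
      exact mul_inv_eq_iff_eq_mul.1 (inv_mul_eq_one.1 hd1).symm
  intro v hv
  obtain ⟨k, hk⟩ := hV ⟨v, hv⟩
  exact key k v hv (congrArg Subtype.val hk)

theorem main [Group.IsSolvable X] (hF : fittingSubgroup X = pCore 2 X) (T : Sylow 2 X) :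
    ((centralizer (piece T : Set X)).normalCore ⊔ normalClosure (thompsonSubgroupAOf (T : Subgroup X) : Set X) ⊔
        normalizer (thompsonSubgroupAOf (T : Subgroup X) : Set X) = ⊤) ∧
    (normalClosure (thompsonSubgroupAOf (T : Subgroup X) : Set X) ≤ (centralizer (piece T : Set X)).normalCore ∨
      ∃ n : ℕ, 1 ≤ n ∧
        Nonempty (↥(normalClosure (thompsonSubgroupAOf (T : Subgroup X) : Set X)) ⧸
            ((centralizer (piece T : Set X)).normalCore).subgroupOf
              (normalClosure (thompsonSubgroupAOf (T : Subgroup X) : Set X))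
          ≃* (Fin n → Equiv.Perm (Fin 3)))) := by
  classical
  haveI := Fact.mk Nat.prime_two
  set J := thompsonSubgroupAOf (T : Subgroup X) with hJ
  set Y := normalClosure (J : Set X) with hY
  haveI hYn : Y.Normal := normalClosure_normal
  have hJT : J ≤ (T : Subgroup X) := map_subtype_le _
  have hJY : J ≤ Y := subset_normalClosure
  refine ⟨?_, ?_⟩
  · -- Frattini argument on `N := C ⊔ Y`
    set N := (centralizer (piece T : Set X)).normalCore ⊔ Y with hN
    haveI : N.Normal := inferInstance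
    obtain ⟨P, hP⟩ := CfsgLib.Transfer.exists_sylow_map_eq_inf N T
    have hfr : normalizer (((P : Subgroup ↥N).map N.subtype : Subgroup X) : Set X) ⊔ N = ⊤ :=
      P.normalizer_sup_eq_top
    rw [eq_top_iff, ← hfr]
    refine sup_le (le_trans ?_ le_sup_right) le_sup_left
    rw [hP]
    intro g hg
    have hJ1 : J = CfsgLib.PStab.jGen 0 ((T : Subgroup X) ⊓ N) := by
      have h1 : CfsgLib.PStab.jGen 0 (T : Subgroup X) = J := (CfsgLib.PStab.thompsonSubgroupAOf_eq_jGen _).symm
      obtain ⟨A₀, hA₀⟩ := CfsgLib.PStab.maxAdm_nonempty 0 (T : Subgroup X)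
      have hle : ∀ A, A ∈ CfsgLib.PStab.maxAdm 0 (T : Subgroup X) → A ≤ (T : Subgroup X) ⊓ N := fun A hA =>
        le_inf hA.1 (((CfsgLib.PStab.le_jGen hA).trans h1.le).trans (hJY.trans le_sup_right))
      rw [← h1]
      unfold CfsgLib.PStab.jGen
      congr 1
      ext A
      exact ⟨fun h => ⟨hle A h, h.2.1, fun B hB hBa => h.2.2 B (hB.trans inf_le_left) hBa⟩,
        fun h => CfsgLib.PStab.maxAdm_of_le inf_le_left hA₀ (hle A₀ hA₀) h⟩
    rw [hJ1]
    refine CfsgLib.LocalEven.mem_normalizer_of_conj_le ?_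
    have e : ((T : Subgroup X) ⊓ N).map (MulAut.conj g).toMonoidHom = (T : Subgroup X) ⊓ N :=
      mem_normalizer_iff_map_conj_eq.1 hg
    rw [← CfsgLib.PStab.jGen_map (e := 0) (MulAut.conj g).injective, e]
  -- the abelian normal subgroup `V₀` and its elements of order at most two
  have hCO : centralizer (pCore 2 X : Set X) ≤ pCore 2 X := hF ▸ CfsgLib.Solvable.centralizer_fittingSubgroup_le
  have hpO : ∀ S : Sylow 2 X, piece S ≤ pCore 2 X := fun S =>
    inf_le_right.trans ((centralizer_le (CfsgLib.Cores.pCore_le_sylow S)).trans hCO)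
  set V₀ : Subgroup X := ⨆ S : Sylow 2 X, piece S with hV₀
  have hV₀O : V₀ ≤ pCore 2 X := iSup_le hpO
  have hV₀C : V₀ ≤ centralizer (pCore 2 X : Set X) := iSup_le fun S =>
    inf_le_right.trans (centralizer_le (CfsgLib.Cores.pCore_le_sylow S))
  have hV₀c : ∀ a ∈ V₀, ∀ b ∈ V₀, a * b = b * a := fun a ha b hb =>
    (mem_centralizer_iff.1 (hV₀C ha) b (hV₀O hb)).symm
  have hV₀p : IsPGroup 2 V₀ := (CfsgLib.Cores.isPGroup_pCore 2).to_le hV₀O
  have hCeq : centralizer (V₀ : Set X) = (centralizer (piece T : Set X)).normalCore := centralizer_iSup_piece T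
  set C := (centralizer (piece T : Set X)).normalCore with hC
  haveI hV₀n : V₀.Normal := by
    refine Subgroup.normalizer_eq_top_iff.1 (eq_top_iff.2 fun g _ => ?_)
    refine CfsgLib.LocalEven.mem_normalizer_of_conj_le ?_
    rw [hV₀, Subgroup.map_iSup]
    refine iSup_le fun S => le_trans ?_ (le_iSup piece (g • S))
    have e : ((g • S : Sylow 2 X) : Subgroup X) = (S : Subgroup X).map (MulAut.conj g).toMonoidHom := by
      rw [Sylow.coe_subgroup_smul]
      rfl
    rw [piece, piece, e, Subgroup.map_inf _ _ _ (MulAut.conj g).injective,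
      CfsgLib.PStab.BestOff.map_conj_centralizer]
  let W : Subgroup X :=
    { carrier := {v | v ∈ V₀ ∧ v ^ 2 = 1}
      one_mem' := ⟨one_mem _, one_pow _⟩
      mul_mem' := fun {a b} ha hb => ⟨mul_mem ha.1 hb.1, by
        rw [(show Commute a b from hV₀c a ha.1 b hb.1).mul_pow, ha.2, hb.2, one_mul]⟩
      inv_mem' := fun {a} ha => ⟨inv_mem ha.1, by rw [inv_pow, ha.2, inv_one]⟩ }
  have hWV : W ≤ V₀ := fun v hv => hv.1
  haveI hWn : W.Normal := ⟨fun v hv g => ⟨hV₀n.conj_mem v hv.1 g, by rw [conj_pow, hv.2, mul_one, mul_inv_cancel]⟩⟩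
  have hWe : IsElementaryAbelian 2 W :=
    PGroup.isElementaryAbelian_mk (fun a ha b hb => hV₀c a ha.1 b hb.1) fun a ha => ha.2
  -- `C(W) = C(V₀)`
  have hCW : centralizer (W : Set X) = centralizer (V₀ : Set X) := by
    haveI : (centralizer (W : Set X)).Normal := Subgroup.normal_centralizer
    refine CfsgLib.Transfer.eq_centralizer_of_iSup (centralizer (W : Set X)) piece (fun S => inf_le_right) rfl
      (centralizer_le hWV) ?_
    set D := centralizer (W : Set X) with hD
    set K := (centralizer (V₀ : Set X)).subgroupOf D with hK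
    haveI : K.Normal := by
      rw [hK]
      haveI : (centralizer (V₀ : Set X)).Normal := Subgroup.normal_centralizer
      infer_instance
    have hq : IsPGroup 2 (↥D ⧸ K) := by
      intro q
      obtain ⟨d, rfl⟩ := QuotientGroup.mk'_surjective K q
      obtain ⟨k, m, hm, hkm⟩ := Nat.exists_eq_two_pow_mul_odd (orderOf_pos (d : X)).ne'
      refine ⟨k, ?_⟩
      rw [← map_pow]
      refine (QuotientGroup.eq_one_iff _).2 ?_
      show ((d ^ 2 ^ k : ↥D) : X) ∈ centralizer (V₀ : Set X)
      have hodd : Odd (orderOf ((d : X) ^ 2 ^ k)) := by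
        rw [orderOf_pow_of_dvd (by positivity) (hkm ▸ dvd_mul_right _ _), hkm,
          Nat.mul_div_cancel_left _ (by positivity)]
        exact hm
      rw [SubgroupClass.coe_pow, mem_centralizer_iff]
      intro v hv
      refine (commute_of_fix_two hV₀c hV₀p hodd ?_ (fun w hw hw2 => ?_) v hv).symm
      · rw [Subgroup.normalizer_eq_top V₀]; exact mem_top _
      · exact (Commute.pow_left (mem_centralizer_iff.1 d.2 w ⟨hw, hw2⟩).symm _).eq
    obtain ⟨k, hk⟩ := IsPGroup.iff_card.1 hq
    exact ⟨k, by rw [← hk]; rfl⟩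
  have hCWC : centralizer (W : Set X) = C := hCW.trans hCeq
  have hO : pCore 2 (X ⧸ centralizer (W : Set X)) = ⊥ := by
    refine CfsgLib.Transfer.pCore_quotient_centralizer_eq_bot W fun D hD hle hk => ?_
    rw [hCW] at hle hk ⊢
    exact CfsgLib.Transfer.eq_centralizer_of_iSup D piece (fun S => inf_le_right) rfl hle hk
  -- the faithful pair
  set π := QuotientGroup.mk' (centralizer (W : Set X)) with hπ
  haveI hKn : (Y.map π).Normal := hYn.map π (QuotientGroup.mk'_surjective _)
  have hsep : IsPSolvable 2 X := CfsgLib.Transfer.isPSolvable_of_isSolvable 2 inferInstance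
  have hS := setup_semi hWe hsep hO (Y.map π)
  set Hs := (Y.map π).map (inr : _ →* Semi W) with hHs
  set Qs := (pPrimeCore 2 ↥Hs).map Hs.subtype with hQs
  haveI : Group.IsSolvable (Semi W) := by
    haveI : Group.IsSolvable ↥W := inferInstance
    exact Group.isSolvable_of_ker_le_range (inl : ↥W →* Semi W) (rightHom : Semi W →* _)
      range_inl_eq_ker_rightHom.ge
  haveI : Group.IsSolvable ↥Qs := inferInstance
  set j : X →* Semi W := (inr : X ⧸ centralizer (W : Set X) →* Semi W).comp π with hj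
  set R := sSup {S : Subgroup (Semi W) | S ≤ Hs ∧ IsTr 2 (semiV W) S} with hR
  have hjker : ∀ g, j g = 1 ↔ g ∈ centralizer (W : Set X) := fun g => by
    constructor
    · intro e
      exact (QuotientGroup.eq_one_iff g).1 (inr_injective (show (inr (π g) : Semi W) = inr 1 by
        rw [map_one]; exact e))
    · intro e
      show (inr (π g) : Semi W) = 1
      rw [show π g = 1 from (QuotientGroup.eq_one_iff g).2 e, map_one]
  have hgen : Hs ≤ R := by
    haveI hRn : (R.comap j).Normal := by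
      refine Subgroup.normalizer_eq_top_iff.1 (eq_top_iff.2 fun g _ => ?_)
      refine CfsgLib.LocalEven.mem_normalizer_of_conj_le ?_
      rintro _ ⟨y, hy, rfl⟩
      show j (g * y * g⁻¹) ∈ R
      rw [map_mul, map_mul, map_inv]
      have hRR : R.map (MulAut.conj (j g)).toMonoidHom ≤ R := by
        rw [Subgroup.map_le_iff_le_comap]
        refine sSup_le fun S hS' => ?_
        rw [← Subgroup.map_le_iff_le_comap]
        refine le_sSup ⟨?_, hS'.2.map_conj (semi_le_normalizer (⊤ : Subgroup _) ⟨π g, mem_top _, rfl⟩)⟩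
        refine (Subgroup.map_mono hS'.1).trans ?_
        rintro _ ⟨_, ⟨q, hq, rfl⟩, rfl⟩
        refine ⟨π g * q * (π g)⁻¹, hKn.conj_mem q hq _, ?_⟩
        rw [map_mul, map_mul, map_inv]
        rfl
      exact hRR ⟨j y, hy, rfl⟩
    rw [hHs, Subgroup.map_le_iff_le_comap, Subgroup.map_le_iff_le_comap]
    refine Subgroup.normalClosure_le_normal (N := R.comap j) ?_
    show J ≤ R.comap j
    rw [hJ, thompsonSubgroupAOf, Subgroup.map_le_iff_le_comap, thompsonSubgroupA]
    refine sSup_le fun A₀ hA₀ => ?_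
    rw [← Subgroup.map_le_iff_le_comap]
    set A := A₀.map (T : Subgroup X).subtype with hA
    have hAT : A ≤ (T : Subgroup X) := map_subtype_le _
    have hAJ : A ≤ J := Subgroup.map_mono (le_sSup hA₀)
    have hAc : ∀ a ∈ A, ∀ b ∈ A, a * b = b * a := by
      rintro _ ⟨a, ha, rfl⟩ _ ⟨b, hb, rfl⟩
      exact congrArg (fun z : ↥(T : Subgroup X) => (z : X))
        (congrArg Subtype.val (hA₀.1.is_comm.comm (⟨a, ha⟩ : A₀) ⟨b, hb⟩))
    have hsA : semiMap W A ≤ Hs := Subgroup.map_mono (Subgroup.map_mono (hAJ.trans hJY))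
    have hoff : Nat.card W ≤ Nat.card (semiMap W A) * Nat.card ↥(W ⊓ centralizer (A : Set X)) := by
      set B := A ⊓ centralizer (W : Set X) with hB
      have hBW : ∀ b ∈ B, ∀ w ∈ W, b * w = w * b := fun b hb w hw => (mem_centralizer_iff.1 hb.2 w hw).symm
      have hBWT : B ⊔ W ≤ (T : Subgroup X) :=
        sup_le (inf_le_left.trans hAT) (hWV.trans (hV₀O.trans (CfsgLib.Cores.pCore_le_sylow T)))
      have hab : IsMulCommutative ↥((B ⊔ W).subgroupOf (T : Subgroup X)) := by
        have hc : B ⊔ W ≤ centralizer ((B ⊔ W : Subgroup X) : Set X) := by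
          refine sup_le ?_ ?_ <;> rw [le_centralizer_iff] <;> refine sup_le ?_ ?_
          · exact fun b hb => mem_centralizer_iff.2 fun c hc => hAc c hc.1 b hb.1
          · exact fun w hw => mem_centralizer_iff.2 fun c hc => hBW c hc w hw
          · exact fun b hb => mem_centralizer_iff.2 fun w hw => (hBW b hb w hw).symm
          · exact fun w hw => mem_centralizer_iff.2 fun v hv => PGroup.elemAb_comm hWe hv hw
        exact ⟨⟨fun a b => Subtype.ext (Subtype.ext (mem_centralizer_iff.1 (hc b.2) _ a.2))⟩⟩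
      have h1 := hA₀.2 _ hab
      rw [Nat.card_congr (subgroupOfEquivOfLe hBWT).toEquiv,
        ← card_map_of_injective (K := A₀) (T : Subgroup X).subtype_injective, ← hA] at h1
      have h2 := Transfer.card_mul_card_of_commute B W hBW
      have h3 : Nat.card ↥(B ⊓ W) ≤ Nat.card ↥(W ⊓ centralizer (A : Set X)) :=
        card_le_of_le fun z hz => ⟨hz.2, mem_centralizer_iff.2 fun a ha => hAc a ha z hz.1.1⟩
      have h4 : Nat.card B * Nat.card W ≤ Nat.card B * (Nat.card (semiMap W A) * Nat.card ↥(W ⊓ centralizer (A : Set X))) := by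
        calc Nat.card B * Nat.card W = Nat.card ↥(B ⊔ W) * Nat.card ↥(B ⊓ W) := h2
          _ ≤ Nat.card A * Nat.card ↥(W ⊓ centralizer (A : Set X)) := Nat.mul_le_mul h1 h3
          _ = _ := by rw [card_eq_semiMap_mul (V := W) A]; ring
      exact Nat.le_of_mul_le_mul_left h4 Nat.card_pos
    have hcomm : ∀ a ∈ semiMap W A, ∀ b ∈ semiMap W A, a * b = b * a := by
      rintro _ ⟨_, ⟨a, ha, rfl⟩, rfl⟩ _ ⟨_, ⟨b, hb, rfl⟩, rfl⟩
      rw [← map_mul, ← map_mul, ← map_mul, ← map_mul, hAc a ha b hb]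
    obtain ⟨hle, heq⟩ := hS.card_le_abelian (((T.2.to_le hAT).map π).map inr) hcomm hsA
    rw [card_semiV, card_fix] at hle heq
    have he := le_antisymm hle hoff
    have hEq : IsEq 2 (semiV W) (semiMap W A) := ⟨heq he, by rw [card_semiV, card_fix]; exact he⟩
    have h5 := (hS.le_sSup_isTr hEq hsA).trans
      (sSup_le_sSup fun S hS' => ⟨hS'.1.trans hsA, hS'.2⟩ : _ ≤ R)
    exact fun a ha => h5 ⟨π a, ⟨a, ha, rfl⟩, rfl⟩
  -- the two cases
  set e1 : ↥Y →* ↥Hs := (j.comp Y.subtype).codRestrict Hs fun y => ⟨π y, ⟨y, y.2, rfl⟩, rfl⟩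
  have hsurj : Function.Surjective e1 := by
    rintro ⟨_, ⟨_, ⟨y, hy, rfl⟩, rfl⟩⟩
    exact ⟨⟨y, hy⟩, rfl⟩
  have hker : e1.ker = C.subgroupOf Y := by
    ext y
    rw [MonoidHom.mem_ker, mem_subgroupOf, ← hCWC, ← hjker]
    exact ⟨fun e => congrArg Subtype.val e, fun e => Subtype.ext e⟩
  by_cases hH : Hs = ⊥
  · left
    intro y hy
    show y ∈ C
    rw [← hCWC, ← hjker]
    exact Subgroup.mem_bot.1 (hH.le ⟨π y, ⟨y, hy, rfl⟩, rfl⟩)
  right
  set P : Subgroup (Semi W) → Prop := fun E => ∃ S, CompHyp 2 (semiV W) Hs Qs S ∧ E = comp Qs S with hP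
  obtain ⟨T₀, hT₀⟩ := hS.exists_isTr hgen hH
  let ι := {E : Subgroup (Semi W) // P E}
  haveI : Nonempty ι := ⟨⟨_, T₀, hT₀, rfl⟩⟩
  haveI := Fintype.ofFinite ι
  have hinj : Function.Injective (fun E : ι => (E : Subgroup (Semi W))) := Subtype.val_injective
  have hf : ∀ E : ι, ∃ S, CompHyp 2 (semiV W) Hs Qs S ∧ (E : Subgroup (Semi W)) = comp Qs S := fun E => E.2
  have hall : ∀ S, CompHyp 2 (semiV W) Hs Qs S → ∃ E : ι, (E : Subgroup (Semi W)) = comp Qs S :=
    fun S hS' => ⟨⟨_, S, hS', rfl⟩, rfl⟩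
  have hpw : Pairwise fun i k : ι => ∀ x y : Semi W, x ∈ (i : Subgroup (Semi W)) → y ∈ (k : Subgroup (Semi W)) →
      Commute x y := by
    intro i k hik x y hx hy
    obtain ⟨S, hS1, he⟩ := hf i
    obtain ⟨S', hS2, he'⟩ := hf k
    rcases hS1.comp_eq_or_le hgen hS2 with h | h
    · exact absurd (hinj (he.trans (h.symm.trans he'.symm))) hik
    · have h1 : ⁅x, y⁆ ∈ (⊥ : Subgroup (Semi W)) :=
        (hS1.commutator_eq_bot hgen).le (commutator_mem_commutator (he.le hx) (h (he'.le hy)))
      exact commutatorElement_eq_one_iff_mul_comm.1 (Subgroup.mem_bot.1 h1)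
  have hind := Setup.iSupIndep_comp hgen hinj hf
  have hsup := Setup.iSup_comp hgen hS hf hall
  let Φ := Subgroup.noncommPiCoprod hpw
  have hΦi : Function.Injective Φ := Subgroup.injective_noncommPiCoprod_of_iSupIndep hind
  have hΦr : Φ.range = Hs := (Subgroup.noncommPiCoprod_range).trans hsup
  have hiso : ∀ i : ι, Nonempty (↥(i : Subgroup (Semi W)) ≃* Equiv.Perm (Fin 3)) := fun i => by
    obtain ⟨S, hS1, he⟩ := hf i
    obtain ⟨φ⟩ := hS1.iso
    obtain ⟨ψ⟩ := nonempty_SL_two_perm_three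
    exact ⟨((MulEquiv.subgroupCongr he).trans φ).trans ψ⟩
  let ψ := fun i : ι => Classical.choice (hiso i)
  refine ⟨Fintype.card ι, Fintype.card_pos, ⟨?_⟩⟩
  let e2 : ↥Y ⧸ C.subgroupOf Y ≃* ↥Hs := (QuotientGroup.quotientMulEquivOfEq hker.symm).trans
    (QuotientGroup.quotientKerEquivOfSurjective e1 hsurj)
  let e3 : ↥Hs ≃* (∀ i : ι, ↥(i : Subgroup (Semi W))) :=
    ((MonoidHom.ofInjective hΦi).trans (MulEquiv.subgroupCongr hΦr)).symm
  let e4 : (∀ i : ι, ↥(i : Subgroup (Semi W))) ≃* (ι → Equiv.Perm (Fin 3)) := MulEquiv.piCongrRight ψ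
  let e5 : (ι → Equiv.Perm (Fin 3)) ≃* (Fin (Fintype.card ι) → Equiv.Perm (Fin 3)) :=
    { Equiv.arrowCongr (Fintype.equivFin ι) (Equiv.refl _) with map_mul' := fun _ _ => rfl }
  exact ((e2.trans e3).trans e4).trans e5

end CfsgLib.PStab.AbFactor
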