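import Cfsg.Agent.Lib.PStab.Offender.Structure
import Cfsg.Agent.Lib.LocalEven.Offender
import Cfsg.Agent.Lib.Local.AB

/-!
Abelian (not necessarily elementary) offenders for `p = 2` in a faithful pair with solvable core:
`|A| |C_V(A)| ≤ |V|`, with equality only for elementary abelian groups.
-/

set_option autoImplicit false

namespace CfsgLib.PStab.BestOff

open Subgroup Cfsg
open scoped commutatorElement

variable {G : Type*} [Group G] [Finite G] {V H Q : Subgroup G}

/-- Two commuting involutory automorphisms of an abelian-modulo-`C(A)` odd group: the combinatorial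
core of the cyclicity of `A / C_A(R)`. -/
theorem eq_of_minimal_pair {R A : Subgroup G} (hR : (Nat.card R).Coprime 2)
    {x y : G} (hxA : x ∈ A) (hyA : y ∈ A) (hxy : x * y = y * x)
    (hxn : ∀ r ∈ R, x * r * x⁻¹ ∈ R) (hyn : ∀ r ∈ R, y * r * y⁻¹ ∈ R)
    (hx2 : ∀ r ∈ R, (x * x) * r = r * (x * x)) (hy2 : ∀ r ∈ R, (y * y) * r = r * (y * y))
    (hD : ⁅R, R⁆ ≤ centralizer (A : Set G))
    (hx : ∀ r ∈ R, x * r = r * x → r ∈ centralizer (A : Set G))
    (hy : ∀ r ∈ R, y * r = r * y → r ∈ centralizer (A : Set G))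
    (hxy' : ∀ r ∈ R, (x * y) * r = r * (x * y) → r ∈ centralizer (A : Set G)) :
    ∀ r ∈ R, x * r = r * x := by
  have hodd : ∀ d ∈ R, d * d = 1 → d = 1 := by
    intro d hd h
    have h1 : orderOf d ∣ 2 := orderOf_dvd_of_pow_eq_one (by rw [pow_two, h])
    have h2 : orderOf d ∣ Nat.card R := Subgroup.orderOf_dvd_natCard R hd
    rw [← orderOf_eq_one_iff]
    exact Nat.eq_one_of_dvd_coprimes hR h2 h1
  have hfix : ∀ {z : G}, z ∈ A → ∀ d ∈ centralizer (A : Set G), z * d * z⁻¹ = d := by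
    intro z hz d hd
    rw [mem_centralizer_iff.1 hd z hz, mul_inv_cancel_right]
  intro r hr
  set d := r⁻¹ * (x * r * x⁻¹) with hd
  have hdR : d ∈ R := mul_mem (inv_mem hr) (hxn r hr)
  have hxd : x * d * x⁻¹ = d⁻¹ := by
    have h1 : x * (x * r * x⁻¹) * x⁻¹ = r := by
      rw [show x * (x * r * x⁻¹) * x⁻¹ = (x * x) * r * (x * x)⁻¹ by group, hx2 r hr,
        mul_inv_cancel_right]
    calc x * d * x⁻¹ = (x * r * x⁻¹)⁻¹ * (x * (x * r * x⁻¹) * x⁻¹) := by rw [hd]; group
      _ = (x * r * x⁻¹)⁻¹ * r := by rw [h1]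
      _ = d⁻¹ := by rw [hd]; group
  set d' := y * d * y⁻¹ with hd'
  have hd'R : d' ∈ R := hyn d hdR
  have hxd' : x * d' * x⁻¹ = d'⁻¹ := by
    calc x * d' * x⁻¹ = (x * y) * d * (x * y)⁻¹ := by rw [hd']; group
      _ = (y * x) * d * (y * x)⁻¹ := by rw [hxy]
      _ = y * (x * d * x⁻¹) * y⁻¹ := by group
      _ = d'⁻¹ := by rw [hxd, hd']; group
  set e := d⁻¹ * d' with he
  have heR : e ∈ R := mul_mem (inv_mem hdR) hd'R
  have hye : y * e * y⁻¹ = e⁻¹ := by
    have h1 : y * d' * y⁻¹ = d := by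
      rw [hd', show y * (y * d * y⁻¹) * y⁻¹ = (y * y) * d * (y * y)⁻¹ by group, hy2 d hdR,
        mul_inv_cancel_right]
    calc y * e * y⁻¹ = (y * d * y⁻¹)⁻¹ * (y * d' * y⁻¹) := by rw [he]; group
      _ = e⁻¹ := by rw [h1, he, ← hd']; group
  set δ := e⁻¹ * (d' * d⁻¹) with hδ
  have hδD : δ ∈ ⁅R, R⁆ := by
    have h1 := commutator_mem_commutator (inv_mem hd'R) hdR
    rw [commutatorElement_def, inv_inv] at h1
    convert h1 using 1
    rw [hδ, he]
    group
  have hδR : δ ∈ R := mul_mem (inv_mem heR) (mul_mem hd'R (inv_mem hdR))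
  have hxye : (x * y) * e * (x * y)⁻¹ = e * δ := by
    calc (x * y) * e * (x * y)⁻¹ = x * (y * e * y⁻¹) * x⁻¹ := by group
      _ = x * (d'⁻¹ * d) * x⁻¹ := by rw [hye, he]; group
      _ = (x * d' * x⁻¹)⁻¹ * (x * d * x⁻¹) := by group
      _ = e * δ := by rw [hxd', hxd, hδ]; group
  have hδ1 : δ = 1 := by
    refine hodd δ hδR ?_
    have h1 : (x * y) * δ * (x * y)⁻¹ = δ := hfix (mul_mem hxA hyA) δ (hD hδD)
    have h2 : (x * y) * (e * δ) * (x * y)⁻¹ = e := by
      rw [← hxye, show (x * y) * ((x * y) * e * (x * y)⁻¹) * (x * y)⁻¹ =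
        (x * y * (x * y)) * e * (x * y * (x * y))⁻¹ by group]
      have h3 : x * y * (x * y) = (x * x) * (y * y) := by
        calc x * y * (x * y) = x * (y * x) * y := by group
          _ = (x * x) * (y * y) := by rw [← hxy]; group
      rw [h3, show (x * x) * (y * y) * e * ((x * x) * (y * y))⁻¹ =
        (x * x) * ((y * y) * e) * (y * y)⁻¹ * (x * x)⁻¹ by group, hy2 e heR,
        show (x * x) * (e * (y * y)) * (y * y)⁻¹ * (x * x)⁻¹ = (x * x) * e * (x * x)⁻¹ by group,
        hx2 e heR, mul_inv_cancel_right]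
    rw [show (x * y) * (e * δ) * (x * y)⁻¹ =
      (x * y) * e * (x * y)⁻¹ * ((x * y) * δ * (x * y)⁻¹) by group, hxye, h1, mul_assoc] at h2
    exact mul_eq_left.1 h2
  rw [hδ1, mul_one] at hxye
  have he1 : e = 1 := by
    have h1 : y * e * y⁻¹ = e := hfix hyA e (hxy' e heR (mul_inv_eq_iff_eq_mul.1 hxye))
    refine hodd e heR ?_
    rw [h1] at hye
    exact mul_eq_one_iff_eq_inv.2 hye
  have hd1 : d = 1 := by
    have h0 : d' = d := (inv_mul_eq_one.1 he1).symm
    have h1 : x * d * x⁻¹ = d := hfix hxA d (hy d hdR (mul_inv_eq_iff_eq_mul.1 h0))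
    refine hodd d hdR ?_
    rw [h1] at hxd
    exact mul_eq_one_iff_eq_inv.2 hxd
  exact mul_inv_eq_iff_eq_mul.1 ((inv_mul_eq_one.1 hd1).symm)

namespace Setup

variable [Fact (Nat.Prime 2)]

/-- For a nontrivial abelian `A` some subgroup of index two has more fixed points on `V`. -/
theorem exists_half (hS : Setup 2 V H Q) [Group.IsSolvable Q] {A : Subgroup G} (hA : IsPGroup 2 A)
    (hAc : ∀ a ∈ A, ∀ b ∈ A, a * b = b * a) (hAH : A ≤ H) (h1 : A ≠ ⊥) :
    ∃ M : Subgroup G, ∃ a ∈ A, M < A ∧ a * a ∈ M ∧ (∀ z ∈ A, z ∈ M ∨ z * a ∈ M) ∧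
      Nat.card A = Nat.card M * 2 ∧
      V ⊓ centralizer (A : Set G) < V ⊓ centralizer (M : Set G) := by
  classical
  have hAn : A ≤ normalizer (A : Set G) := le_normalizer
  set P : Subgroup G → Prop := fun R =>
    R ≤ Q ∧ A ≤ normalizer (R : Set G) ∧ ¬ A ≤ centralizer (R : Set G) with hP
  have hPQ : P Q := ⟨le_rfl, hAH.trans hS.Q_norm, hS.not_le_centralizer hA hAH h1⟩
  obtain ⟨R, -, ⟨hRQ, hAR, hRm⟩, hmin⟩ := Finite.exists_le_minimal (p := P) hPQ
  have hsmall : ∀ S : Subgroup G, S < R → A ≤ normalizer (S : Set G) → S ≤ centralizer (A : Set G) :=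
    fun S hS hAS => le_centralizer_iff.1 (by
      by_contra h
      exact hS.not_ge (hmin ⟨hS.le.trans hRQ, hAS, h⟩ hS.le))
  have hconjR : ∀ z ∈ A, ∀ r ∈ R, z * r * z⁻¹ ∈ R := fun z hz r hr =>
    (mem_normalizer_iff.1 (hAR hz) r).1 hr
  have hD : ⁅R, R⁆ ≤ centralizer (A : Set G) := by
    refine hsmall _ ?_ fun z hz => ?_
    · refine lt_of_le_of_ne (commutator_le_self R) fun e => ?_
      have hRne : R ≠ ⊥ := fun e0 => hRm (fun z _ => mem_centralizer_iff.2 fun r hr => by
        have hr1 : r = 1 := by rw [e0] at hr; exact hr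
        rw [hr1, one_mul, mul_one])
      have hlt := Group.IsSolvable.commutator_lt_of_ne_bot (G := ↥Q) (H := R.subgroupOf Q)
        (fun e1 => hRne (by
          rw [eq_bot_iff, ← subgroupOf_map_subtype R Q |>.trans (inf_eq_left.2 hRQ), e1,
            Subgroup.map_bot]))
      have h2 : (⁅R.subgroupOf Q, R.subgroupOf Q⁆).map Q.subtype = ⁅R, R⁆ := by
        rw [map_commutator, subgroupOf_map_subtype, inf_eq_left.2 hRQ]
      have h3 := (map_lt_map_iff_of_injective Q.subtype_injective).2 hlt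
      rw [h2, subgroupOf_map_subtype, inf_eq_left.2 hRQ, e] at h3
      exact lt_irrefl _ h3
    · rw [mem_normalizer_iff_map_conj_eq, ← MulEquiv.toMonoidHom_eq_coe, map_commutator,
        MulEquiv.toMonoidHom_eq_coe, mem_normalizer_iff_map_conj_eq.1 (hAR hz)]
  have hRcop : (Nat.card R).Coprime 2 := hS.Q_cop.coprime_dvd_left (card_dvd_of_le hRQ)
  set B := A ⊓ centralizer (R : Set G) with hB
  have hfix : ∀ z ∈ A, z ∉ B → ∀ r ∈ R, z * r = r * z → r ∈ centralizer (A : Set G) := by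
    intro z hz hzB r hr hc
    refine hsmall (R ⊓ centralizer {z}) (lt_of_le_of_ne inf_le_left fun e => hzB ⟨hz, ?_⟩)
      (fun w hw => ?_) ⟨hr, mem_centralizer_singleton_iff.2 hc.symm⟩
    · refine mem_centralizer_iff.2 fun s hs => ?_
      exact mem_centralizer_singleton_iff.1 (e.ge hs).2
    · refine CfsgLib.LocalEven.mem_normalizer_of_conj_le ?_
      rintro _ ⟨s, hs, rfl⟩
      refine ⟨hconjR w hw s hs.1, mem_centralizer_singleton_iff.2 ?_⟩
      have h2 : Commute s z := mem_centralizer_singleton_iff.1 hs.2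
      have h3 : Commute w z := hAc w hw z hz
      show Commute (w * s * w⁻¹) z
      exact (h3.mul_left h2).mul_left h3.inv_left
  -- the quotient `A / B` is cyclic
  obtain ⟨a, haA, hAa⟩ : ∃ a ∈ A, A ≤ B ⊔ zpowers a := by
    by_contra hc
    push Not at hc
    have hne : ¬ A ≤ B := fun h => hRm (h.trans inf_le_right)
    obtain ⟨x, y, hxA, hyA, hx2, hy2, hxB, hyB⟩ :=
      CfsgLib.LocalEven.Offender.exists_pair hA hAc inf_le_left hne hc
    rw [pow_two] at hx2 hy2
    have hyB' : y ∉ B := fun h => hyB (mem_sup_left h)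
    have hxyB : x * y ∉ B := fun h => hyB (by
      simpa using mul_mem (mem_sup_right (S := B) (inv_mem (mem_zpowers x))) (mem_sup_left h))
    refine hxB ⟨hxA, mem_centralizer_iff.2 fun r hr => (eq_of_minimal_pair hRcop hxA hyA
      (hAc x hxA y hyA) (hconjR x hxA) (hconjR y hyA)
      (fun r hr => (mem_centralizer_iff.1 hx2.2 r hr).symm)
      (fun r hr => (mem_centralizer_iff.1 hy2.2 r hr).symm) hD (hfix x hxA hxB) (hfix y hyA hyB')
      (hfix _ (mul_mem hxA hyA) hxyB) r hr).symm⟩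
  set U := V ⊓ centralizer (B : Set G) with hU
  have haV := hS.le_norm (hAH haA)
  have haU : a ∈ normalizer (U : Set G) := CfsgLib.LocalEven.mem_normalizer_of_conj_le (by
    rintro _ ⟨v, hv, rfl⟩
    refine ⟨(mem_normalizer_iff.1 haV v).1 hv.1, mem_centralizer_iff.2 fun b hb => ?_⟩
    have h2 : Commute b v := mem_centralizer_iff.1 hv.2 b hb
    have h3 : Commute b a := hAc b hb.1 a haA
    show Commute b (a * v * a⁻¹)
    exact (h3.mul_right h2).mul_right h3.inv_right)
  obtain ⟨w, hw, hwp, hwn⟩ : ∃ w ∈ U, w * a ^ 2 = a ^ 2 * w ∧ a * w ≠ w * a := by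
    by_contra hc
    push Not at hc
    have hcomm : ∀ v ∈ U, a * v = v * a :=
      CfsgLib.LocalEven.Offender.commute_of_fixed_pow (PGroup.elemAb_mono hS.elem inf_le_left) haU
        (hA.to_le (zpowers_le.2 haA)) (fun v hv h => hc v hv h.symm)
    refine hRm (hAa.trans (sup_le inf_le_right (zpowers_le.2 (mem_centralizer_iff.2 fun r hr => ?_))))
    set c := a * r * a⁻¹ * r⁻¹ with hcdef
    have hcR : c ∈ R := mul_mem (hconjR a haA r hr) (inv_mem hr)
    have hcH : c ∈ H := hS.Q_le (hRQ hcR)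
    have hBA : B ≤ A := inf_le_left
    have hcB : ∀ b ∈ B, c * b = b * c := fun b hb => mem_centralizer_iff.1 hb.2 c hcR
    have hrV : r ∈ normalizer (V : Set G) := hS.le_norm (hS.Q_le (hRQ hr))
    have hcV : ∀ v ∈ V, c * v = v * c := by
      refine Local.commute_of_commute_fixedPoints (hA.to_le hBA) hcB
        (hRcop.coprime_dvd_left (Subgroup.orderOf_dvd_natCard R hcR)) V
        (PGroup.elemAb_isPGroup hS.elem) ((hBA.trans hAH).trans hS.le_norm) (hS.le_norm hcH) ?_
      intro v hv hvB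
      have h2 : r⁻¹ * v * r ∈ U := by
        refine ⟨by simpa using (mem_normalizer_iff.1 (inv_mem hrV) v).1 hv,
          mem_centralizer_iff.2 fun b hb => ?_⟩
        have e2 : Commute b r := (mem_centralizer_iff.1 hb.2 r hr).symm
        exact ((e2.inv_right.mul_right (hvB b hb)).mul_right e2).eq
      have h3 : Commute a (r⁻¹ * v * r) := hcomm _ h2
      have h4 : Commute a v := hcomm v ⟨hv, mem_centralizer_iff.2 hvB⟩
      have e4 : a⁻¹ * v * a = v := by rw [mul_assoc, ← h4.eq, inv_mul_cancel_left]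
      refine mul_inv_eq_iff_eq_mul.1 ?_
      calc c * v * c⁻¹ = a * r * (a⁻¹ * (r⁻¹ * v * r) * a) * r⁻¹ * a⁻¹ := by rw [hcdef]; group
        _ = a * r * (r⁻¹ * v * r) * r⁻¹ * a⁻¹ := by
          rw [show a⁻¹ * (r⁻¹ * v * r) * a = r⁻¹ * v * r by rw [mul_assoc, ← h3.eq, inv_mul_cancel_left]]
        _ = a * v * a⁻¹ := by group
        _ = v := by rw [h4.eq, mul_inv_cancel_right]
    have hc1 : c = 1 := hS.eq_one hcH fun v hv => by rw [hcV v hv, mul_inv_cancel_right]
    exact (mul_inv_eq_iff_eq_mul.1 (mul_inv_eq_one.1 hc1)).symm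
  set M := B ⊔ zpowers (a ^ 2) with hM
  have hMA : M ≤ A := sup_le inf_le_left (zpowers_le.2 (pow_mem haA 2))
  have ha2 : a * a ∈ M := by rw [← pow_two]; exact mem_sup_right (mem_zpowers _)
  have hwM : w ∈ V ⊓ centralizer (M : Set G) := by
    refine ⟨hw.1, ?_⟩
    have h2 : M ≤ centralizer ({w} : Set G) := sup_le
      (fun b hb => mem_centralizer_singleton_iff.2 (mem_centralizer_iff.1 hw.2 b hb))
      (zpowers_le.2 (mem_centralizer_singleton_iff.2 hwp.symm))
    exact mem_centralizer_iff.2 fun m hm => mem_centralizer_singleton_iff.1 (h2 hm)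
  have hwA : w ∉ V ⊓ centralizer (A : Set G) := fun h => hwn (mem_centralizer_iff.1 h.2 a haA)
  have hlt : M < A := lt_of_le_of_ne hMA fun e => hwA ⟨hw.1, e ▸ hwM.2⟩
  have haM : ∀ z ∈ A, z ∈ M ∨ z * a ∈ M := by
    let S : Subgroup G :=
      { carrier := {z | z ∈ A ∧ (z ∈ M ∨ z * a ∈ M)}
        one_mem' := ⟨one_mem _, Or.inl (one_mem _)⟩
        mul_mem' := by
          rintro z u ⟨hzA, hz⟩ ⟨huA, hu⟩
          refine ⟨mul_mem hzA huA, ?_⟩
          rcases hz with hz | hz <;> rcases hu with hu | hu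
          · exact Or.inl (mul_mem hz hu)
          · exact Or.inr (by rw [mul_assoc]; exact mul_mem hz hu)
          · refine Or.inr ?_
            rw [show z * u * a = z * a * u by rw [mul_assoc, hAc u huA a haA, ← mul_assoc]]
            exact mul_mem hz hu
          · refine Or.inl ?_
            have h := mul_mem (mul_mem hz hu) (inv_mem ha2)
            rwa [show z * a * (u * a) * (a * a)⁻¹ = z * u by
              rw [show z * a * (u * a) * (a * a)⁻¹ = z * (a * u) * a⁻¹ by group, ← hAc u huA a haA]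
              group] at h
        inv_mem' := by
          rintro z ⟨hzA, hz⟩
          refine ⟨inv_mem hzA, ?_⟩
          rcases hz with hz | hz
          · exact Or.inl (inv_mem hz)
          · refine Or.inr ?_
            have h := mul_mem ha2 (inv_mem hz)
            rwa [show a * a * (z * a)⁻¹ = z⁻¹ * a by
              rw [show a * a * (z * a)⁻¹ = a * z⁻¹ by group]
              exact (hAc z⁻¹ (inv_mem hzA) a haA).symm] at h }
    have hS' : A ≤ S := hAa.trans (sup_le
      (fun b hb => ⟨hb.1, Or.inl (mem_sup_left hb)⟩) (zpowers_le.2 ⟨haA, Or.inr ha2⟩))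
    exact fun z hz => (hS' hz).2
  refine ⟨M, a, haA, hlt, ha2, haM, le_antisymm ?_ (card_mul_le_of_lt hA hlt),
    lt_of_le_of_ne (inf_le_inf_left _ (centralizer_le hMA)) fun e => hwA (e ▸ hwM)⟩
  let f : ↥M × Fin 2 → ↥A := fun u =>
    if u.2 = 0 then ⟨u.1, hMA u.1.2⟩ else ⟨u.1 * a⁻¹, mul_mem (hMA u.1.2) (inv_mem haA)⟩
  have hf : Function.Surjective f := by
    rintro ⟨z, hz⟩
    rcases haM z hz with h | h
    · exact ⟨(⟨z, h⟩, 0), rfl⟩
    · exact ⟨(⟨z * a, h⟩, 1), Subtype.ext (mul_inv_cancel_right z a)⟩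
  have := Nat.card_le_card_of_surjective f hf
  rwa [Nat.card_prod, Nat.card_fin] at this

/-- An element of a group of transvections fixing all their planes is trivial. -/
theorem eq_one_of_fix_planes (hS : Setup 2 V H Q) {M : Subgroup G} (hM : IsEq 2 V M) (hMH : M ≤ H)
    {t : G} (ht : t ∈ M)
    (hfix : ∀ T ≤ M, IsTr 2 V T → t ∈ centralizer ((⁅V, comp Q T⁆ : Subgroup G) : Set G)) :
    t = 1 := by
  classical
  obtain ⟨k, B, hB, hind, hsup⟩ := hS.exists_decomposition hMH (hS.best_of_isEq hMH hM)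
  have hcomp : ∀ i, CompHyp 2 V H Q (B i) := fun i => ⟨hS, (hB i).1.trans hMH, (hB i).2⟩
  have hother : ∀ i j, i ≠ j → B i ≤ centralizer ((⁅V, comp Q (B j)⁆ : Subgroup G) : Set G) := by
    intro i j hij
    rcases (hcomp j).dichotomy ((hB i).1.trans hMH) (hB i).2 with h | h
    · exfalso
      have hd : B i ⊓ B j = ⊥ := disjoint_iff.1 (hind.pairwiseDisjoint hij)
      have hn : B j ≤ normalizer (B i : Set G) := fun x hx => centralizer_le_normalizer _
        (mem_centralizer_iff.2 fun y hy => PGroup.elemAb_comm hM.1 ((hB i).1 hy) ((hB j).1 hx))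
      have h4 := Solvable.card_sup_of_disjoint hn hd
      rw [(hB i).2.1, (hB j).2.1] at h4
      have h6 := card_dvd_of_le (sup_le h le_sup_right : B i ⊔ B j ≤ comp Q (B j))
      obtain ⟨φ⟩ := (hcomp j).iso
      rw [h4, Nat.card_congr φ.toEquiv, card_SL_two] at h6
      omega
    · exact h
  have key : ∀ s : Finset (Fin k), t ∈ s.sup B → t = 1 := by
    intro s
    induction s using Finset.induction with
    | empty => intro h; simpa using h
    | insert j s hj ih =>
      intro h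
      rw [Finset.sup_insert] at h
      have hn : s.sup B ≤ normalizer (B j : Set G) := fun x hx => centralizer_le_normalizer _
        (mem_centralizer_iff.2 fun y hy => PGroup.elemAb_comm hM.1 ((hB j).1 hy)
          ((Finset.sup_le fun i _ => (hB i).1 : s.sup B ≤ M) hx))
      rw [← SetLike.mem_coe, coe_mul_of_right_le_normalizer_left _ _ hn, Set.mem_mul] at h
      obtain ⟨x, hx, y, hy, hxy⟩ := h
      have hyC : y ∈ centralizer ((⁅V, comp Q (B j)⁆ : Subgroup G) : Set G) :=
        (Finset.sup_le fun i hi => hother i j fun e : i = j => hj (e ▸ hi) : s.sup B ≤ _) hy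
      have hxC : x ∈ centralizer ((⁅V, comp Q (B j)⁆ : Subgroup G) : Set G) := by
        have h1 := mul_mem (hfix _ (hB j).1 (hB j).2) (inv_mem hyC)
        rwa [← hxy, mul_inv_cancel_right] at h1
      have hx1 : x ∈ (⊥ : Subgroup G) := (hcomp j).comp_inf ▸ ⟨mem_sup_right hx, hxC⟩
      rw [Subgroup.mem_bot] at hx1
      apply ih
      rw [← hxy, hx1, one_mul]
      exact hy
  apply key Finset.univ
  rw [Finset.sup_univ_eq_iSup, hsup]
  exact ht

/-- An element commuting with a transvection group squares to an element fixing its plane. -/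
theorem sq_mem_centralizer_plane (hS : Setup 2 V H Q) {T : Subgroup G} (hTH : T ≤ H)
    (hT : IsTr 2 V T) {a : G} (haH : a ∈ H) (hcomm : ∀ t ∈ T, a * t = t * a) :
    a * a ∈ centralizer ((⁅V, comp Q T⁆ : Subgroup G) : Set G) := by
  have h : CompHyp 2 V H Q T := ⟨hS, hTH, hT⟩
  set W := ⁅V, comp Q T⁆ with hW
  obtain ⟨⟨τ, hτ⟩, hτ1⟩ := exists_ne_of_card (p := 2) hT.1
  have hτne : τ ≠ 1 := fun e => hτ1 (Subtype.ext e)
  have hTn : T.map (MulAut.conj a).toMonoidHom = T := by
    refine eq_of_le_of_card_ge ?_ (card_map_of_injective (MulAut.conj a).injective).ge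
    rintro _ ⟨t, ht, rfl⟩
    show a * t * a⁻¹ ∈ T
    rwa [hcomm t ht, mul_inv_cancel_right]
  have haW : a ∈ normalizer (W : Set G) := by
    rw [mem_normalizer_iff_map_conj_eq, hW, comp, ← MulEquiv.toMonoidHom_eq_coe, map_commutator,
      Subgroup.map_sup, map_commutator, hTn, MulEquiv.toMonoidHom_eq_coe,
      mem_normalizer_iff_map_conj_eq.1 (hS.le_norm haH),
      mem_normalizer_iff_map_conj_eq.1 (hS.Q_norm haH)]
  have hτW : τ ∈ normalizer (W : Set G) :=
    le_normalizer_of_commutator_le h.plane_le le_rfl (mem_sup_right hτ)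
  have hτ2 : τ * τ = 1 := by rw [← pow_two]; exact hT.isEq.1.2 τ hτ
  obtain ⟨w, hw, hwτ⟩ : ∃ w ∈ W, τ * w * τ⁻¹ ≠ w := by
    by_contra hc
    push Not at hc
    refine hτne ?_
    have : τ ∈ comp Q T ⊓ centralizer (W : Set G) :=
      ⟨mem_sup_right hτ, mem_centralizer_iff.2 fun w hw => (mul_inv_eq_iff_eq_mul.1 (hc w hw)).symm⟩
    rwa [h.comp_inf, Subgroup.mem_bot] at this
  set c := τ * w * τ⁻¹ * w⁻¹ with hcdef
  have hcW : c ∈ W := mul_mem ((mem_normalizer_iff.1 hτW w).1 hw) (inv_mem hw)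
  have hc1 : c ≠ 1 := fun e => hwτ (mul_inv_eq_one.1 e)
  have hinv : ∀ z ∈ W, z⁻¹ = z := fun z hz =>
    inv_eq_of_mul_eq_one_right (by rw [← pow_two]; exact hS.elem.2 z (h.plane_le hz))
  have hτc : τ * c * τ⁻¹ = c := by
    calc τ * c * τ⁻¹ = (τ * τ) * w * (τ * τ)⁻¹ * (τ * w * τ⁻¹)⁻¹ := by rw [hcdef]; group
      _ = c⁻¹ := by rw [hτ2, hcdef]; group
      _ = c := hinv c hcW
  have hwne : w ≠ 1 := fun e => hwτ (by rw [e]; group)
  have hwc : w ≠ c := fun e => hwτ (e ▸ hτc)
  have hfour : ∀ z ∈ W, z = 1 ∨ z = c ∨ z = w ∨ z = c * w := by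
    intro z hz
    by_contra hcon
    push Not at hcon
    obtain ⟨z1, z2, z3, z4⟩ := hcon
    have hcw1 : c * w ≠ 1 := fun e => hwc ((hinv w hw).symm.trans (mul_eq_one_iff_eq_inv.1 e).symm)
    have hcwc : c * w ≠ c := fun e => hwne (mul_eq_left.1 e)
    have hcww : c * w ≠ w := fun e => hc1 (mul_eq_right.1 e)
    have hsub : ({1, c, w, c * w, z} : Set G) ⊆ (W : Set G) := by
      intro u hu
      rcases hu with rfl | rfl | rfl | rfl | rfl
      exacts [one_mem _, hcW, hw, mul_mem hcW hw, hz]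
    have h5 := Set.ncard_le_ncard hsub (Set.toFinite _)
    rw [show (W : Set G).ncard = 4 from h.plane_card] at h5
    rw [Set.ncard_insert_of_notMem, Set.ncard_insert_of_notMem, Set.ncard_insert_of_notMem,
      Set.ncard_pair] at h5
    · omega
    · exact z4.symm
    · simp only [Set.mem_insert_iff, Set.mem_singleton_iff, not_or]
      exact ⟨hcww.symm, z3.symm⟩
    · simp only [Set.mem_insert_iff, Set.mem_singleton_iff, not_or]
      exact ⟨hwc.symm, hcwc.symm, z2.symm⟩
    · simp only [Set.mem_insert_iff, Set.mem_singleton_iff, not_or]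
      exact ⟨hc1.symm, hwne.symm, hcw1.symm, z1.symm⟩
  have hτa : ∀ z : G, τ * (a * z * a⁻¹) * τ⁻¹ = a * (τ * z * τ⁻¹) * a⁻¹ := fun z => by
    rw [show τ * (a * z * a⁻¹) * τ⁻¹ = (τ * a) * z * (τ * a)⁻¹ by group, ← hcomm τ hτ]
    group
  have hac : a * c * a⁻¹ = c := by
    have hfixd : τ * (a * c * a⁻¹) * τ⁻¹ = a * c * a⁻¹ := by rw [hτa, hτc]
    rcases hfour _ ((mem_normalizer_iff.1 haW c).1 hcW) with e | e | e | e
    · exact absurd (conj_eq_one_iff.1 e) hc1
    · exact e
    · exact absurd (e ▸ hfixd) hwτ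
    · rw [e, show τ * (c * w) * τ⁻¹ = (τ * c * τ⁻¹) * (τ * w * τ⁻¹) by group, hτc] at hfixd
      exact absurd (mul_left_cancel hfixd) hwτ
  have haw : a * a * w * (a * a)⁻¹ = w := by
    rw [show a * a * w * (a * a)⁻¹ = a * (a * w * a⁻¹) * a⁻¹ by group]
    rcases hfour _ ((mem_normalizer_iff.1 haW w).1 hw) with e | e | e | e
    · exact absurd (conj_eq_one_iff.1 e) hwne
    · exact absurd (mul_left_cancel (mul_right_cancel (e.trans hac.symm))) hwc
    · rw [e, e]
    · rw [e, show a * (c * w) * a⁻¹ = (a * c * a⁻¹) * (a * w * a⁻¹) by group, hac, e, ← mul_assoc]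
      have hcc : c * c = 1 := by
        nth_rewrite 1 [← hinv c hcW]
        exact inv_mul_cancel c
      rw [hcc, one_mul]
  have hac2 : a * a * c * (a * a)⁻¹ = c := by
    rw [show a * a * c * (a * a)⁻¹ = a * (a * c * a⁻¹) * a⁻¹ by group, hac, hac]
  rw [mem_centralizer_iff]
  intro z hz
  symm
  rw [← mul_inv_eq_iff_eq_mul]
  rcases hfour z hz with rfl | rfl | rfl | rfl
  · group
  · exact hac2
  · exact haw
  · rw [show a * a * (c * w) * (a * a)⁻¹ = (a * a * c * (a * a)⁻¹) * (a * a * w * (a * a)⁻¹) by group,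
      hac2, haw]

theorem card_le_abelian_aux (hS : Setup 2 V H Q) [Group.IsSolvable Q] (n : ℕ) :
    ∀ A : Subgroup G, Nat.card A ≤ n → IsPGroup 2 A → (∀ a ∈ A, ∀ b ∈ A, a * b = b * a) → A ≤ H →
      Nat.card A * Nat.card ↥(V ⊓ centralizer (A : Set G)) ≤ Nat.card V ∧
        (Nat.card A * Nat.card ↥(V ⊓ centralizer (A : Set G)) = Nat.card V →
          IsElementaryAbelian 2 A) := by
  induction n with
  | zero => exact fun A h => absurd h (not_le.2 Nat.card_pos)
  | succ n ih =>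
    intro A hn hA hAc hAH
    by_cases h1 : A = ⊥
    · subst h1
      exact ⟨card_bot_mul.le, fun _ => PGroup.elemAb_bot 2⟩
    obtain ⟨M, a, haA, hlt, ha2, hcov, hcard, hfix⟩ := hS.exists_half hA hAc hAH h1
    obtain ⟨ih1, ih2⟩ := ih M (by
      have := Nat.card_pos (α := ↥M)
      omega) (hA.to_le hlt.le) (fun x hx y hy => hAc x (hlt.le hx) y (hlt.le hy)) (hlt.le.trans hAH)
    have h2 := card_mul_le_of_lt ((PGroup.elemAb_isPGroup hS.elem).to_le inf_le_left) hfix
    have h3 : Nat.card A * Nat.card ↥(V ⊓ centralizer (A : Set G)) ≤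
        Nat.card M * Nat.card ↥(V ⊓ centralizer (M : Set G)) := by
      rw [hcard, mul_assoc, mul_comm 2]
      exact Nat.mul_le_mul_left _ h2
    refine ⟨h3.trans ih1, fun heq => ?_⟩
    have hMeq := le_antisymm ih1 (heq.ge.trans h3)
    have hM : IsEq 2 V M := ⟨ih2 hMeq, hMeq⟩
    have ht : a * a = 1 := hS.eq_one_of_fix_planes hM (hlt.le.trans hAH) ha2 fun T hTM hT =>
      hS.sq_mem_centralizer_plane (hTM.trans (hlt.le.trans hAH)) hT (hAH haA)
        fun t ht => hAc a haA t (hlt.le (hTM ht))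
    refine PGroup.isElementaryAbelian_mk hAc fun z hz => ?_
    rcases hcov z hz with h | h
    · exact hM.1.2 z h
    · have h4 := hM.1.2 _ h
      rw [Commute.mul_pow (hAc z hz a haA), pow_two a, ht, mul_one] at h4
      exact h4

/-- `|A| |C_V(A)| ≤ |V|` for abelian `2`-groups, equality forcing exponent two. -/
theorem card_le_abelian (hS : Setup 2 V H Q) [Group.IsSolvable Q] {A : Subgroup G} (hA : IsPGroup 2 A)
    (hAc : ∀ a ∈ A, ∀ b ∈ A, a * b = b * a) (hAH : A ≤ H) :
    Nat.card A * Nat.card ↥(V ⊓ centralizer (A : Set G)) ≤ Nat.card V ∧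
      (Nat.card A * Nat.card ↥(V ⊓ centralizer (A : Set G)) = Nat.card V →
        IsElementaryAbelian 2 A) :=
  card_le_abelian_aux hS _ A le_rfl hA hAc hAH

end Setup

end CfsgLib.PStab.BestOff
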