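import Cfsg.Prelude.Def_PLocal
import Cfsg.Agent.Lib.Cores.Basic
import Cfsg.Agent.Lib.Cores.CoprimeGen
import Cfsg.Agent.Lib.Local.AB
import Cfsg.Agent.Lib.Transfer.Counting

/-!
Offenders in a faithful pair `(V, H)` with a self-centralizing `p'`-subgroup `Q`:
`|A| |C_V(A)| ≤ |V|`, with equality only for groups generated by transvection groups.
-/

set_option autoImplicit false

namespace CfsgLib.PStab.BestOff

open Subgroup Cfsg
open scoped commutatorElement

variable {G : Type*} [Group G]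

/-- A faithful pair `(V, H)` with a self-centralizing normal `p'`-subgroup `Q` of `H`. -/
structure Setup (p : ℕ) (V H Q : Subgroup G) : Prop where
  elem : IsElementaryAbelian p V
  le_norm : H ≤ normalizer (V : Set G)
  faith : H ⊓ centralizer (V : Set G) = ⊥
  Q_le : Q ≤ H
  Q_norm : H ≤ normalizer (Q : Set G)
  Q_cop : (Nat.card Q).Coprime p
  Q_self : H ⊓ centralizer (Q : Set G) ≤ Q

/-- A subgroup of order `p` whose fixed points form a hyperplane of `V`. -/
def IsTr (p : ℕ) (V T : Subgroup G) : Prop :=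
  Nat.card T = p ∧ Nat.card ↥(V ⊓ centralizer (T : Set G)) * p = Nat.card V

/-- An offender meeting the bound. -/
def IsEq (p : ℕ) (V A : Subgroup G) : Prop :=
  IsElementaryAbelian p A ∧ Nat.card A * Nat.card ↥(V ⊓ centralizer (A : Set G)) = Nat.card V

variable {p : ℕ}

theorem card_mul_le_of_lt [Finite G] [hp : Fact p.Prime] {X Y : Subgroup G} (hY : IsPGroup p Y)
    (h : X < Y) : Nat.card X * p ≤ Nat.card Y := by
  obtain ⟨a, ha⟩ := IsPGroup.iff_card.1 hY
  obtain ⟨b, hb⟩ := IsPGroup.iff_card.1 (hY.to_le h.le)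
  have h1 : Nat.card X < Nat.card Y :=
    lt_of_le_of_ne (card_le_of_le h.le) fun e => h.ne (eq_of_le_of_card_ge h.le e.ge)
  rw [ha, hb] at h1
  rw [ha, hb, ← pow_succ]
  exact Nat.pow_le_pow_right hp.out.pos ((Nat.pow_lt_pow_iff_right hp.out.one_lt).1 h1)

theorem setup_of_pPrimeCore [Finite G] {V H : Subgroup G} (hV : IsElementaryAbelian p V)
    (hHV : H ≤ normalizer (V : Set G)) (hf : H ⊓ centralizer (V : Set G) = ⊥)
    (hS : centralizer (pPrimeCore p ↥H : Set ↥H) ≤ pPrimeCore p ↥H) :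
    Setup p V H ((pPrimeCore p ↥H).map H.subtype) where
  elem := hV
  le_norm := hHV
  faith := hf
  Q_le := map_subtype_le _
  Q_norm := by
    haveI : (pPrimeCore p ↥H).Normal := by
      haveI := Cores.pPrimeCore_characteristic (G := ↥H) p
      infer_instance
    intro h hh
    rw [mem_normalizer_iff]
    refine fun x => ⟨?_, ?_⟩
    · rintro ⟨y, hy, rfl⟩
      exact ⟨⟨h, hh⟩ * y * ⟨h, hh⟩⁻¹, Normal.conj_mem inferInstance y hy _, rfl⟩
    · rintro ⟨y, hy, e⟩
      refine ⟨⟨h, hh⟩⁻¹ * y * ⟨h, hh⟩, ?_, ?_⟩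
      · simpa using Normal.conj_mem (inferInstance : (pPrimeCore p ↥H).Normal) y hy (⟨h, hh⟩⁻¹ : ↥H)
      · show h⁻¹ * (y : G) * h = x
        rw [show (y : G) = h * x * h⁻¹ from e]
        group
  Q_cop := by
    rw [card_map_of_injective H.subtype_injective]
    exact Cores.coprime_card_pPrimeCore p
  Q_self := by
    intro x hx
    refine ⟨⟨x, hx.1⟩, hS ?_, rfl⟩
    exact mem_centralizer_iff.2 fun y hy =>
      Subtype.ext (mem_centralizer_iff.1 hx.2 _ ⟨y, hy, rfl⟩)

theorem commutator_eq_bot_iff_le_centralizer' {V A : Subgroup G} :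
    ⁅V, A⁆ = ⊥ ↔ A ≤ centralizer (V : Set G) := by
  rw [commutator_comm, commutator_eq_bot_iff_le_centralizer]

theorem conj_pow_mem {U : Subgroup G} {q u : G} {i : ℕ} (hq : q ∈ normalizer (U : Set G))
    (hu : u ∈ normalizer (U : Set G)) (h : q * u * q⁻¹ * (u ^ i)⁻¹ ∈ U) :
    ∀ n : ℕ, q ^ n * u * (q ^ n)⁻¹ * (u ^ (i ^ n))⁻¹ ∈ U := by
  intro n
  induction n with
  | zero => simp [one_mem]
  | succ n ih =>
    have hstep : ∀ m : ℕ, q * u ^ m * q⁻¹ * (u ^ (i * m))⁻¹ ∈ U := by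
      intro m
      induction m with
      | zero => simp [one_mem]
      | succ m ihm =>
        have h1 := mul_mem h ((mem_normalizer_iff.1 (pow_mem hu i) _).1 ihm)
        convert h1 using 1
        rw [Nat.mul_succ, add_comm (i * m) i, pow_add, pow_succ']
        group
    have h2 := mul_mem ((mem_normalizer_iff.1 hq _).1 ih) (hstep (i ^ n))
    convert h2 using 1
    rw [pow_succ i, mul_comm (i ^ n) i, pow_succ']
    group

theorem commute_of_card_prime [hp : Fact p.Prime] {R : Subgroup G} (hR : Nat.card R = p) {t : G}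
    (ht : t ^ p = 1) (hn : t ∈ normalizer (R : Set G)) {r : G} (hr : r ∈ R) : t * r = r * t := by
  by_cases h1 : r = 1
  · simp [h1]
  have hgen := mem_zpowers_of_prime_card (G := ↥R) (p := p) hR (g := ⟨r, hr⟩)
    (g' := ⟨t * r * t⁻¹, (mem_normalizer_iff.1 hn r).1 hr⟩) (fun e => h1 (congrArg Subtype.val e))
  haveI : Finite ↥R := Nat.finite_of_card_ne_zero (by rw [hR]; exact hp.out.pos.ne')
  obtain ⟨i, hi⟩ := mem_powers_iff_mem_zpowers.2 hgen
  have hi' : r ^ i = t * r * t⁻¹ := congrArg Subtype.val hi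
  have hrp : r ^ p = 1 := by
    have := pow_card_eq_one' (x := (⟨r, hr⟩ : R))
    rw [hR] at this
    exact congrArg Subtype.val this
  have hone : ∀ y : G, y ∈ normalizer ((⊥ : Subgroup G) : Set G) := fun y =>
    mem_normalizer_iff.2 fun x => by simp [conj_eq_one_iff]
  have h2 := conj_pow_mem (U := ⊥) (hone t) (hone r) (i := i) (by rw [hi']; simp) p
  rw [ht, mem_bot, one_mul, inv_one, mul_one, mul_inv_eq_one] at h2
  have e : i ^ p ≡ i [MOD orderOf r] := by
    rw [orderOf_eq_prime hrp h1, ← ZMod.natCast_eq_natCast_iff]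
    push_cast
    rw [ZMod.pow_card]
  rw [pow_eq_pow_iff_modEq.2 e, hi'] at h2
  exact mul_inv_eq_iff_eq_mul.1 h2.symm

variable {V H Q : Subgroup G}

namespace Setup

theorem eq_one (hS : Setup p V H Q) {h : G} (hh : h ∈ H) (hc : ∀ v ∈ V, h * v * h⁻¹ = v) :
    h = 1 := by
  have h1 : h ∈ H ⊓ centralizer (V : Set G) :=
    ⟨hh, mem_centralizer_iff.2 fun v hv => (mul_inv_eq_iff_eq_mul.1 (hc v hv)).symm⟩
  rwa [hS.faith, mem_bot] at h1

theorem eq_bot (hS : Setup p V H Q) {A : Subgroup G} (hA : A ≤ H)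
    (hc : A ≤ centralizer (V : Set G)) : A = ⊥ := by
  rw [eq_bot_iff, ← hS.faith]
  exact le_inf hA hc

theorem commutator_ne_bot_iff (hS : Setup p V H Q) {A : Subgroup G} (hA : A ≤ H) :
    ⁅V, A⁆ ≠ ⊥ ↔ A ≠ ⊥ := by
  refine not_congr ⟨fun h => hS.eq_bot hA (commutator_eq_bot_iff_le_centralizer'.1 h), fun h => ?_⟩
  rw [h]
  exact commutator_eq_bot_iff_le_centralizer'.2 bot_le

variable [Finite G] [hp : Fact p.Prime]

theorem inf_Q (hS : Setup p V H Q) {A : Subgroup G} (hA : IsPGroup p A) : A ⊓ Q = ⊥ := by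
  obtain ⟨k, hk⟩ := IsPGroup.iff_card.1 hA
  refine Subgroup.inf_eq_bot_of_coprime ?_
  rw [hk]
  exact (hS.Q_cop.symm).pow_left k

theorem not_le_centralizer (hS : Setup p V H Q) {A : Subgroup G} (hA : IsPGroup p A) (hAH : A ≤ H)
    (h1 : A ≠ ⊥) : ¬ A ≤ centralizer (Q : Set G) := fun h => h1 <| by
  rw [eq_bot_iff, ← hS.inf_Q hA]
  exact le_inf le_rfl ((le_inf hAH h).trans hS.Q_self)

/-- The hyperplanes of `A` whose fixed points on `Q` are moved by `A`. -/
def Good (Q A B : Subgroup G) (p : ℕ) : Prop :=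
  B ≤ A ∧ Nat.card B * p = Nat.card A ∧ ¬ Q ⊓ centralizer (B : Set G) ≤ centralizer (A : Set G)

theorem good_of_index (_hS : Setup p V H Q) {A B : Subgroup G} (hA : IsPGroup p A) (hB : B ≤ A)
    (hi : B.relIndex A ≤ p) (h : ¬ Q ⊓ centralizer (B : Set G) ≤ centralizer (A : Set G)) :
    Good Q A B p := by
  refine ⟨hB, ?_, h⟩
  have hne : B ≠ A := fun e => h (e ▸ inf_le_right)
  have h1 := card_mul_le_of_lt hA (lt_of_le_of_ne hB hne)
  have h2 : Nat.card B * B.relIndex A = Nat.card A := by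
    rw [← relIndex_bot_left, ← relIndex_bot_left, relIndex_mul_relIndex ⊥ B A bot_le hB]
  exact le_antisymm h1 (h2 ▸ Nat.mul_le_mul_left _ hi)

/-- The good hyperplanes have trivial common part, in particular one exists. -/
theorem eq_bot_of_le_good (hS : Setup p V H Q) {A K : Subgroup G} (hA : IsElementaryAbelian p A)
    (hAH : A ≤ H) (hK : K ≤ A) (hall : ∀ B, Good Q A B p → K ≤ B) : K = ⊥ := by
  have hAp := CfsgLib.PGroup.elemAb_isPGroup hA
  by_contra h1
  refine hS.not_le_centralizer (hAp.to_le hK) (hK.trans hAH) h1 ?_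
  have h2 : Q ≤ centralizer (K : Set G) := by
    refine Cores.le_of_hyperplanes hA hS.Q_cop (hAH.trans hS.Q_norm) fun B hB hi => ?_
    by_cases hg : Q ⊓ centralizer (B : Set G) ≤ centralizer (A : Set G)
    · exact hg.trans (centralizer_le hK)
    · exact inf_le_right.trans (centralizer_le (hall B (hS.good_of_index hAp hB hi hg)))
  exact le_centralizer_iff.1 h2

theorem exists_good (hS : Setup p V H Q) {A : Subgroup G} (hA : IsElementaryAbelian p A)
    (hAH : A ≤ H) (h1 : A ≠ ⊥) : ∃ B, Good Q A B p := by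
  by_contra hc
  push Not at hc
  exact h1 (hS.eq_bot_of_le_good hA hAH le_rfl fun B hB => absurd hB (hc B))

theorem Good.lt_fix (hS : Setup p V H Q) {A B : Subgroup G} (hA : IsElementaryAbelian p A)
    (hAH : A ≤ H) (hg : Good Q A B p) :
    V ⊓ centralizer (A : Set G) < V ⊓ centralizer (B : Set G) := by
  obtain ⟨hBA, -, hmoved⟩ := hg
  refine lt_of_le_of_ne (inf_le_inf_left _ (centralizer_le hBA)) fun e => hmoved ?_
  intro d hd
  rw [mem_centralizer_iff]
  intro a ha
  have hdH : d ∈ H := hS.Q_le hd.1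
  have hcH : a * d * a⁻¹ * d⁻¹ ∈ H :=
    mul_mem (mul_mem (mul_mem (hAH ha) hdH) (inv_mem (hAH ha))) (inv_mem hdH)
  have hcQ : a * d * a⁻¹ * d⁻¹ ∈ Q :=
    mul_mem ((mem_normalizer_iff.1 (hS.Q_norm (hAH ha)) d).1 hd.1) (inv_mem hd.1)
  set c := a * d * a⁻¹ * d⁻¹ with hc
  have hcB : ∀ b ∈ B, c * b = b * c := by
    intro b hb
    have e1 : Commute b a := PGroup.elemAb_comm hA (hBA hb) ha
    have e2 : Commute b d := mem_centralizer_iff.1 hd.2 b hb
    exact (((e1.mul_right e2).mul_right e1.inv_right).mul_right e2.inv_right).symm.eq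
  have hcV : ∀ v ∈ V, c * v = v * c := by
    refine Local.commute_of_commute_fixedPoints
      (PGroup.elemAb_isPGroup (PGroup.elemAb_mono hA hBA)) hcB
      (hS.Q_cop.coprime_dvd_left (Subgroup.orderOf_dvd_natCard Q hcQ)) V
      (PGroup.elemAb_isPGroup hS.elem) ((hBA.trans hAH).trans hS.le_norm) (hS.le_norm hcH) ?_
    intro v hv hvB
    have hvB' : v ∈ V ⊓ centralizer (B : Set G) := ⟨hv, mem_centralizer_iff.2 hvB⟩
    have hv' : d⁻¹ * v * d ∈ V ⊓ centralizer (A : Set G) := by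
      rw [e]
      refine ⟨?_, mem_centralizer_iff.2 fun b hb => ?_⟩
      · simpa using (mem_normalizer_iff.1 (inv_mem (hS.le_norm hdH)) v).1 hv
      · have e2 : Commute b d := mem_centralizer_iff.1 hd.2 b hb
        exact ((e2.inv_right.mul_right (hvB b hb)).mul_right e2).eq
    have hvA : Commute a v := mem_centralizer_iff.1 (e ▸ hvB' : v ∈ V ⊓ centralizer (A : Set G)).2 a ha
    have hwA : Commute a (d⁻¹ * v * d) := mem_centralizer_iff.1 hv'.2 a ha
    have e3 : a⁻¹ * v * a = v := by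
      rw [mul_assoc, ← hvA.eq, inv_mul_cancel_left]
    have e4 : a * (d⁻¹ * v * d) * a⁻¹ = d⁻¹ * v * d := by
      rw [hwA.eq, mul_inv_cancel_right]
    show c * v = v * c
    calc c * v = a * d * (a⁻¹ * (d⁻¹ * v * d) * a) * a⁻¹ * d⁻¹ := by rw [hc]; group
      _ = a * d * (d⁻¹ * v * d) * a⁻¹ * d⁻¹ := by
        rw [show a⁻¹ * (d⁻¹ * v * d) * a = d⁻¹ * v * d by rw [mul_assoc, ← hwA.eq, inv_mul_cancel_left]]
      _ = a * v * a⁻¹ * (a * d * a⁻¹ * d⁻¹) := by group
      _ = v * c := by rw [hvA.eq, mul_inv_cancel_right, hc]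
  have h1 : c = 1 := hS.eq_one hcH fun v hv => by rw [hcV v hv, mul_inv_cancel_right]
  exact mul_inv_eq_iff_eq_mul.1 (mul_inv_eq_one.1 h1)

theorem Good.le_card (hS : Setup p V H Q) {A B : Subgroup G} (hA : IsElementaryAbelian p A)
    (hAH : A ≤ H) (hg : Good Q A B p) :
    Nat.card A * Nat.card ↥(V ⊓ centralizer (A : Set G)) ≤
      Nat.card B * Nat.card ↥(V ⊓ centralizer (B : Set G)) := by
  have h1 := card_mul_le_of_lt ((PGroup.elemAb_isPGroup hS.elem).to_le inf_le_left)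
    (Good.lt_fix hS hA hAH hg)
  rw [← hg.2.1, mul_assoc, mul_comm p]
  exact Nat.mul_le_mul_left _ h1

omit hp [Finite G] in
theorem card_bot_mul : Nat.card (⊥ : Subgroup G) * Nat.card ↥(V ⊓ centralizer ((⊥ : Subgroup G) : Set G)) = Nat.card V := by
  have h : centralizer ((⊥ : Subgroup G) : Set G) = ⊤ := eq_top_iff.2 fun x _ =>
    mem_centralizer_iff.2 fun y hy => by rw [Subgroup.mem_bot.1 hy, one_mul, mul_one]
  rw [Subgroup.card_bot, one_mul, h, inf_top_eq]

/-- `|A| |C_V(A)| ≤ |V|`. -/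
theorem card_le (hS : Setup p V H Q) {A : Subgroup G} (hA : IsElementaryAbelian p A) (hAH : A ≤ H) :
    Nat.card A * Nat.card ↥(V ⊓ centralizer (A : Set G)) ≤ Nat.card V := by
  induction A using WellFoundedLT.induction with
  | _ A ih =>
    by_cases h1 : A = ⊥
    · rw [h1]
      exact card_bot_mul.le
    obtain ⟨B, hB⟩ := hS.exists_good hA hAH h1
    have hlt : B < A := lt_of_le_of_ne hB.1 fun e => hB.2.2 (e ▸ inf_le_right)
    exact (Good.le_card hS hA hAH hB).trans (ih B hlt (PGroup.elemAb_mono hA hB.1) (hB.1.trans hAH))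

theorem elem_of_best (hS : Setup p V H Q) {A : Subgroup G} (hAH : A ≤ H)
    (hA : IsBestOffenderOn p V A) : IsElementaryAbelian p A := by
  refine PGroup.isElementaryAbelian_mk (fun a ha b hb => ?_) fun a ha => ?_
  · have h1 : ⁅a, b⁆ ∈ H ⊓ centralizer (V : Set G) :=
      ⟨commutator_le_self H (commutator_mem_commutator (hAH ha) (hAH hb)),
        hA.2.1 (commutator_mem_commutator ha hb)⟩
    rw [hS.faith, mem_bot, commutatorElement_eq_one_iff_mul_comm] at h1
    exact h1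
  · have h1 : a ^ p ∈ H ⊓ centralizer (V : Set G) := ⟨pow_mem (hAH ha) p, hA.2.2 a ha⟩
    rwa [hS.faith, mem_bot] at h1

theorem isEq_of_best (hS : Setup p V H Q) {A : Subgroup G} (hAH : A ≤ H)
    (hA : IsBestOffenderOn p V A) : IsEq p V A :=
  have he := hS.elem_of_best hAH hA
  ⟨he, le_antisymm (hS.card_le he hAH) (card_bot_mul.ge.trans (hA.1 ⊥ bot_le))⟩

theorem best_of_isEq (hS : Setup p V H Q) {A : Subgroup G} (hAH : A ≤ H) (hA : IsEq p V A) :
    IsBestOffenderOn p V A := by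
  refine ⟨fun B hB => hA.2.symm ▸ hS.card_le (PGroup.elemAb_mono hA.1 hB) (hB.trans hAH), ?_,
    fun a ha => ?_⟩
  · rw [commutator_eq_bot_iff_le_centralizer.2 fun a ha => mem_centralizer_iff.2
      fun b hb => PGroup.elemAb_comm hA.1 hb ha]
    exact bot_le
  · rw [hA.1.2 a ha]
    exact one_mem _

theorem isEq_good (hS : Setup p V H Q) {A B : Subgroup G} (hA : IsEq p V A) (hAH : A ≤ H)
    (hB : Good Q A B p) : IsEq p V B := by
  have he := PGroup.elemAb_mono hA.1 hB.1
  exact ⟨he, le_antisymm (hS.card_le he (hB.1.trans hAH))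
    (hA.2.ge.trans (Good.le_card hS hA.1 hAH hB))⟩

/-- A transvection group fixes its commutator on `V`, which has order `p`. -/
theorem commutator_isTr (hS : Setup p V H Q) {T : Subgroup G} (hTH : T ≤ H) (hT : IsTr p V T) :
    Nat.card ↥⁅V, T⁆ = p ∧ ⁅V, T⁆ ≤ V ⊓ centralizer (T : Set G) := by
  obtain ⟨⟨t, htT⟩, hgen⟩ := (isCyclic_of_prime_card (p := p) hT.1).exists_generator
  have hgen' : ∀ y ∈ T, ∃ n : ℕ, t ^ n = y := fun y hy => by
    obtain ⟨n, hn⟩ := mem_powers_iff_mem_zpowers.2 (hgen ⟨y, hy⟩)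
    exact ⟨n, congrArg Subtype.val hn⟩
  have htN := hS.le_norm (hTH htT)
  have htp : t ^ p = 1 := (PGroup.elemAb_of_card_eq hT.1).2 t htT
  have hcV : ∀ v ∈ V, ∀ w ∈ V, v * w = w * v := fun v hv w hw => PGroup.elemAb_comm hS.elem hv hw
  have hmem : ∀ v ∈ V, t * v⁻¹ * t⁻¹ ∈ V := fun v hv =>
    (mem_normalizer_iff.1 htN _).1 (inv_mem hv)
  let f : ↥V →* G := MonoidHom.mk' (fun v => (v : G) * (t * (v : G)⁻¹ * t⁻¹)) fun v w => by
    show (v : G) * w * (t * ((v : G) * w)⁻¹ * t⁻¹) =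
      (v : G) * (t * (v : G)⁻¹ * t⁻¹) * ((w : G) * (t * (w : G)⁻¹ * t⁻¹))
    calc (v : G) * w * (t * ((v : G) * w)⁻¹ * t⁻¹)
        = (v : G) * ((w : G) * (t * (w : G)⁻¹ * t⁻¹) * (t * (v : G)⁻¹ * t⁻¹)) := by group
      _ = (v : G) * ((t * (v : G)⁻¹ * t⁻¹) * ((w : G) * (t * (w : G)⁻¹ * t⁻¹))) := by
          rw [hcV _ (mul_mem w.2 (hmem _ w.2)) _ (hmem _ v.2)]
      _ = _ := by group
  have hker : f.ker.map V.subtype = V ⊓ centralizer (T : Set G) := by
    ext x
    constructor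
    · rintro ⟨v, hv, rfl⟩
      refine ⟨v.2, mem_centralizer_iff.2 fun y hy => ?_⟩
      have h1 : (v : G) * (t * (v : G)⁻¹ * t⁻¹) = 1 := hv
      have h2 : Commute t (v : G) := by
        have h3 : t * (v : G)⁻¹ * t⁻¹ = (v : G)⁻¹ := (inv_eq_of_mul_eq_one_right h1).symm
        exact (Commute.inv_right_iff.1 (mul_inv_eq_iff_eq_mul.1 h3))
      obtain ⟨n, rfl⟩ := hgen' y hy
      exact h2.pow_left n
    · intro hx
      refine ⟨⟨x, hx.1⟩, ?_, rfl⟩
      show x * (t * x⁻¹ * t⁻¹) = 1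
      have h2 : Commute t x := mem_centralizer_iff.1 hx.2 t htT
      rw [h2.inv_right.eq, mul_inv_cancel_right, mul_inv_cancel]
  have hcard : Nat.card f.range = p := by
    have h1 : Nat.card f.ker * Nat.card f.range = Nat.card V := by
      rw [← card_mul_index f.ker, index_ker]
    rw [← card_map_of_injective (K := f.ker) V.subtype_injective, hker] at h1
    exact Nat.eq_of_mul_eq_mul_left Nat.card_pos (h1.trans hT.2.symm)
  have hfV : f.range ≤ V := by
    rintro _ ⟨v, rfl⟩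
    exact mul_mem v.2 (hmem _ v.2)
  have htR : t ∈ normalizer (f.range : Set G) := by
    refine mem_normalizer_iff.2 fun y => ⟨?_, fun hy => ?_⟩
    · rintro ⟨v, rfl⟩
      refine ⟨⟨t * v * t⁻¹, (mem_normalizer_iff.1 htN _).1 v.2⟩, ?_⟩
      show t * v * t⁻¹ * (t * (t * v * t⁻¹)⁻¹ * t⁻¹) = t * ((v : G) * (t * (v : G)⁻¹ * t⁻¹)) * t⁻¹
      group
    · obtain ⟨v, hv⟩ := hy
      refine ⟨⟨t⁻¹ * v * t, by simpa using (mem_normalizer_iff.1 (inv_mem htN) _).1 v.2⟩, ?_⟩
      show t⁻¹ * v * t * (t * (t⁻¹ * v * t)⁻¹ * t⁻¹) = y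
      have e : (v : G) * (t * (v : G)⁻¹ * t⁻¹) = t * y * t⁻¹ := hv
      calc _ = t⁻¹ * ((v : G) * (t * (v : G)⁻¹ * t⁻¹)) * t := by group
        _ = y := by rw [e]; group
  have hfix : ∀ r ∈ f.range, t * r = r * t := fun r hr => commute_of_card_prime hcard htp htR hr
  have heq : ⁅V, T⁆ = f.range := by
    refine le_antisymm (commutator_le.2 fun v hv y hy => ?_) ?_
    · obtain ⟨n, rfl⟩ := hgen' y hy
      induction n with
      | zero => simp [commutatorElement_def, one_mem]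
      | succ n ih =>
        have h1 : ⁅v, t ^ n⁆ ∈ f.range := ih (pow_mem htT n)
        have h2 : ⁅v, t ^ (n + 1)⁆ = f ⟨v, hv⟩ * (t * ⁅v, t ^ n⁆ * t⁻¹) := by
          show _ = v * (t * v⁻¹ * t⁻¹) * _
          rw [pow_succ', commutatorElement_def, commutatorElement_def]
          group
        rw [h2, hfix _ h1, mul_inv_cancel_right]
        exact mul_mem ⟨_, rfl⟩ h1
    · rintro _ ⟨v, rfl⟩
      have h1 := commutator_mem_commutator (H₂ := T) v.2 htT
      rw [commutatorElement_def] at h1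
      show (v : G) * (t * (v : G)⁻¹ * t⁻¹) ∈ ⁅V, T⁆
      convert h1 using 1
      group
  rw [heq]
  refine ⟨hcard, fun r hr => ⟨hfV hr, mem_centralizer_iff.2 fun y hy => ?_⟩⟩
  obtain ⟨n, rfl⟩ := hgen' y hy
  exact (Commute.pow_left (hfix r hr) n).eq

omit [Finite G] in
theorem _root_.CfsgLib.PStab.BestOff.IsTr.isEq {T : Subgroup G} (hT : IsTr p V T) : IsEq p V T :=
  ⟨PGroup.elemAb_of_card_eq hT.1, by rw [hT.1, mul_comm]; exact hT.2⟩

omit [Finite G] in
theorem _root_.CfsgLib.PStab.BestOff.IsTr.ne_bot {T : Subgroup G} (hT : IsTr p V T) : T ≠ ⊥ :=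
  fun h => hp.out.one_lt.ne' (by rw [← hT.1, h, Subgroup.card_bot])

omit [Finite G] in
theorem _root_.CfsgLib.PStab.BestOff.IsEq.isTr {T : Subgroup G} (hT : IsEq p V T)
    (h : Nat.card T = p) : IsTr p V T :=
  ⟨h, by rw [← hT.2, h, mul_comm]⟩

/-- An offender meeting the bound is generated by transvection groups. -/
theorem le_sSup_isTr (hS : Setup p V H Q) {A : Subgroup G} (hA : IsEq p V A) (hAH : A ≤ H) :
    A ≤ sSup {T | T ≤ A ∧ IsTr p V T} := by
  induction A using WellFoundedLT.induction with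
  | _ A ih =>
    by_cases h1 : A = ⊥
    · rw [h1]
      exact bot_le
    by_cases hcard : Nat.card A = p
    · exact le_sSup ⟨le_rfl, hA.isTr hcard⟩
    obtain ⟨B, hB⟩ := hS.exists_good hA.1 hAH h1
    have hAp := PGroup.elemAb_isPGroup hA.1
    have hlt : B < A := lt_of_le_of_ne hB.1 fun e => hB.2.2 (e ▸ inf_le_right)
    obtain ⟨C, hC, hBC⟩ : ∃ C, Good Q A C p ∧ ¬ B ≤ C := by
      by_contra hc
      push Not at hc
      have hB1 := hS.eq_bot_of_le_good hA.1 hAH hB.1 hc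
      apply hcard
      rw [← hB.2.1, hB1, Subgroup.card_bot, one_mul]
    have hlt' : C < A := lt_of_le_of_ne hC.1 fun e => hC.2.2 (e ▸ inf_le_right)
    have hsup : B ⊔ C = A := by
      refine eq_of_le_of_card_ge (sup_le hB.1 hC.1) ?_
      have h2 : C < B ⊔ C := lt_of_le_of_ne le_sup_right fun e => hBC (e ▸ le_sup_left)
      rw [← hC.2.1]
      exact card_mul_le_of_lt (hAp.to_le (sup_le hB.1 hC.1)) h2
    conv_lhs => rw [← hsup]
    exact sup_le
      ((ih B hlt (hS.isEq_good hA hAH hB) (hB.1.trans hAH)).trans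
        (sSup_le_sSup fun T hT => ⟨hT.1.trans hB.1, hT.2⟩))
      ((ih C hlt' (hS.isEq_good hA hAH hC) (hC.1.trans hAH)).trans
        (sSup_le_sSup fun T hT => ⟨hT.1.trans hC.1, hT.2⟩))

/-- Minimal nontrivially acting best offenders are transvection groups. -/
theorem isTr_of_minimal (hS : Setup p V H Q) {A : Subgroup G} (hAH : A ≤ H)
    (hA : IsBestOffenderOn p V A) (hAV : ⁅V, A⁆ ≠ ⊥)
    (hmin : ∀ B : Subgroup G, B ≤ A → IsBestOffenderOn p V B → ⁅V, B⁆ ≠ ⊥ → B = A) :
    IsTr p V A := by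
  have hEq := hS.isEq_of_best hAH hA
  have h1 := (hS.commutator_ne_bot_iff hAH).1 hAV
  obtain ⟨T, hT⟩ : ∃ T, T ≤ A ∧ IsTr p V T := by
    by_contra hc
    push Not at hc
    refine h1 (le_bot_iff.1 ((hS.le_sSup_isTr hEq hAH).trans (sSup_le fun T hT => ?_)))
    exact absurd hT.2 (hc T hT.1)
  have hTH := hT.1.trans hAH
  rw [← hmin T hT.1 (hS.best_of_isEq hTH hT.2.isEq) ((hS.commutator_ne_bot_iff hTH).2 hT.2.ne_bot)]
  exact hT.2

theorem minimal_of_isTr (hS : Setup p V H Q) {A : Subgroup G} (hA : IsTr p V A) (hAH : A ≤ H) :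
    IsBestOffenderOn p V A ∧ ⁅V, A⁆ ≠ ⊥ ∧
      ∀ B : Subgroup G, B ≤ A → IsBestOffenderOn p V B → ⁅V, B⁆ ≠ ⊥ → B = A := by
  refine ⟨hS.best_of_isEq hAH hA.isEq, (hS.commutator_ne_bot_iff hAH).2 hA.ne_bot, ?_⟩
  intro B hBA _ hB
  have hB1 := (hS.commutator_ne_bot_iff (hBA.trans hAH)).1 hB
  haveI : Fact (Nat.card A).Prime := ⟨by rw [hA.1]; exact hp.out⟩
  rcases eq_bot_or_eq_top_of_prime_card (B.subgroupOf A) with h | h
  · exact absurd (by rwa [subgroupOf_eq_bot, disjoint_iff, inf_eq_left.2 hBA] at h) hB1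
  · exact le_antisymm hBA (subgroupOf_eq_top.1 h)

/-- A best offender is the direct product of some of its transvection groups. -/
theorem exists_decomposition (hS : Setup p V H Q) {A : Subgroup G} (hAH : A ≤ H)
    (hA : IsBestOffenderOn p V A) :
    ∃ (k : ℕ) (B : Fin k → Subgroup G), (∀ i, B i ≤ A ∧ IsTr p V (B i)) ∧ iSupIndep B ∧
      ⨆ i, B i = A := by
  classical
  have hsub := hS.le_sSup_isTr (hS.isEq_of_best hAH hA) hAH
  set P : Finset (Finset (Subgroup G)) :=
    (Set.toFinite {s : Finset (Subgroup G) | (∀ T ∈ s, T ≤ A ∧ IsTr p V T) ∧ A ≤ s.sup id}).toFinset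
    with hP
  have hne : P.Nonempty := by
    set t := (Set.toFinite {T : Subgroup G | T ≤ A ∧ IsTr p V T}).toFinset with ht
    refine ⟨t, ?_⟩
    rw [hP, Set.Finite.mem_toFinset]
    refine ⟨fun T hT => ?_, hsub.trans (sSup_le fun T hT => Finset.le_sup (f := id) ?_)⟩
    · rwa [ht, Set.Finite.mem_toFinset] at hT
    · rwa [ht, Set.Finite.mem_toFinset]
  obtain ⟨s, hs, hsmin⟩ := Finset.exists_min_image P Finset.card hne
  rw [hP, Set.Finite.mem_toFinset] at hs
  obtain ⟨hall, hgen⟩ := hs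
  have hsupA : s.sup id = A := le_antisymm (Finset.sup_le fun T hT => (hall T hT).1) hgen
  let e : Fin s.card ≃ ↥s := s.equivFin.symm
  refine ⟨s.card, fun i => (e i : Subgroup G), fun i => hall _ (e i).2, ?_, ?_⟩
  · intro i
    rw [disjoint_iff]
    set T : Subgroup G := (e i : Subgroup G) with hT
    set U : Subgroup G := ⨆ (j) (_ : j ≠ i), ((e j : ↥s) : Subgroup G) with hU
    haveI : Fact (Nat.card T).Prime := ⟨by rw [(hall T (e i).2).2.1]; exact hp.out⟩
    rcases eq_bot_or_eq_top_of_prime_card (U.subgroupOf T) with h | h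
    · rwa [subgroupOf_eq_bot, disjoint_iff, inf_comm] at h
    · exfalso
      have hUle : U ≤ (s.erase T).sup id := iSup₂_le fun j hj => by
        refine Finset.le_sup (f := id) (Finset.mem_erase.2 ⟨fun hh => hj (e.injective (Subtype.ext hh)), (e j).2⟩)
      have hgen' : A ≤ (s.erase T).sup id := by
        refine hgen.trans (Finset.sup_le fun X hX => ?_)
        rcases eq_or_ne X T with rfl | hXT
        · exact (subgroupOf_eq_top.1 h).trans hUle
        · exact Finset.le_sup (f := id) (Finset.mem_erase.2 ⟨hXT, hX⟩)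
      have hmem : s.erase T ∈ P := by
        rw [hP, Set.Finite.mem_toFinset]
        exact ⟨fun X hX => hall X (Finset.mem_of_mem_erase hX), hgen'⟩
      have := hsmin _ hmem
      have := Finset.card_erase_lt_of_mem (e i).2
      rw [← hT] at this
      omega
  · refine le_antisymm (iSup_le fun i => (hall _ (e i).2).1) ?_
    rw [← hsupA]
    refine Finset.sup_le fun T hT => ?_
    have h := le_iSup (fun i => ((e i : ↥s) : Subgroup G)) (e.symm ⟨T, hT⟩)
    simpa using h

end Setup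

end CfsgLib.PStab.BestOff
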