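import Cfsg.Agent.Lib.PStab.Offender.Factorization

/-!
The components of `J(G) C(V) / C(V)` described inside `G`.
-/

set_option autoImplicit false

namespace CfsgLib.PStab.BestOff

open Subgroup Cfsg SemidirectProduct
open scoped commutatorElement

variable {G : Type*} [Group G] (p : ℕ) (V : Subgroup G)

/-- Elements of `J(G) C(V)` inducing transvections on `V`. -/
def trElts : Set G :=
  {a | a ∈ thompsonSubgroup p G ⊔ centralizer (V : Set G) ∧ a ∉ centralizer (V : Set G) ∧
    a ^ p ∈ centralizer (V : Set G) ∧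
    Nat.card ↥(V ⊓ centralizer (zpowers a : Set G)) * p = Nat.card V}

/-- The component of a transvection, as a subgroup containing `C(V)`. -/
def compOf (a : G) : Subgroup G :=
  centralizer (V : Set G) ⊔
    closure {y | ∃ g ∈ thompsonSubgroup p G ⊔ centralizer (V : Set G), y = g * a * g⁻¹}

/-- The plane of a transvection. -/
def planeOf (a : G) : Subgroup G := ⁅V, compOf p V a⁆

/-- The projection to the semidirect product. -/
abbrev semiProj [V.Normal] : G →* Semi V :=
  (inr : G ⧸ centralizer (V : Set G) →* Semi V).comp (QuotientGroup.mk' (centralizer (V : Set G)))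

variable {p} {V}

theorem self_mem_compOf (a : G) : a ∈ compOf p V a :=
  mem_sup_right (subset_closure ⟨1, one_mem _, by group⟩)

theorem compOf_le {a : G} (ha : a ∈ thompsonSubgroup p G ⊔ centralizer (V : Set G)) :
    compOf p V a ≤ thompsonSubgroup p G ⊔ centralizer (V : Set G) :=
  sup_le le_sup_right ((closure_le _).2 fun _ ⟨_, hg, e⟩ => e ▸ mul_mem (mul_mem hg ha) (inv_mem hg))

variable [V.Normal]

theorem semiProj_eq_one (g : G) : semiProj V g = 1 ↔ g ∈ centralizer (V : Set G) :=
  ⟨fun e => (QuotientGroup.eq_one_iff g).1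
      (inr_injective (φ := actHom V) (show inr (QuotientGroup.mk' _ g) = inr 1 by rw [map_one]; exact e)),
    fun e => by
      show (inr (QuotientGroup.mk' _ g) : Semi V) = 1
      rw [show QuotientGroup.mk' _ g = 1 from (QuotientGroup.eq_one_iff g).2 e, map_one]⟩

theorem semiProj_conj_inl (g : G) (v : ↥V) :
    semiProj V g * inl v * (semiProj V g)⁻¹ = inl ⟨g * v * g⁻¹, ‹V.Normal›.conj_mem v v.2 g⟩ :=
  inr_conj_inl g v

theorem semiProj_commutator (g : G) (v : ↥V) :
    ⁅(inl v : Semi V), semiProj V g⁆ =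
      inl (v * ⟨g * ((v⁻¹ : ↥V) : G) * g⁻¹, ‹V.Normal›.conj_mem _ (v⁻¹).2 g⟩) := by
  rw [map_mul, ← semiProj_conj_inl, commutatorElement_def, map_inv]
  group

theorem semiProj_mem_semiJ {g : G} (hg : g ∈ thompsonSubgroup p G ⊔ centralizer (V : Set G)) :
    semiProj V g ∈ semiJ V p := by
  have h : (thompsonSubgroup p G ⊔ centralizer (V : Set G)).map (semiProj V) ≤ semiJ V p := by
    rw [Subgroup.map_sup, sup_le_iff, semiJ, semiMap, Subgroup.map_map]
    refine ⟨le_rfl, ?_⟩
    rintro _ ⟨c, hc, rfl⟩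
    rw [(semiProj_eq_one c).2 hc]
    exact one_mem _
  exact h ⟨g, hg, rfl⟩

variable [Finite G] [hp : Fact p.Prime]

/-- The standing hypotheses. -/
structure PSep (p : ℕ) (V : Subgroup G) [V.Normal] : Prop where
  elem : IsElementaryAbelian p V
  sep : IsPSolvable p G
  core : pCore p (G ⧸ centralizer (V : Set G)) = ⊥

namespace PSep

variable {a : G}

theorem isTr (h : PSep p V) (ha : a ∈ trElts p V) :
    CompHyp p (semiV V) (semiJ V p) (semiQ V p) (zpowers (semiProj V a)) := by
  obtain ⟨hS, -⟩ := semiJ_setup h.elem h.sep h.core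
  refine ⟨hS, zpowers_le.2 (semiProj_mem_semiJ ha.1), ?_, ?_⟩
  · rw [Nat.card_zpowers]
    refine orderOf_eq_prime ?_ fun e => ha.2.1 ((semiProj_eq_one a).1 e)
    rw [← map_pow, semiProj_eq_one]
    exact ha.2.2.1
  · have e : semiMap V (zpowers a) = zpowers (semiProj V a) := by
      rw [semiMap, Subgroup.map_map, MonoidHom.map_zpowers]
    rw [← e, card_fix, card_semiV]
    exact ha.2.2.2

theorem gen (h : PSep p V) :
    semiJ V p ≤ sSup {S | S ≤ semiJ V p ∧ IsTr p (semiV V) S} :=
  (semiJ_setup h.elem h.sep h.core).2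

theorem conj_mem_compOf (h : PSep p V) (ha : a ∈ trElts p V) {g : G}
    (hg : g ∈ thompsonSubgroup p G ⊔ centralizer (V : Set G)) :
    semiProj V g * semiProj V a * (semiProj V g)⁻¹ ∈ comp (semiQ V p) (zpowers (semiProj V a)) :=
  (mem_normalizer_iff.1 ((h.isTr ha).le_normalizer_comp h.gen (semiProj_mem_semiJ hg)) _).1
    (mem_sup_right (mem_zpowers _))

theorem map_compOf (h : PSep p V) (ha : a ∈ trElts p V) :
    (compOf p V a).map (semiProj V) = comp (semiQ V p) (zpowers (semiProj V a)) := by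
  refine le_antisymm ?_ (sup_le (Subgroup.commutator_le.2 fun q hq s hs => ?_)
    (zpowers_le.2 ⟨a, self_mem_compOf a, rfl⟩))
  · rw [Subgroup.map_le_iff_le_comap]
    refine sup_le (fun c hc => ?_) ((closure_le _).2 ?_)
    · rw [Subgroup.mem_comap, (semiProj_eq_one c).2 hc]
      exact one_mem _
    · rintro _ ⟨g, hg, rfl⟩
      rw [SetLike.mem_coe, Subgroup.mem_comap, map_mul, map_mul, map_inv]
      exact h.conj_mem_compOf ha hg
  · obtain ⟨_, ⟨g, hg, rfl⟩, rfl⟩ := map_subtype_le _ hq
    obtain ⟨k, rfl⟩ := mem_zpowers_iff.1 hs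
    refine ⟨⁅g, a ^ k⁆, ?_, ?_⟩
    · rw [commutatorElement_def, ← conj_zpow]
      have h1 : g * a * g⁻¹ ∈ compOf p V a :=
        mem_sup_right (subset_closure ⟨g, mem_sup_left hg, rfl⟩)
      exact mul_mem (zpow_mem h1 k)
        (inv_mem (zpow_mem (self_mem_compOf a) k))
    · rw [map_commutatorElement, map_zpow]
      rfl

theorem comap_comp (h : PSep p V) (ha : a ∈ trElts p V) :
    (comp (semiQ V p) (zpowers (semiProj V a))).comap (semiProj V) = compOf p V a := by
  refine le_antisymm (fun g hg => ?_) fun g hg => (h.map_compOf ha).le ⟨g, hg, rfl⟩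
  obtain ⟨e, he, hge⟩ := (h.map_compOf ha).ge hg
  have h1 : e⁻¹ * g ∈ centralizer (V : Set G) := by
    rw [← semiProj_eq_one, map_mul, map_inv, inv_mul_eq_one]
    exact hge
  have h2 := mul_mem he (mem_sup_left (T := closure
    {y | ∃ g ∈ thompsonSubgroup p G ⊔ centralizer (V : Set G), y = g * a * g⁻¹}) h1)
  rwa [mul_inv_cancel_left] at h2

theorem planeOf_le (_h : PSep p V) : planeOf p V a ≤ V :=
  commutator_le_of_le_normalizer (fun g _ => by rw [normalizer_eq_top]; trivial)

theorem map_planeOf (h : PSep p V) (ha : a ∈ trElts p V) :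
    ((planeOf p V a).subgroupOf V).map (inl : ↥V →* Semi V) =
      ⁅semiV V, comp (semiQ V p) (zpowers (semiProj V a))⁆ := by
  set Es := comp (semiQ V p) (zpowers (semiProj V a))
  refine le_antisymm ?_ ?_
  · have h1 : planeOf p V a ≤ ((⁅semiV V, Es⁆).comap (inl : ↥V →* Semi V)).map V.subtype := by
      refine Subgroup.commutator_le.2 fun v hv g hg => ?_
      refine ⟨⟨v, hv⟩ * ⟨g * ((⟨v, hv⟩⁻¹ : ↥V) : G) * g⁻¹, ‹V.Normal›.conj_mem _ (⟨v, hv⟩⁻¹ : ↥V).2 g⟩,
        ?_, ?_⟩
      · rw [SetLike.mem_coe, Subgroup.mem_comap, ← semiProj_commutator]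
        exact commutator_mem_commutator ⟨_, rfl⟩ ((h.map_compOf ha).le ⟨g, hg, rfl⟩)
      · show v * (g * v⁻¹ * g⁻¹) = ⁅v, g⁆
        rw [commutatorElement_def]
        group
    rintro _ ⟨w, hw, rfl⟩
    obtain ⟨u, hu, huw⟩ := h1 hw
    rw [← Subtype.ext (a1 := u) (a2 := w) huw]
    exact hu
  · refine Subgroup.commutator_le.2 ?_
    rintro _ ⟨v, rfl⟩ y hy
    obtain ⟨g, hg, rfl⟩ := (h.map_compOf ha).ge hy
    rw [semiProj_commutator]
    refine ⟨_, ?_, rfl⟩
    show (v : G) * (g * (v : G)⁻¹ * g⁻¹) ∈ ⁅V, compOf p V a⁆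
    have := commutator_mem_commutator (H₁ := V) v.2 hg
    rw [commutatorElement_def] at this
    convert this using 1
    group

theorem card_planeOf (h : PSep p V) (ha : a ∈ trElts p V) : Nat.card (planeOf p V a) = p ^ 2 := by
  rw [← (h.isTr ha).plane_card, ← h.map_planeOf ha, card_map_of_injective inl_injective]
  exact (Nat.card_congr (subgroupOfEquivOfLe h.planeOf_le).toEquiv).symm

theorem le_normalizer_compOf (_h : PSep p V) :
    thompsonSubgroup p G ⊔ centralizer (V : Set G) ≤ normalizer (compOf p V a : Set G) := by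
  intro g hg
  have key : ∀ g ∈ thompsonSubgroup p G ⊔ centralizer (V : Set G), ∀ y ∈ compOf p V a,
      g * y * g⁻¹ ∈ compOf p V a := by
    intro g hg y hy
    have h1 : compOf p V a ≤ (compOf p V a).comap (MulAut.conj g).toMonoidHom := by
      refine sup_le (fun c hc => mem_sup_left ((inferInstance :
        (centralizer (V : Set G)).Normal).conj_mem c hc g)) ((closure_le _).2 ?_)
      rintro _ ⟨k, hk, rfl⟩
      exact mem_sup_right (subset_closure ⟨g * k, mul_mem hg hk, by
        show g * (k * a * k⁻¹) * g⁻¹ = _; group⟩)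
    exact h1 hy
  rw [mem_normalizer_iff]
  refine fun y => ⟨key g hg y, fun hy => ?_⟩
  have := key g⁻¹ (inv_mem hg) _ hy
  simpa [mul_assoc] using this

theorem le_normalizer_planeOf (h : PSep p V) :
    thompsonSubgroup p G ⊔ centralizer (V : Set G) ≤ normalizer (planeOf p V a : Set G) := by
  intro g hg
  rw [mem_normalizer_iff_map_conj_eq, planeOf, map_commutator]
  congr 1
  · exact mem_normalizer_iff_map_conj_eq.1 (by rw [normalizer_eq_top]; trivial)
  · exact mem_normalizer_iff_map_conj_eq.1 (h.le_normalizer_compOf hg)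

omit [Finite G] hp in
theorem conj_eq_of_semi {g : G} {w : ↥V}
    (hc : semiProj V g * inl w = inl w * semiProj V g) : g * (w : G) * g⁻¹ = w := by
  have h1 := mul_inv_eq_iff_eq_mul.2 hc
  rw [semiProj_conj_inl] at h1
  exact congrArg Subtype.val (inl_injective h1)

/-- An element of a component fixing its plane lies in `C(V)`. -/
theorem mem_centralizer_of_fix (h : PSep p V) (ha : a ∈ trElts p V) {g : G}
    (hg : g ∈ compOf p V a) (hfix : ∀ w ∈ planeOf p V a, g * w * g⁻¹ = w) :
    g ∈ centralizer (V : Set G) := by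
  have h1 : semiProj V g ∈ comp (semiQ V p) (zpowers (semiProj V a)) ⊓
      centralizer ((⁅semiV V, comp (semiQ V p) (zpowers (semiProj V a))⁆ : Subgroup (Semi V)) :
        Set (Semi V)) := by
    refine ⟨(h.map_compOf ha).le ⟨g, hg, rfl⟩, mem_centralizer_iff.2 fun y hy => ?_⟩
    rw [← h.map_planeOf ha] at hy
    obtain ⟨w, hw, rfl⟩ := hy
    symm
    apply mul_inv_eq_iff_eq_mul.1
    rw [semiProj_conj_inl]
    congr 1
    exact Subtype.ext (hfix w hw)
  rw [(h.isTr ha).comp_inf, mem_bot] at h1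
  exact (semiProj_eq_one g).1 h1

/-- Only `1` in the plane is fixed by the component. -/
theorem eq_one_of_fixed (h : PSep p V) (ha : a ∈ trElts p V) {w : G} (hw : w ∈ planeOf p V a)
    (hfix : ∀ g ∈ compOf p V a, g * w * g⁻¹ = w) : w = 1 := by
  have hwV : w ∈ V := h.planeOf_le hw
  have h1 : (inl ⟨w, hwV⟩ : Semi V) ∈ ⁅semiV V, comp (semiQ V p) (zpowers (semiProj V a))⁆ ⊓
      (semiV V ⊓ centralizer (comp (semiQ V p) (zpowers (semiProj V a)) : Set (Semi V))) := by
    refine ⟨(h.map_planeOf ha).le ⟨⟨w, hwV⟩, hw, rfl⟩, ⟨⟨w, hwV⟩, rfl⟩,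
      mem_centralizer_iff.2 fun y hy => ?_⟩
    obtain ⟨g, hg, rfl⟩ := (h.map_compOf ha).ge hy
    apply mul_inv_eq_iff_eq_mul.1
    rw [semiProj_conj_inl]
    congr 1
    exact Subtype.ext (hfix g hg)
  rw [(h.isTr ha).plane_inf, mem_bot] at h1
  exact congrArg Subtype.val (inl_injective (h1.trans (map_one (inl : ↥V →* Semi V)).symm))

/-- A transvection lies in a component or fixes its plane. -/
theorem tr_dichotomy (h : PSep p V) (ha : a ∈ trElts p V) {b : G} (hb : b ∈ trElts p V) :
    b ∈ compOf p V a ∨ ∀ w ∈ planeOf p V a, b * w * b⁻¹ = w := by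
  rcases (h.isTr ha).dichotomy (h.isTr hb).le (h.isTr hb).tr with h1 | h1
  · left
    rw [← h.comap_comp ha]
    exact h1 (mem_zpowers _)
  · right
    intro w hw
    have h2 := mem_centralizer_iff.1 (h1 (mem_zpowers _)) (inl ⟨w, h.planeOf_le hw⟩)
      ((h.map_planeOf ha).le ⟨_, hw, rfl⟩)
    exact conj_eq_of_semi (w := ⟨w, h.planeOf_le hw⟩) h2.symm

/-- A component is determined by any of its transvections. -/
theorem compOf_eq (h : PSep p V) (ha : a ∈ trElts p V) {b : G} (hb : b ∈ trElts p V)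
    (hba : b ∈ compOf p V a) : compOf p V b = compOf p V a := by
  rcases (h.isTr ha).comp_eq_or_le h.gen (h.isTr hb) with h1 | h1
  · rw [← h.comap_comp ha, ← h.comap_comp hb, h1]
  · exfalso
    apply hb.2.1
    rw [← semiProj_eq_one, ← Subgroup.mem_bot, ← (h.isTr ha).comp_inf]
    exact ⟨(h.map_compOf ha).le ⟨b, hba, rfl⟩, (h1 (mem_sup_right (mem_zpowers _))).2⟩

/-- A component not containing the transvection `b` fixes the plane of `b`. -/
theorem fix_planeOf (h : PSep p V) (ha : a ∈ trElts p V) {b : G} (hb : b ∈ trElts p V)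
    (hne : compOf p V b ≠ compOf p V a) {g : G} (hg : g ∈ compOf p V a) {w : G}
    (hw : w ∈ planeOf p V b) : g * w * g⁻¹ = w := by
  rcases h.tr_dichotomy hb ha with h1 | h1
  · exact absurd (h.compOf_eq hb ha h1).symm hne
  have hJC := le_normalizer_planeOf (a := b) h
  have hle : compOf p V a ≤ centralizer (planeOf p V b : Set G) := by
    refine sup_le (centralizer_le h.planeOf_le) ((closure_le _).2 ?_)
    rintro _ ⟨k, hk, rfl⟩
    refine mem_centralizer_iff.2 fun u hu => ?_
    have h2 := h1 (k⁻¹ * u * k)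
      (by simpa using (mem_normalizer_iff.1 (hJC (inv_mem hk)) u).1 hu)
    symm
    apply mul_inv_eq_iff_eq_mul.1
    calc k * a * k⁻¹ * u * (k * a * k⁻¹)⁻¹ = k * (a * (k⁻¹ * u * k) * a⁻¹) * k⁻¹ := by group
      _ = u := by rw [h2]; group
  exact Setup.conj_fix (hle hg) hw

theorem le_closure_trElts (h : PSep p V) :
    thompsonSubgroup p G ≤ centralizer (V : Set G) ⊔ closure (trElts p V) := by
  set M := centralizer (V : Set G) ⊔ closure (trElts p V)
  have hle : semiJ V p ≤ M.map (semiProj V) := by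
    refine h.gen.trans (sSup_le ?_)
    rintro S ⟨hSJ, hS⟩ y hy
    by_cases hy1 : y = 1
    · rw [hy1]
      exact one_mem _
    obtain ⟨_, ⟨g, hg, rfl⟩, rfl⟩ := hSJ hy
    refine ⟨g, mem_sup_right (subset_closure ⟨mem_sup_left hg,
      fun e => hy1 ((semiProj_eq_one g).2 e), ?_, ?_⟩), rfl⟩
    · rw [← semiProj_eq_one, map_pow]
      exact (PGroup.elemAb_of_card_eq hS.1).2 _ hy
    · have hord : orderOf (semiProj V g) = p :=
        PGroup.elemAb_orderOf (PGroup.elemAb_of_card_eq hS.1) hy hy1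
      have e : semiMap V (zpowers g) = S := by
        rw [semiMap, Subgroup.map_map, MonoidHom.map_zpowers]
        exact eq_of_le_of_card_ge (zpowers_le.2 hy) (by rw [Nat.card_zpowers, hord, hS.1])
      rw [← card_fix, ← card_semiV (V := V), e]
      exact hS.2
  intro g hg
  obtain ⟨m, hm, he⟩ := hle ⟨_, ⟨g, hg, rfl⟩, rfl⟩
  have h1 : m⁻¹ * g ∈ centralizer (V : Set G) := by
    rw [← semiProj_eq_one, map_mul, map_inv, inv_mul_eq_one]
    exact he
  have h2 := mul_mem hm (mem_sup_left (T := closure (trElts p V)) h1)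
  rwa [mul_inv_cancel_left] at h2

theorem exists_trElt (h : PSep p V) (hne : ¬ thompsonSubgroup p G ≤ centralizer (V : Set G)) :
    ∃ a, a ∈ trElts p V := by
  by_contra hc
  push Not at hc
  refine hne (h.le_closure_trElts.trans (sup_le le_rfl ?_))
  exact (closure_le _).2 fun a ha => absurd ha (hc a)

theorem six_dvd (h : PSep p V) (ha : a ∈ trElts p V) : (p = 2 ∨ p = 3) ∧ 6 ∣ Nat.card G := by
  obtain ⟨φ⟩ := (h.isTr ha).iso
  refine ⟨(h.isTr ha).p_cases, ?_⟩
  have h1 : Nat.card ↥((compOf p V a).map (semiProj V)) ∣ Nat.card G :=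
    (Subgroup.card_map_dvd _ _).trans (Subgroup.card_subgroup_dvd_card _)
  rw [h.map_compOf ha, Nat.card_congr φ.toEquiv] at h1
  rcases (h.isTr ha).p_cases with rfl | rfl
  · rwa [card_SL_two] at h1
  · rw [card_SL_three] at h1
    exact dvd_trans (by norm_num) h1

end PSep

end CfsgLib.PStab.BestOff
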