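import Cfsg.Agent.Lib.PStab.Offender.Generation

/-!
The operator setting for a group `K` normalized by a coprime elementary abelian group.
-/

set_option autoImplicit false

namespace CfsgLib.PStab.BestOff

open Subgroup Cfsg

variable {G : Type*} [Group G] [Finite G] {p : ℕ} [hp : Fact p.Prime] {q : ℕ} [hq : Fact q.Prime]

theorem exists_oper {K X : Subgroup G} (hXK : X ≤ normalizer (K : Set G))
    (hX : IsElementaryAbelian q X) (hndvd : ¬ q ∣ Nat.card K) (hsep : IsPSolvable p ↥K)
    (hO : pPrimeCore p ↥K = ⊥) :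
    ∃ (V : Subgroup ↥K) (_ : V.Normal),
      V = ⨆ S : Sylow p ↥K, CfsgLib.Transfer.omegaCenterOf p (S : Subgroup ↥K) ∧
      Oper (K.normalizerMonoidHom.comp (inclusion hXK)) p V q := by
  obtain ⟨hDn, hDe, hD⟩ := Cfsg.Agent.S0601.result
    (CfsgLib.Transfer.centralizer_pCore_le_of_isPSolvable hsep hO)
  set D := ⨆ S : Sylow p ↥K, CfsgLib.Transfer.omegaCenterOf p (S : Subgroup ↥K) with hDdef
  haveI : D.Normal := hDn
  refine ⟨D, hDn, rfl,
    ⟨⟨hDe, hsep, CfsgLib.Transfer.pCore_quotient_centralizer_eq_bot D hD⟩, fun x => ?_,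
      PGroup.elemAb_isPGroup hX, hq.out, hndvd⟩⟩
  set σ : MulAut ↥K := K.normalizerMonoidHom.comp (inclusion hXK) x
  refine eq_of_le_of_card_ge ?_ (card_map_of_injective σ.injective).ge
  rw [hDdef, Subgroup.map_iSup]
  refine iSup_le fun S => ?_
  rw [CfsgLib.Transfer.omegaCenterOf_map σ.toMonoidHom σ.injective.injOn]
  let T : Sylow p ↥K := Sylow.ofCard ((S : Subgroup ↥K).map σ.toMonoidHom)
    ((card_map_of_injective (f := σ.toMonoidHom) σ.injective).trans S.card_eq_multiplicity)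
  exact le_iSup_of_le T (le_of_eq rfl)

theorem fixed_iff {K X : Subgroup G} (hXK : X ≤ normalizer (K : Set G)) (d : ↥K) :
    (∀ x : ↥X, K.normalizerMonoidHom.comp (inclusion hXK) x d = d) ↔
      (d : G) ∈ centralizer (X : Set G) := by
  rw [mem_centralizer_iff]
  constructor
  · intro h x hx
    have h1 : x * (d : G) * x⁻¹ = d := congrArg Subtype.val (h ⟨x, hx⟩)
    exact mul_inv_eq_iff_eq_mul.1 h1
  · intro h x
    apply Subtype.ext
    show (x : G) * (d : G) * (x : G)⁻¹ = d
    exact mul_inv_eq_iff_eq_mul.2 (h x x.2)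

end CfsgLib.PStab.BestOff
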