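import Cfsg.Agent.Lib.PStab.Offender.Structure
import Cfsg.Agent.Lib.PGroup.CyclicTransvection
import Cfsg.Agent.S0606
import Mathlib.GroupTheory.SemidirectProduct

/-!
Best offenders for the action of `G ⧸ C(V)` on a normal elementary abelian subgroup `V`, through the
semidirect product.
-/

set_option autoImplicit false

namespace CfsgLib.PStab.BestOff

open Subgroup Cfsg SemidirectProduct

variable {G : Type*} [Group G] (V : Subgroup G) [V.Normal]

/-- The action of `G ⧸ C(V)` on `V`. -/
def actHom : G ⧸ centralizer (V : Set G) →* MulAut ↥V :=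
  QuotientGroup.lift _ (MulAut.conjNormal (H := V)) fun g hg => by
    rw [MonoidHom.mem_ker]
    refine MulEquiv.ext fun v => Subtype.ext ?_
    rw [MulAut.conjNormal_apply, MulAut.one_apply, ← mem_centralizer_iff.1 hg v v.2,
      mul_inv_cancel_right]

/-- The semidirect product of `V` by `G ⧸ C(V)`. -/
abbrev Semi := ↥V ⋊[actHom V] (G ⧸ centralizer (V : Set G))

/-- The copy of `V` in the semidirect product. -/
abbrev semiV : Subgroup (Semi V) := (inl : ↥V →* Semi V).range

/-- The copy of the image of `A` in the semidirect product. -/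
abbrev semiMap (A : Subgroup G) : Subgroup (Semi V) :=
  (A.map (QuotientGroup.mk' (centralizer (V : Set G)))).map inr

instance [Finite G] : Finite (Semi V) := Finite.of_equiv _ SemidirectProduct.equivProd.symm

variable {V}

theorem inr_conj_inl (g : G) (v : ↥V) :
    (inr (QuotientGroup.mk' (centralizer (V : Set G)) g) : Semi V) * inl v *
      (inr (QuotientGroup.mk' (centralizer (V : Set G)) g))⁻¹ =
        inl ⟨g * v * g⁻¹, ‹V.Normal›.conj_mem v v.2 g⟩ := by
  rw [← map_inv, ← inl_aut]
  congr 1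

theorem card_semiV : Nat.card (semiV V) = Nat.card V :=
  (Nat.card_congr (MonoidHom.ofInjective (f := (inl : ↥V →* Semi V)) inl_injective).toEquiv).symm

theorem semi_le_normalizer [Finite G] (S : Subgroup (G ⧸ centralizer (V : Set G))) :
    S.map (inr : _ →* Semi V) ≤ normalizer (semiV V : Set (Semi V)) := by
  rintro _ ⟨q, -, rfl⟩
  rw [mem_normalizer_iff_map_conj_eq]
  refine eq_of_le_of_card_ge ?_ (card_map_of_injective (MulAut.conj _).injective).ge
  rintro _ ⟨_, ⟨v, rfl⟩, rfl⟩
  refine ⟨actHom V q v, ?_⟩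
  show (inl (actHom V q v) : Semi V) = inr q * inl v * (inr q)⁻¹
  rw [inl_aut, map_inv]

theorem card_fix (A : Subgroup G) :
    Nat.card ↥(semiV V ⊓ centralizer (semiMap V A : Set (Semi V))) =
      Nat.card ↥(V ⊓ centralizer (A : Set G)) := by
  have h : semiV V ⊓ centralizer (semiMap V A : Set (Semi V)) =
      ((V ⊓ centralizer (A : Set G)).subgroupOf V).map (inl : ↥V →* Semi V) := by
    ext y
    constructor
    · rintro ⟨⟨v, rfl⟩, hv⟩
      refine ⟨v, ⟨v.2, mem_centralizer_iff.2 fun a ha => ?_⟩, rfl⟩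
      have h1 : (inr (QuotientGroup.mk' _ a) : Semi V) * inl v * (inr (QuotientGroup.mk' _ a))⁻¹ =
          inl v := by
        rw [mem_centralizer_iff.1 hv _ ⟨_, ⟨a, ha, rfl⟩, rfl⟩, mul_inv_cancel_right]
      rw [inr_conj_inl] at h1
      exact mul_inv_eq_iff_eq_mul.1 (congrArg Subtype.val (inl_injective h1))
    · rintro ⟨v, hv, rfl⟩
      refine ⟨⟨v, rfl⟩, mem_centralizer_iff.2 ?_⟩
      rintro _ ⟨_, ⟨a, ha, rfl⟩, rfl⟩
      apply mul_inv_eq_iff_eq_mul.1
      rw [inr_conj_inl]
      congr 1
      exact Subtype.ext (mul_inv_eq_iff_eq_mul.2 (mem_centralizer_iff.1 hv.2 a ha))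
  rw [h, card_map_of_injective inl_injective]
  exact Nat.card_congr (subgroupOfEquivOfLe inf_le_left).toEquiv

variable [Finite G] {p : ℕ} [hp : Fact p.Prime]

theorem semi_faithful :
    (⊤ : Subgroup (G ⧸ centralizer (V : Set G))).map (inr : _ →* Semi V) ⊓
      centralizer (semiV V : Set (Semi V)) = ⊥ := by
  rw [eq_bot_iff]
  rintro y ⟨⟨q, -, rfl⟩, hc⟩
  obtain ⟨g, rfl⟩ := QuotientGroup.mk'_surjective _ q
  have hg : g ∈ centralizer (V : Set G) := by
    refine mem_centralizer_iff.2 fun v hv => ?_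
    have h1 : (inr (QuotientGroup.mk' _ g) : Semi V) * inl ⟨v, hv⟩ *
        (inr (QuotientGroup.mk' _ g))⁻¹ = inl ⟨v, hv⟩ := by
      rw [← mem_centralizer_iff.1 hc _ ⟨⟨v, hv⟩, rfl⟩, mul_inv_cancel_right]
    rw [inr_conj_inl] at h1
    exact (mul_inv_eq_iff_eq_mul.1 (congrArg Subtype.val (inl_injective h1))).symm
  rw [mem_bot, show QuotientGroup.mk' _ g = 1 from (QuotientGroup.eq_one_iff g).2 hg, map_one]

/-- A normal subgroup `K` of `G ⧸ C(V)` gives a faithful pair. -/
theorem setup_semi (hV : IsElementaryAbelian p V) (hsep : IsPSolvable p G)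
    (hO : pCore p (G ⧸ centralizer (V : Set G)) = ⊥)
    (K : Subgroup (G ⧸ centralizer (V : Set G))) [K.Normal] :
    Setup p (semiV V) (K.map inr) ((pPrimeCore p ↥(K.map (inr : _ →* Semi V))).map
      (K.map (inr : _ →* Semi V)).subtype) := by
  set Ks := K.map (inr : _ →* Semi V)
  refine setup_of_pPrimeCore ?_ (semi_le_normalizer K) ?_ ?_
  · rw [semiV, MonoidHom.range_eq_map]
    refine PGroup.elemAb_map ?_ _
    exact PGroup.isElementaryAbelian_mk
      (fun a _ b _ => Subtype.ext (PGroup.elemAb_comm hV a.2 b.2))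
      (fun a _ => Subtype.ext (hV.2 a a.2))
  · rw [eq_bot_iff, ← semi_faithful (V := V)]
    exact inf_le_inf_right _ (Subgroup.map_mono le_top)
  · refine CfsgLib.PGroup.CyclicTransvection.centralizer_pPrimeCore_le ?_ ?_
    · exact CfsgLib.Transfer.isPSolvable_map_subgroup (CfsgLib.Transfer.isPSolvable_subgroup
        (CfsgLib.Transfer.isPSolvable_quotient hsep _) K) _
    · have hK : pCore p ↥K = ⊥ := by
        haveI := Cores.pCore_characteristic (G := ↥K) p
        refine (map_eq_bot_iff_of_injective _ K.subtype_injective).1 (eq_bot_iff.2 ?_)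
        rw [← hO]
        exact Cores.le_pCore ((Cores.isPGroup_pCore p).map _)
      rw [← Cores.map_pCore_equiv (K.equivMapOfInjective (inr : _ →* Semi V) inr_injective), hK,
        Subgroup.map_bot]

theorem card_eq_semiMap_mul (A : Subgroup G) :
    Nat.card A = Nat.card (semiMap V A) * Nat.card ↥(A ⊓ centralizer (V : Set G)) := by
  have h1 := relIndex_mul_relIndex (⊥ : Subgroup G) (A ⊓ centralizer (V : Set G)) A bot_le inf_le_left
  rw [relIndex_bot_left, relIndex_bot_left, inf_relIndex_left] at h1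
  rw [← h1, mul_comm]
  congr 1
  rw [semiMap, card_map_of_injective inr_injective,
    ← relIndex_bot_left (A.map (QuotientGroup.mk' (centralizer (V : Set G)))), ← relIndex_comap,
    MonoidHom.comap_bot, QuotientGroup.ker_mk']

/-- The image of a largest elementary abelian subgroup meets the offender bound. -/
theorem isEq_maxEA {Hs Qs : Subgroup (Semi V)} (hV : IsElementaryAbelian p V)
    (hS : Setup p (semiV V) Hs Qs) {A : Subgroup G} (hA : A ∈ maxElementaryAbelianSubgroups p G)
    (hle : semiMap V A ≤ Hs) : IsEq p (semiV V) (semiMap V A) := by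
  have he : IsElementaryAbelian p (semiMap V A) := PGroup.elemAb_map (PGroup.elemAb_map hA.1 _) _
  refine ⟨he, le_antisymm (hS.card_le he hle) ?_⟩
  have h1 := (Cfsg.Agent.S0606.result V hV A hA).1 (A ⊓ centralizer (V : Set G)) inf_le_left
  have h2 : V ⊓ centralizer ((A ⊓ centralizer (V : Set G) : Subgroup G) : Set G) = V :=
    inf_eq_left.2 (le_centralizer_iff.1 inf_le_right)
  rw [h2, card_eq_semiMap_mul (V := V) A, mul_comm (Nat.card (semiMap V A)), mul_assoc] at h1
  rw [card_semiV, card_fix]
  exact Nat.le_of_mul_le_mul_left h1 Nat.card_pos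

/-- `|V| |A ∩ C(V)| = |A| |C_V(A)|` for a largest elementary abelian subgroup `A`. -/
theorem card_maxEA (hV : IsElementaryAbelian p V) (hsep : IsPSolvable p G)
    (hO : pCore p (G ⧸ centralizer (V : Set G)) = ⊥) {A : Subgroup G}
    (hA : A ∈ maxElementaryAbelianSubgroups p G) :
    Nat.card V * Nat.card ↥(A ⊓ centralizer (V : Set G)) =
      Nat.card A * Nat.card ↥(V ⊓ centralizer (A : Set G)) := by
  have h := (isEq_maxEA hV (setup_semi hV hsep hO ⊤) hA (Subgroup.map_mono le_top)).2
  rw [card_semiV, card_fix] at h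
  rw [card_eq_semiMap_mul (V := V) A, ← h]
  ring

end CfsgLib.PStab.BestOff
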