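import Cfsg.Agent.Lib.PStab.Offender.Operators

/-!
Generation by the normalizer of `J(S)`, the centralizer of `Ω₁(Z(S))` and the fixed points of coprime operators.
-/

set_option autoImplicit false

namespace CfsgLib.PStab.BestOff

open Subgroup Cfsg

variable {G : Type*} [Group G] [Finite G] {p : ℕ} [hp : Fact p.Prime] {V : Subgroup G} [V.Normal]

namespace PSep

omit hp in
theorem trElts_conj {b g : G} (hb : b ∈ trElts p V)
    (hg : g ∈ thompsonSubgroup p G ⊔ centralizer (V : Set G)) : g * b * g⁻¹ ∈ trElts p V := by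
  have hCn : (centralizer (V : Set G)).Normal := inferInstance
  refine ⟨mul_mem (mul_mem hg hb.1) (inv_mem hg), fun hc => hb.2.1 ?_, ?_, ?_⟩
  · simpa [mul_assoc] using hCn.conj_mem _ hc g⁻¹
  · rw [conj_pow]
    exact hCn.conj_mem _ hb.2.2.1 g
  · have e : V ⊓ centralizer (zpowers (g * b * g⁻¹) : Set G) =
        (V ⊓ centralizer (zpowers b : Set G)).map (MulAut.conj g).toMonoidHom := by
      rw [map_inf _ _ _ (MulAut.conj g).injective, map_conj_centralizer, MonoidHom.map_zpowers]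
      congr 1
      exact (mem_normalizer_iff_map_conj_eq.1 (by rw [normalizer_eq_top]; trivial)).symm
    rw [e, card_map_of_injective (K := V ⊓ centralizer (zpowers b : Set G)) (MulAut.conj g).injective]
    exact hb.2.2.2

/-- A transvection has a power that is a `p`-element inducing the same map. -/
theorem exists_pElt (h : PSep p V) {b : G} (hb : b ∈ trElts p V) :
    ∃ b' ∈ trElts p V, IsPGroup p (zpowers b') ∧ compOf p V b' = compOf p V b := by
  obtain ⟨k, m, hm, hbm⟩ := Nat.exists_eq_pow_mul_and_not_dvd (orderOf_pos b).ne' p hp.out.ne_one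
  have hcop : (p ^ (k + 1)).Coprime m := (hp.out.coprime_iff_not_dvd.2 hm).pow_left _
  obtain ⟨n, hn1, hn2⟩ := Nat.chineseRemainder hcop 1 0
  have hmn : m ∣ n := Nat.modEq_zero_iff_dvd.1 hn2
  have hnp : n ≡ 1 [MOD p] := hn1.of_dvd (dvd_pow_self p (Nat.succ_ne_zero k))
  have hmem : b ^ n ∈ compOf p V b := pow_mem (self_mem_compOf b) n
  have hC : ∀ c : G, semiProj V (b ^ n) = semiProj V b := fun _ => by
    rw [map_pow]
    have h1 : semiProj V b ^ p = 1 := by
      rw [← map_pow, semiProj_eq_one]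
      exact hb.2.2.1
    rw [← pow_one (semiProj V b)]
    rw [← pow_mul, one_mul]
    have h2 : n ≡ 1 [MOD orderOf (semiProj V b)] := hnp.of_dvd (orderOf_dvd_of_pow_eq_one h1)
    exact (pow_eq_pow_iff_modEq.2 h2)
  have hproj := hC 1
  have htr : b ^ n ∈ trElts p V := by
    refine ⟨pow_mem hb.1 n, fun hc => hb.2.1 ?_, ?_, ?_⟩
    · rwa [← semiProj_eq_one, ← hproj, semiProj_eq_one]
    · rw [← semiProj_eq_one, map_pow, hproj, ← map_pow, semiProj_eq_one]
      exact hb.2.2.1
    · rw [← card_fix, ← card_semiV (V := V)]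
      have e : semiMap V (zpowers (b ^ n)) = zpowers (semiProj V b) := by
        rw [semiMap, Subgroup.map_map, MonoidHom.map_zpowers]
        exact congrArg _ hproj
      rw [e]
      exact (h.isTr hb).tr.2
  refine ⟨b ^ n, htr, ?_, h.compOf_eq hb htr hmem⟩
  intro y
  refine ⟨k, Subtype.ext ?_⟩
  obtain ⟨j, hj⟩ := mem_zpowers_iff.1 y.2
  have h1 : (b ^ n) ^ p ^ k = 1 := by
    rw [← pow_mul]
    obtain ⟨r, rfl⟩ := hmn
    rw [show m * r * p ^ k = (p ^ k * m) * r by ring, ← hbm, pow_mul, pow_orderOf_eq_one, one_pow]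
  rw [Subgroup.coe_pow, ← hj, ← zpow_natCast, ← zpow_mul, mul_comm, zpow_mul, zpow_natCast, h1,
    one_zpow, OneMemClass.coe_one]

/-- Conjugates of a transvection in its component differ from a power of a conjugate by an element of the
component only modulo `C(V)`. -/
theorem exists_conj_in_comp (h : PSep p V) {a g : G} (ha : a ∈ trElts p V)
    (hg : g ∈ thompsonSubgroup p G ⊔ centralizer (V : Set G)) :
    ∃ e ∈ compOf p V a, ∃ k : ℤ, ((e * a * e⁻¹) ^ k)⁻¹ * (g * a * g⁻¹) ∈ centralizer (V : Set G) := by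
  set L := comp (semiQ V p) (zpowers (semiProj V a))
  have hS := h.isTr ha
  obtain ⟨φ⟩ := hS.iso
  have hcard : ∀ S : Subgroup (Semi V), S ≤ L → Nat.card S = p →
      ∃ P : Sylow p ↥L, (P : Subgroup ↥L) = S.subgroupOf L := by
    intro S hSL hSc
    refine ⟨Sylow.ofCard (S.subgroupOf L) ?_, rfl⟩
    rw [Nat.card_congr (subgroupOfEquivOfLe hSL).toEquiv, hSc, Nat.card_congr φ.toEquiv]
    rcases hS.p_cases with rfl | rfl
    · rw [card_SL_two, show 6 = 2 * 3 by rfl, Nat.factorization_mul two_ne_zero three_ne_zero,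
        Finsupp.add_apply, Nat.prime_two.factorization_self,
        Nat.factorization_eq_zero_of_not_dvd (by norm_num : ¬ 2 ∣ 3), add_zero, pow_one]
    · rw [card_SL_three, show 24 = 3 * 8 by rfl, Nat.factorization_mul three_ne_zero (by norm_num),
        Finsupp.add_apply, Nat.prime_three.factorization_self,
        Nat.factorization_eq_zero_of_not_dvd (by norm_num : ¬ 3 ∣ 8), add_zero, pow_one]
  obtain ⟨P1, hP1⟩ := hcard (zpowers (semiProj V a)) le_sup_right hS.tr.1
  set b := semiProj V g * semiProj V a * (semiProj V g)⁻¹ with hb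
  have hbc : Nat.card ↥(zpowers b) = p := by
    rw [Nat.card_zpowers, hb, ← MulAut.conj_apply, MulEquiv.orderOf_eq, ← Nat.card_zpowers]
    exact hS.tr.1
  obtain ⟨P2, hP2⟩ := hcard (zpowers b) (zpowers_le.2 (h.conj_mem_compOf ha hg)) hbc
  obtain ⟨l, hl⟩ := MulAction.exists_smul_eq ↥L P1 P2
  have hbl : (⟨b, h.conj_mem_compOf ha hg⟩ : ↥L) ∈ ((l • P1 : Sylow p ↥L) : Subgroup ↥L) := by
    rw [hl, hP2]
    exact mem_zpowers b
  rw [Sylow.coe_subgroup_smul, hP1] at hbl
  obtain ⟨s, hs, hsb⟩ := hbl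
  obtain ⟨e, he, hel⟩ := (h.map_compOf ha).ge l.2
  obtain ⟨k, hk⟩ := mem_zpowers_iff.1 hs
  refine ⟨e, he, k, ?_⟩
  rw [← semiProj_eq_one, map_mul, map_inv, inv_mul_eq_one, map_zpow]
  simp only [map_mul, map_inv]
  rw [conj_zpow, hel]
  have h1 : (l : Semi V) * (s : Semi V) * (l : Semi V)⁻¹ = b := congrArg Subtype.val hsb
  rw [← show semiProj V a ^ k = (s : Semi V) from hk] at h1
  exact h1

end PSep

namespace Oper

variable {A : Type*} [Group A] [Finite A] {φ : A →* MulAut G} {q : ℕ}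

/-- A subgroup containing `C(V)`, a Sylow subgroup and the fixed points contains `J(G)`. -/
theorem thompsonSubgroup_le (h : Oper φ p V q) (S : Sylow p G) (Y : Subgroup G)
    (hCY : centralizer (V : Set G) ≤ Y) (hSY : (S : Subgroup G) ≤ Y)
    (hfixY : ∀ d : G, (∀ x, φ x d = d) → d ∈ Y) : thompsonSubgroup p G ≤ Y := by
  refine h.psep.le_closure_trElts.trans (sup_le hCY ((closure_le _).2 fun b hb => ?_))
  obtain ⟨b', hb', hbp, hbc⟩ := h.psep.exists_pElt hb
  set JC := thompsonSubgroup p G ⊔ centralizer (V : Set G)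
  haveI : (thompsonSubgroup p G).Normal := CfsgLib.Transfer.thompsonSubgroup_normal_inst' p
  haveI : JC.Normal := inferInstance
  obtain ⟨T, hT⟩ := CfsgLib.Transfer.exists_sylow_map_eq_inf JC S
  obtain ⟨P, hP⟩ := (hbp.of_equiv
    (subgroupOfEquivOfLe (zpowers_le.2 hb'.1 : zpowers b' ≤ JC)).symm).exists_le_sylow
  obtain ⟨c, hc⟩ := MulAction.exists_smul_eq ↥JC P T
  set a := (c : G) * b' * (c : G)⁻¹ with ha
  have haT : (⟨a, mul_mem (mul_mem c.2 hb'.1) (inv_mem c.2)⟩ : ↥JC) ∈ (T : Subgroup ↥JC) := by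
    rw [← hc, Sylow.coe_subgroup_smul]
    exact ⟨⟨b', hb'.1⟩, hP (mem_zpowers b'), rfl⟩
  have haS : a ∈ (S : Subgroup G) := (hT.le ⟨_, haT, rfl⟩).1
  have hatr : a ∈ trElts p V := PSep.trElts_conj hb' c.2
  have hcomp : compOf p V a = compOf p V b := by
    rw [← hbc]
    exact h.psep.compOf_eq hb' hatr
      ((mem_normalizer_iff.1 (h.psep.le_normalizer_compOf c.2) b').1 (self_mem_compOf b'))
  have hle : compOf p V a ≤ Y := by
    refine sup_le hCY ((closure_le _).2 ?_)
    rintro _ ⟨g, hg, rfl⟩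
    obtain ⟨e, he, k, hk⟩ := h.psep.exists_conj_in_comp hatr hg
    obtain ⟨d, hd, hdf⟩ := h.exists_fixed hatr he
    have h1 := h.conj_eq_mod hatr he hd
    have hdad : d * a * d⁻¹ ∈ Y := mul_mem (mul_mem (hfixY d hdf) (hSY haS)) (inv_mem (hfixY d hdf))
    have h2 : e * a * e⁻¹ ∈ Y := by
      have h3 := mul_mem hdad (inv_mem (hCY h1))
      convert h3 using 1
      group
    have h4 := mul_mem (zpow_mem h2 k) (hCY hk)
    rwa [mul_inv_cancel_left] at h4
  exact hle (hcomp ▸ self_mem_compOf b)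

theorem eq_top (h : Oper φ p V q) (S : Sylow p G) (Y : Subgroup G)
    (hCY : centralizer (V : Set G) ≤ Y)
    (hnY : normalizer (thompsonSubgroupOf p (S : Subgroup G) : Set G) ≤ Y)
    (hfixY : ∀ d : G, (∀ x, φ x d = d) → d ∈ Y) : Y = ⊤ := by
  have hconj : ∀ (T : Subgroup G) (n : G), n ∈ normalizer (T : Set G) →
      n ∈ normalizer (thompsonSubgroupOf p T : Set G) := by
    intro T n hn
    rw [mem_normalizer_iff_map_conj_eq]
    exact (CfsgLib.Transfer.thompsonSubgroupOf_map (p := p) (MulAut.conj n).toMonoidHom (S := T)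
      (MulAut.conj n).injective.injOn).trans
      (congrArg (thompsonSubgroupOf p) (mem_normalizer_iff_map_conj_eq.1 hn))
  have hSY : (S : Subgroup G) ≤ Y := fun s hs => hnY (hconj _ s (le_normalizer hs))
  have hJY := h.thompsonSubgroup_le S Y hCY hSY hfixY
  haveI hJn : (thompsonSubgroup p G).Normal := CfsgLib.Transfer.thompsonSubgroup_normal_inst' p
  obtain ⟨T, hT⟩ := CfsgLib.Transfer.exists_sylow_map_eq_inf (thompsonSubgroup p G) S
  have hJS : thompsonSubgroupOf p (S : Subgroup G) ≤ thompsonSubgroup p G := by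
    rw [CfsgLib.Transfer.thompsonSubgroup_eq_iSup]
    exact le_iSup (fun S : Sylow p G => thompsonSubgroupOf p (S : Subgroup G)) S
  have hJT : thompsonSubgroupOf p ((S : Subgroup G) ⊓ thompsonSubgroup p G) =
      thompsonSubgroupOf p (S : Subgroup G) :=
    CfsgLib.Transfer.thompsonSubgroupOf_eq_of_le inf_le_left
      (le_inf (CfsgLib.Transfer.thompsonSubgroupOf_le p _) hJS)
  rw [eq_top_iff, ← Sylow.normalizer_sup_eq_top T]
  refine sup_le ?_ hJY
  rw [hT]
  intro n hn
  exact hnY (hJT ▸ hconj _ n hn)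

end Oper

end CfsgLib.PStab.BestOff
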