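import Cfsg.Agent.Lib.PStab.Offender.Components
import Cfsg.Agent.Lib.Solvable.CoprimeAction
import Mathlib.Algebra.BigOperators.Group.Finset.Basic

/-!
A coprime operator group on a group with failing Thompson factorization centralizes a diagonal component.
-/

set_option autoImplicit false

namespace CfsgLib.PStab.BestOff

open Subgroup Cfsg

variable {G : Type*} [Group G] [Finite G] {p : ℕ} [hp : Fact p.Prime] {V : Subgroup G} [V.Normal]
variable {A : Type*} [Group A] (φ : A →* MulAut G)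

/-- Equivariance hypotheses for a group `A` of automorphisms. -/
structure Oper (p : ℕ) (V : Subgroup G) [V.Normal] (q : ℕ) : Prop where
  psep : PSep p V
  invariant : ∀ x, V.map (φ x).toMonoidHom = V
  qgroup : IsPGroup q A
  prime : q.Prime
  not_dvd : ¬ q ∣ Nat.card G

namespace Oper

variable {φ} {q : ℕ}

omit hp in
theorem map_mono' (x : A) {H K : Subgroup G} (h : H ≤ K) :
    H.map (φ x).toMonoidHom ≤ K.map (φ x).toMonoidHom := Subgroup.map_mono h

omit [Finite G] hp in
theorem apply_mem (h : Oper φ p V q) (x : A) {v : G} (hv : v ∈ V) : φ x v ∈ V := by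
  rw [← h.invariant x]
  exact ⟨v, hv, rfl⟩

omit hp in
theorem map_centralizer_eq (h : Oper φ p V q) (x : A) :
    (centralizer (V : Set G)).map (φ x).toMonoidHom = centralizer (V : Set G) := by
  refine eq_of_le_of_card_ge ?_ (card_map_of_injective (φ x).injective).ge
  rintro _ ⟨c, hc, rfl⟩
  refine mem_centralizer_iff.2 fun v hv => ?_
  obtain ⟨u, hu, rfl⟩ := (h.invariant x).ge hv
  show φ x u * φ x c = φ x c * φ x u
  rw [← map_mul, ← map_mul, mem_centralizer_iff.1 hc u hu]

omit hp in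
theorem map_base (h : Oper φ p V q) (x : A) :
    (thompsonSubgroup p G ⊔ centralizer (V : Set G)).map (φ x).toMonoidHom =
      thompsonSubgroup p G ⊔ centralizer (V : Set G) := by
  rw [Subgroup.map_sup, h.map_centralizer_eq, CfsgLib.Transfer.thompsonSubgroup_map]

omit hp in
theorem trElts_map (h : Oper φ p V q) (x : A) {a : G} (ha : a ∈ trElts p V) :
    φ x a ∈ trElts p V := by
  refine ⟨(h.map_base x).le ⟨a, ha.1, rfl⟩, fun hc => ha.2.1 ?_, ?_, ?_⟩
  · obtain ⟨c, hc', e⟩ := (h.map_centralizer_eq x).ge hc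
    rwa [← (φ x).injective (show φ x c = φ x a from e)]
  · rw [← map_pow]
    exact (h.map_centralizer_eq x).le ⟨_, ha.2.2.1, rfl⟩
  · have e : V ⊓ centralizer (zpowers (φ x a) : Set G) =
        (V ⊓ centralizer (zpowers a : Set G)).map (φ x).toMonoidHom := by
      ext y
      constructor
      · rintro ⟨hy1, hy2⟩
        obtain ⟨u, hu, rfl⟩ := (h.invariant x).ge hy1
        refine ⟨u, ⟨hu, mem_centralizer_iff.2 fun z hz => ?_⟩, rfl⟩
        obtain ⟨k, rfl⟩ := mem_zpowers_iff.1 hz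
        apply (φ x).injective
        rw [map_mul, map_mul]
        exact mem_centralizer_iff.1 hy2 _ (by rw [map_zpow]; exact zpow_mem (mem_zpowers _) k)
      · rintro ⟨u, ⟨hu1, hu2⟩, rfl⟩
        refine ⟨h.apply_mem x hu1, mem_centralizer_iff.2 fun z hz => ?_⟩
        obtain ⟨k, rfl⟩ := mem_zpowers_iff.1 hz
        show φ x a ^ k * φ x u = φ x u * φ x a ^ k
        rw [← map_zpow, ← map_mul, ← map_mul, mem_centralizer_iff.1 hu2 _ (zpow_mem (mem_zpowers a) k)]
    rw [e, card_map_of_injective (φ x).injective]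
    exact ha.2.2.2

omit hp in
theorem compOf_map (h : Oper φ p V q) (x : A) (a : G) :
    compOf p V (φ x a) = (compOf p V a).map (φ x).toMonoidHom := by
  rw [compOf, compOf, Subgroup.map_sup, h.map_centralizer_eq, MonoidHom.map_closure]
  congr 2
  ext y
  constructor
  · rintro ⟨g, hg, rfl⟩
    obtain ⟨g', hg', rfl⟩ := (h.map_base x).ge hg
    exact ⟨g' * a * g'⁻¹, ⟨g', hg', rfl⟩, by simp⟩
  · rintro ⟨_, ⟨g, hg, rfl⟩, rfl⟩
    exact ⟨φ x g, (h.map_base x).le ⟨g, hg, rfl⟩, by simp⟩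

omit hp in
theorem planeOf_map (h : Oper φ p V q) (x : A) (a : G) :
    planeOf p V (φ x a) = (planeOf p V a).map (φ x).toMonoidHom := by
  rw [planeOf, planeOf, map_commutator, h.compOf_map, h.invariant]

omit hp in
theorem apply_mem_plane (h : Oper φ p V q) (x : A) {a w : G} (hw : w ∈ planeOf p V a) :
    φ x w ∈ planeOf p V (φ x a) := by
  rw [h.planeOf_map]
  exact ⟨w, hw, rfl⟩

theorem q_ne (h : Oper φ p V q) {a : G} (ha : a ∈ trElts p V) : q ≠ 2 ∧ q ≠ 3 := by
  have h6 := (h.psep.six_dvd ha).2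
  exact ⟨fun e => h.not_dvd (e ▸ dvd_trans (by norm_num) h6),
    fun e => h.not_dvd (e ▸ dvd_trans (by norm_num) h6)⟩

/-- An operator fixing a component fixes its plane pointwise. -/
theorem fix_of_stab (h : Oper φ p V q) {a : G} (ha : a ∈ trElts p V) {z : A}
    (hz : compOf p V (φ z a) = compOf p V a) {w : G} (hw : w ∈ planeOf p V a) : φ z w = w := by
  haveI : Fact q.Prime := ⟨h.prime⟩
  set W := planeOf p V a with hW
  have hWz : W.map (φ z).toMonoidHom = W := by
    rw [hW, ← h.planeOf_map, planeOf, planeOf, hz]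
  obtain ⟨k, hk⟩ := h.qgroup z
  set σ : MulAut G := φ z with hσ
  have hσk : σ ^ q ^ k = 1 := by rw [hσ, ← map_pow, hk, map_one]
  have hinv : ∀ τ ∈ zpowers σ, ∀ u ∈ W, τ u ∈ W := by
    intro τ hτ
    have hσW : ∀ u ∈ W, σ u ∈ W := fun u hu => hWz.le ⟨u, hu, rfl⟩
    have hfin : IsOfFinOrder σ :=
      isOfFinOrder_iff_pow_eq_one.2 ⟨q ^ k, pow_pos h.prime.pos k, hσk⟩
    obtain ⟨n, rfl⟩ := hfin.mem_powers_iff_mem_zpowers.2 hτ
    induction n with
    | zero => exact fun u hu => hu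
    | succ n ih =>
      intro u hu
      show (σ ^ (n + 1)) u ∈ W
      rw [pow_succ', MulAut.mul_apply]
      exact hσW _ (ih (pow_mem (mem_zpowers σ) n) u hu)
  letI : MulAction ↥(zpowers σ) ↥W :=
    { smul := fun τ u => ⟨(τ : MulAut G) u, hinv τ τ.2 u u.2⟩
      one_smul := fun u => Subtype.ext rfl
      mul_smul := fun τ τ' u => Subtype.ext rfl }
  have hP : IsPGroup q ↥(zpowers σ) := by
    intro τ
    refine ⟨k, Subtype.ext ?_⟩
    obtain ⟨j, hj⟩ := mem_zpowers_iff.1 τ.2
    rw [Subgroup.coe_pow, ← hj, ← zpow_natCast, ← zpow_mul, mul_comm, zpow_mul, zpow_natCast, hσk,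
      one_zpow, OneMemClass.coe_one]
  have hmod := hP.card_modEq_card_fixedPoints ↥W
  let F : Subgroup ↥W :=
    { carrier := {u | σ (u : G) = u}
      one_mem' := map_one σ
      mul_mem' := fun {u v} hu hv => by
        show σ ((u : G) * v) = (u : G) * v
        rw [map_mul, hu, hv]
      inv_mem' := fun {u} hu => by
        show σ (u : G)⁻¹ = (u : G)⁻¹
        rw [map_inv, hu] }
  have hF : MulAction.fixedPoints ↥(zpowers σ) ↥W = (F : Set ↥W) := by
    ext u
    constructor
    · intro hu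
      exact congrArg Subtype.val (hu ⟨σ, mem_zpowers σ⟩)
    · intro hu τ
      apply Subtype.ext
      show (τ : MulAut G) (u : G) = u
      have hst : zpowers σ ≤ MulAction.stabilizer (MulAut G) (u : G) := zpowers_le.2 hu
      exact hst τ.2
  rw [hF] at hmod
  have hcardW : Nat.card ↥W = p ^ 2 := h.psep.card_planeOf ha
  rw [hcardW, SetLike.coe_sort_coe] at hmod
  obtain ⟨m, hm, hFm⟩ := (Nat.dvd_prime_pow hp.out).1 (hcardW ▸ F.card_subgroup_dvd_card)
  rw [hFm] at hmod
  obtain ⟨h2, h3⟩ := h.q_ne ha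
  have h24 : ¬ q ∣ 24 := fun hd => by
    rcases (Nat.Prime.dvd_mul h.prime).1 (show q ∣ 2 ^ 3 * 3 from hd) with e | e
    · exact h2 ((Nat.prime_dvd_prime_iff_eq h.prime Nat.prime_two).1 (h.prime.dvd_of_dvd_pow e))
    · exact h3 ((Nat.prime_dvd_prime_iff_eq h.prime Nat.prime_three).1 e)
  have hm2 : m = 2 := by
    by_contra hne
    have hmodd := (Nat.modEq_iff_dvd' (Nat.pow_le_pow_right hp.out.pos hm)).1 hmod.symm
    rcases (h.psep.six_dvd ha).1 with rfl | rfl <;> interval_cases m <;>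
      norm_num at hmodd hne <;>
      first
      | exact hne
      | exact h24 (dvd_trans hmodd (by norm_num))
  have htop : F = ⊤ := eq_top_of_card_eq F (by rw [hFm, hm2, hcardW])
  have hmem : (⟨w, hw⟩ : ↥W) ∈ F := htop ▸ Subgroup.mem_top _
  exact hmem

/-- The elements acting on every translate of the plane like the translate of `e`. -/
def Acts (φ : A →* MulAut G) (p : ℕ) (V : Subgroup G) (a e d : G) : Prop :=
  d ∈ thompsonSubgroup p G ⊔ centralizer (V : Set G) ∧
    ∀ (x : A), ∀ w ∈ planeOf p V a, d * φ x w * d⁻¹ = φ x (e * w * e⁻¹)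

theorem conj_mem_plane (h : Oper φ p V q) {a e w : G}
    (he : e ∈ thompsonSubgroup p G ⊔ centralizer (V : Set G)) (hw : w ∈ planeOf p V a) :
    e * w * e⁻¹ ∈ planeOf p V a :=
  (mem_normalizer_iff.1 (h.psep.le_normalizer_planeOf he) w).1 hw

theorem exists_acts [Finite A] (h : Oper φ p V q) {a : G} (ha : a ∈ trElts p V) {e : G}
    (he : e ∈ compOf p V a) : ∃ d, Acts φ p V a e d := by
  classical
  haveI := Fintype.ofFinite A
  set O : A → Subgroup G := fun x => compOf p V (φ x a) with hO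
  have he' := compOf_le ha.1 he
  suffices key : ∀ S : Finset A, ∃ k, k ∈ thompsonSubgroup p G ⊔ centralizer (V : Set G) ∧
      ∀ x, ∀ w ∈ planeOf p V a,
        ((∃ y ∈ S, O y = O x) → k * φ x w * k⁻¹ = φ x (e * w * e⁻¹)) ∧
        ((¬ ∃ y ∈ S, O y = O x) → k * φ x w * k⁻¹ = φ x w) by
    obtain ⟨k, hk, hk'⟩ := key Finset.univ
    exact ⟨k, hk, fun x w hw => (hk' x w hw).1 ⟨x, Finset.mem_univ x, rfl⟩⟩
  intro S
  induction S using Finset.induction with
  | empty =>
    refine ⟨1, one_mem _, fun x w _ => ⟨?_, fun _ => by group⟩⟩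
    rintro ⟨y, hy, -⟩
    exact absurd hy (Finset.notMem_empty y)
  | insert z S hz ih =>
    obtain ⟨k, hk, hk'⟩ := ih
    by_cases hex : ∃ y ∈ S, O y = O z
    · refine ⟨k, hk, fun x w hw => ⟨fun ⟨y, hy, hyx⟩ => (hk' x w hw).1 ?_, fun hn =>
        (hk' x w hw).2 fun ⟨y, hy, hyx⟩ => hn ⟨y, Finset.mem_insert_of_mem hy, hyx⟩⟩⟩
      rcases Finset.mem_insert.1 hy with rfl | hy'
      · obtain ⟨y', hy', e'⟩ := hex
        exact ⟨y', hy', e'.trans hyx⟩
      · exact ⟨y, hy', hyx⟩
    · have hze : φ z e ∈ compOf p V (φ z a) := (h.compOf_map z a).ge ⟨e, he, rfl⟩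
      refine ⟨k * φ z e, mul_mem hk ((h.map_base z).le ⟨e, he', rfl⟩), fun x w hw => ?_⟩
      by_cases hzx : O z = O x
      · refine ⟨fun _ => ?_, fun hn => absurd ⟨z, Finset.mem_insert_self z S, hzx⟩ hn⟩
        have hst : compOf p V (φ (z⁻¹ * x) a) = compOf p V a := by
          rw [map_mul, MulAut.mul_apply, h.compOf_map, ← show compOf p V (φ z a) = compOf p V (φ x a) from hzx]
          show (compOf p V (φ z a)).map (φ z⁻¹).toMonoidHom = _
          rw [← h.compOf_map, ← MulAut.mul_apply, ← map_mul, inv_mul_cancel, map_one]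
          rfl
        have hfix : ∀ u ∈ planeOf p V a, φ x u = φ z u := fun u hu => by
          conv_rhs => rw [← h.fix_of_stab ha hst hu]
          rw [← MulAut.mul_apply, ← map_mul, mul_inv_cancel_left]
        calc k * φ z e * φ x w * (k * φ z e)⁻¹
            = k * (φ z e * φ x w * (φ z e)⁻¹) * k⁻¹ := by group
          _ = k * φ x (e * w * e⁻¹) * k⁻¹ := by
              rw [hfix w hw, hfix _ (h.conj_mem_plane he' hw), map_mul, map_mul, map_inv]
          _ = _ := (hk' x _ (h.conj_mem_plane he' hw)).2 fun ⟨y, hy, hyx⟩ =>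
              hex ⟨y, hy, hyx.trans hzx.symm⟩
      · have hfz : φ z e * φ x w * (φ z e)⁻¹ = φ x w :=
          h.psep.fix_planeOf (h.trElts_map z ha) (h.trElts_map x ha) (fun e' => hzx e'.symm) hze
            (h.apply_mem_plane x hw)
        have e1 : k * φ z e * φ x w * (k * φ z e)⁻¹ = k * φ x w * k⁻¹ := by
          calc _ = k * (φ z e * φ x w * (φ z e)⁻¹) * k⁻¹ := by group
            _ = _ := by rw [hfz]
        rw [e1]
        refine ⟨fun ⟨y, hy, hyx⟩ => (hk' x w hw).1 ?_, fun hn => (hk' x w hw).2 fun ⟨y, hy, hyx⟩ =>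
          hn ⟨y, Finset.mem_insert_of_mem hy, hyx⟩⟩
        rcases Finset.mem_insert.1 hy with rfl | hy'
        · exact absurd hyx hzx
        · exact ⟨y, hy', hyx⟩

/-- The translate prescription is met by a fixed element. -/
theorem exists_fixed [Finite A] (h : Oper φ p V q) {a : G} (ha : a ∈ trElts p V) {e : G}
    (he : e ∈ compOf p V a) : ∃ d, Acts φ p V a e d ∧ ∀ x, φ x d = d := by
  obtain ⟨k, hk, hk'⟩ := h.exists_acts ha he
  have he' := compOf_le ha.1 he
  let M : Subgroup G :=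
    { carrier := {g | g ∈ thompsonSubgroup p G ⊔ centralizer (V : Set G) ∧
        ∀ x : A, ∀ w ∈ planeOf p V a, g * φ x w * g⁻¹ = φ x w}
      one_mem' := ⟨one_mem _, fun x w _ => by group⟩
      mul_mem' := fun {g g'} hg hg' => ⟨mul_mem hg.1 hg'.1, fun x w hw => by
        calc g * g' * φ x w * (g * g')⁻¹ = g * (g' * φ x w * g'⁻¹) * g⁻¹ := by group
          _ = _ := by rw [hg'.2 x w hw, hg.2 x w hw]⟩
      inv_mem' := fun {g} hg => ⟨inv_mem hg.1, fun x w hw => by
        conv_lhs => rw [← hg.2 x w hw]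
        group⟩ }
  have hMinv : ∀ x, ∀ g ∈ M, φ x g ∈ M := by
    intro x g hg
    refine ⟨(h.map_base x).le ⟨g, hg.1, rfl⟩, fun y w hw => ?_⟩
    have e1 : φ y w = φ x (φ (x⁻¹ * y) w) := by
      rw [← MulAut.mul_apply, ← map_mul, mul_inv_cancel_left]
    rw [e1, ← map_inv, ← map_mul, ← map_mul, hg.2 _ w hw]
  have hu : ∀ x, φ x k * k⁻¹ ∈ M := by
    intro x
    refine ⟨mul_mem ((h.map_base x).le ⟨k, hk, rfl⟩) (inv_mem hk), fun y w hw => ?_⟩
    have hv : e⁻¹ * w * e ∈ planeOf p V a := by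
      simpa using h.conj_mem_plane (inv_mem he') hw
    have e1 : k⁻¹ * φ y w * k = φ y (e⁻¹ * w * e) := by
      have h1 := hk' y _ hv
      rw [show e * (e⁻¹ * w * e) * e⁻¹ = w by group] at h1
      rw [← h1]
      group
    have e2 : φ y (e⁻¹ * w * e) = φ x (φ (x⁻¹ * y) (e⁻¹ * w * e)) := by
      rw [← MulAut.mul_apply, ← map_mul, mul_inv_cancel_left]
    calc φ x k * k⁻¹ * φ y w * (φ x k * k⁻¹)⁻¹ = φ x k * (k⁻¹ * φ y w * k) * (φ x k)⁻¹ := by group
      _ = φ x (k * φ (x⁻¹ * y) (e⁻¹ * w * e) * k⁻¹) := by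
          rw [e1, e2, ← map_inv (φ x) k, ← map_mul, ← map_mul]
      _ = φ y w := by
          rw [hk' _ _ hv, ← MulAut.mul_apply, ← map_mul, mul_inv_cancel_left,
            show e * (e⁻¹ * w * e) * e⁻¹ = w by group]
  haveI : Finite (G ⋊[φ] A) := Finite.of_equiv _ SemidirectProduct.equivProd.symm
  set X := (SemidirectProduct.inr : A →* G ⋊[φ] A).range
  set N := M.map (SemidirectProduct.inl : G →* G ⋊[φ] A)
  have hXN : X ≤ normalizer (N : Set (G ⋊[φ] A)) := by
    rintro _ ⟨x, rfl⟩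
    rw [mem_normalizer_iff_map_conj_eq]
    refine eq_of_le_of_card_ge ?_ (card_map_of_injective (MulAut.conj _).injective).ge
    rintro _ ⟨_, ⟨g, hg, rfl⟩, rfl⟩
    refine ⟨φ x g, hMinv x g hg, ?_⟩
    show (SemidirectProduct.inl (φ x g) : G ⋊[φ] A) = SemidirectProduct.inr x *
      SemidirectProduct.inl g * (SemidirectProduct.inr x)⁻¹
    rw [SemidirectProduct.inl_aut, map_inv]
  haveI hXp : IsPGroup q ↥X :=
    h.qgroup.of_surjective _ (SemidirectProduct.inr : A →* G ⋊[φ] A).rangeRestrict_surjective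
  haveI : Fact q.Prime := ⟨h.prime⟩
  haveI : Group.IsSolvable ↥X :=
    haveI := hXp.isNilpotent
    inferInstance
  have hcop : (Nat.card X).Coprime (Nat.card N) := by
    obtain ⟨j, hj⟩ := IsPGroup.iff_card.1 hXp
    rw [hj, card_map_of_injective SemidirectProduct.inl_injective]
    exact ((h.prime.coprime_iff_not_dvd.2 h.not_dvd).pow_left j).coprime_dvd_right
      (card_subgroup_dvd_card M)
  obtain ⟨n, hn, hfix⟩ := CfsgLib.Solvable.exists_mul_mem_centralizer X N hXN hcop (Or.inl ‹_›)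
    (SemidirectProduct.inl k) (by
      rintro _ ⟨x, rfl⟩
      refine ⟨φ x k * k⁻¹, hu x, ?_⟩
      rw [map_mul, SemidirectProduct.inl_aut, commutatorElement_def, map_inv, map_inv])
  obtain ⟨m, hm, rfl⟩ := hn
  refine ⟨m * k, ⟨mul_mem hm.1 hk, fun x w hw => ?_⟩, fun x => ?_⟩
  · calc m * k * φ x w * (m * k)⁻¹ = m * (k * φ x w * k⁻¹) * m⁻¹ := by group
      _ = _ := by rw [hk' x w hw, hm.2 x _ (h.conj_mem_plane he' hw)]
  · have h1 := mem_centralizer_iff.1 hfix _ ⟨x, rfl⟩
    rw [← map_mul] at h1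
    apply SemidirectProduct.inl_injective (φ := φ)
    rw [SemidirectProduct.inl_aut, h1, map_inv, mul_inv_cancel_right]

/-- A fixed element conjugates the transvection like the element it imitates. -/
theorem conj_eq_mod (h : Oper φ p V q) {a e d : G} (ha : a ∈ trElts p V) (he : e ∈ compOf p V a)
    (hd : Acts φ p V a e d) :
    (e * a * e⁻¹)⁻¹ * (d * a * d⁻¹) ∈ centralizer (V : Set G) := by
  have ha' := self_mem_compOf (p := p) (V := V) a
  have he' := compOf_le ha.1 he
  have hda : d * a * d⁻¹ ∈ compOf p V a :=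
    (mem_normalizer_iff.1 (h.psep.le_normalizer_compOf hd.1) a).1 ha'
  refine h.psep.mem_centralizer_of_fix ha
    (mul_mem (inv_mem (mul_mem (mul_mem he ha') (inv_mem he))) hda) fun w hw => ?_
  have hd1 : ∀ u ∈ planeOf p V a, d * u * d⁻¹ = e * u * e⁻¹ := fun u hu => by
    simpa using hd.2 1 u hu
  have hd2 : ∀ u ∈ planeOf p V a, d⁻¹ * u * d = e⁻¹ * u * e := fun u hu => by
    have h1 := hd1 (e⁻¹ * u * e) (by simpa using h.conj_mem_plane (inv_mem he') hu)
    rw [show e * (e⁻¹ * u * e) * e⁻¹ = u by group] at h1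
    conv_lhs => rw [← h1]
    group
  have haw : a * (d⁻¹ * w * d) * a⁻¹ ∈ planeOf p V a := by
    rw [hd2 w hw]
    exact h.conj_mem_plane ha.1 (by simpa using h.conj_mem_plane (inv_mem he') hw)
  calc (e * a * e⁻¹)⁻¹ * (d * a * d⁻¹) * w * ((e * a * e⁻¹)⁻¹ * (d * a * d⁻¹))⁻¹
      = (e * a * e⁻¹)⁻¹ * (d * (a * (d⁻¹ * w * d) * a⁻¹) * d⁻¹) * (e * a * e⁻¹) := by group
    _ = w := by rw [hd1 _ haw, hd2 w hw]; group

/-- The diagonal plane and the fixed subgroup inducing `SL(2, p)` on it. -/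
theorem exists_diagonal [Finite A] (h : Oper φ p V q) {a : G} (ha : a ∈ trElts p V) :
    ∃ W D : Subgroup G, (∀ w ∈ W, ∀ x, φ x w = w) ∧ (∀ d ∈ D, ∀ x, φ x d = d) ∧
      IsElementaryAbelian p W ∧ Nat.card W = p ^ 2 ∧ D ≤ normalizer (W : Set G) ∧
      ∃ f : ↥D →* Matrix.SpecialLinearGroup (Fin 2) (ZMod p),
        Function.Surjective f ∧ f.ker = (centralizer (W : Set G)).subgroupOf D := by
  classical
  haveI := Fintype.ofFinite A
  letI : CommGroup ↥V := { (inferInstance : Group ↥V) with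
    mul_comm := fun u v => Subtype.ext (PGroup.elemAb_comm h.psep.elem u.2 v.2) }
  let σ : A → (↥V →* ↥V) := fun x => MonoidHom.mk' (fun v => ⟨φ x v, h.apply_mem x v.2⟩)
    fun u v => Subtype.ext (map_mul (φ x) _ _)
  let Wv : Subgroup ↥V := (planeOf p V a).subgroupOf V
  let N : ↥V →* ↥V := MonoidHom.mk' (fun v => ∏ x, σ x v) fun u v => by
    simp only [map_mul, Finset.prod_mul_distrib]
  have hNfix : ∀ x v, φ x ((N v : ↥V) : G) = ((N v : ↥V) : G) := by
    intro x v
    show ((σ x (∏ y, σ y v) : ↥V) : G) = _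
    rw [map_prod]
    congr 1
    refine Fintype.prod_equiv (Equiv.mulLeft x) _ _ fun y => Subtype.ext ?_
    show φ x (φ y v) = φ (x * y) v
    rw [map_mul, MulAut.mul_apply]
  let Z : Subgroup A :=
    { carrier := {x | compOf p V (φ x a) = compOf p V a}
      one_mem' := by simp
      mul_mem' := fun {x y} hx hy => by
        show compOf p V (φ (x * y) a) = compOf p V a
        rw [map_mul, MulAut.mul_apply, h.compOf_map, hy, ← h.compOf_map, hx]
      inv_mem' := fun {x} hx => by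
        show compOf p V (φ x⁻¹ a) = compOf p V a
        conv_rhs => rw [show a = φ x⁻¹ (φ x a) by rw [← MulAut.mul_apply, ← map_mul, inv_mul_cancel, map_one]; rfl]
        rw [h.compOf_map, h.compOf_map x⁻¹ (φ x a), hx] }
  have hNinj : ∀ v ∈ Wv, N v = 1 → v = 1 := by
    intro v hv hN
    have hv' : (v : G) ∈ planeOf p V a := hv
    set Zf : Finset A := Finset.univ.filter (· ∈ Z) with hZf
    have h1 : ∏ x ∈ Zf, σ x v = v ^ Zf.card := by
      refine Finset.prod_eq_pow_card fun x hx => Subtype.ext ?_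
      exact h.fix_of_stab ha (Finset.mem_filter.1 hx).2 hv'
    let Fx : Subgroup ↥V :=
      { carrier := {u | ∀ g ∈ compOf p V a, g * (u : G) * g⁻¹ = u}
        one_mem' := fun g _ => by simp
        mul_mem' := fun {u u'} hu hu' g hg => by
          show g * ((u : G) * u') * g⁻¹ = (u : G) * u'
          calc g * ((u : G) * u') * g⁻¹ = g * (u : G) * g⁻¹ * (g * (u' : G) * g⁻¹) := by group
            _ = _ := by rw [hu g hg, hu' g hg]
        inv_mem' := fun {u} hu g hg => by
          show g * (u : G)⁻¹ * g⁻¹ = (u : G)⁻¹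
          rw [← conj_inv, hu g hg] }
    have h2 : ∏ x ∈ Finset.univ.filter (fun x => ¬ x ∈ Z), σ x v ∈ Fx := by
      refine Subgroup.prod_mem _ fun x hx g hg => ?_
      exact h.psep.fix_planeOf ha (h.trElts_map x ha) (Finset.mem_filter.1 hx).2 hg
        (h.apply_mem_plane x hv')
    have h3 : v ^ Zf.card ∈ Fx := by
      have h4 := Finset.prod_filter_mul_prod_filter_not Finset.univ (· ∈ Z) (fun x => σ x v)
      rw [show (∏ x, σ x v) = N v from rfl, hN, ← hZf, h1] at h4
      rw [eq_inv_of_mul_eq_one_left h4]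
      exact inv_mem h2
    have h5 : ((v ^ Zf.card : ↥V) : G) = 1 := h.psep.eq_one_of_fixed ha
      (by rw [Subgroup.coe_pow]; exact pow_mem hv' _) h3
    rw [Subgroup.coe_pow] at h5
    have hZc : Zf.card = Nat.card ↥Z := by
      rw [hZf, Nat.card_eq_fintype_card, Fintype.card_subtype]
    obtain ⟨j, hj⟩ := (haveI : Fact q.Prime := ⟨h.prime⟩; IsPGroup.iff_card.1 (h.qgroup.to_subgroup Z))
    have hqp : q.Coprime p := by
      refine (Nat.coprime_primes h.prime hp.out).2 fun e => ?_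
      rcases (h.psep.six_dvd ha).1 with e' | e'
      · exact (h.q_ne ha).1 (e.trans e')
      · exact (h.q_ne ha).2 (e.trans e')
    have h6 := pow_gcd_eq_one.2 ⟨h5, h.psep.elem.2 _ v.2⟩
    rw [hZc, hj, (hqp.pow_left j), pow_one] at h6
    exact Subtype.ext h6
  set W : Subgroup G := (Wv.map N).map V.subtype with hW
  have hmemW : ∀ v ∈ Wv, ((N v : ↥V) : G) ∈ W := fun v hv => ⟨_, ⟨v, hv, rfl⟩, rfl⟩
  have hWc : Nat.card W = p ^ 2 := by
    rw [hW, card_map_of_injective V.subtype_injective, ← h.psep.card_planeOf ha,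
      ← Nat.card_congr (subgroupOfEquivOfLe h.psep.planeOf_le).toEquiv]
    refine (Nat.card_congr (Equiv.ofBijective
      (fun v : ↥Wv => (⟨N v, v, v.2, rfl⟩ : ↥(Wv.map N))) ⟨fun u v e => ?_, ?_⟩)).symm
    · have e' : N u = N v := congrArg Subtype.val e
      have := hNinj ((u : ↥V)⁻¹ * v) (mul_mem (inv_mem u.2) v.2)
        (by rw [map_mul, map_inv, e', inv_mul_cancel])
      exact Subtype.ext (inv_mul_eq_one.1 this)
    · rintro ⟨_, v, hv, rfl⟩
      exact ⟨⟨v, hv⟩, rfl⟩
  have hconjV : ∀ e : G, ∀ v : ↥V, e * (v : G) * e⁻¹ ∈ V := fun e v =>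
    ‹V.Normal›.conj_mem v v.2 e
  have hNconj : ∀ d e : G, Acts φ p V a e d → ∀ v ∈ Wv,
      d * ((N v : ↥V) : G) * d⁻¹ = ((N ⟨e * (v : G) * e⁻¹, hconjV e v⟩ : ↥V) : G) := by
    intro d e hd v hv
    let τ : ↥V →* ↥V := MonoidHom.mk' (fun u => ⟨d * u * d⁻¹, hconjV d u⟩)
      fun u u' => Subtype.ext (by simp only [Subgroup.coe_mul]; group)
    show ((τ (∏ x, σ x v) : ↥V) : G) = _
    rw [map_prod]
    congr 1
    exact Finset.prod_congr rfl fun x _ => Subtype.ext (hd.2 x _ hv)
  let D : Subgroup G :=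
    { carrier := {d | (∀ x, φ x d = d) ∧ ∃ e ∈ compOf p V a, Acts φ p V a e d}
      one_mem' := ⟨fun x => map_one _, 1, one_mem _, one_mem _, fun x w _ => by simp⟩
      mul_mem' := by
        rintro d d' ⟨hd, e, he, hde⟩ ⟨hd', e', he', hde'⟩
        refine ⟨fun x => by rw [map_mul, hd, hd'], e * e', mul_mem he he', mul_mem hde.1 hde'.1,
          fun x w hw => ?_⟩
        calc d * d' * φ x w * (d * d')⁻¹ = d * (d' * φ x w * d'⁻¹) * d⁻¹ := by group
          _ = d * φ x (e' * w * e'⁻¹) * d⁻¹ := by rw [hde'.2 x w hw]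
          _ = φ x (e * (e' * w * e'⁻¹) * e⁻¹) :=
              hde.2 x _ (h.conj_mem_plane (compOf_le ha.1 he') hw)
          _ = _ := by congr 1; group
      inv_mem' := by
        rintro d ⟨hd, e, he, hde⟩
        refine ⟨fun x => by rw [map_inv, hd], e⁻¹, inv_mem he, inv_mem hde.1, fun x w hw => ?_⟩
        have h1 := hde.2 x (e⁻¹ * w * e)
          (by simpa using h.conj_mem_plane (inv_mem (compOf_le ha.1 he)) hw)
        rw [show e * (e⁻¹ * w * e) * e⁻¹ = w by group] at h1
        rw [inv_inv, inv_inv, ← h1]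
        group }
  have huniq : ∀ d e e' : G, e ∈ compOf p V a → e' ∈ compOf p V a → Acts φ p V a e d →
      Acts φ p V a e' d → semiProj V e = semiProj V e' := by
    intro d e e' he he' hd hd'
    rw [← inv_mul_eq_one, ← map_inv, ← map_mul, semiProj_eq_one]
    refine h.psep.mem_centralizer_of_fix ha (mul_mem (inv_mem he) he') fun w hw => ?_
    have h1 := hd.2 1 w hw
    have h2 := hd'.2 1 w hw
    simp only [map_one, MulAut.one_apply] at h1 h2
    calc e⁻¹ * e' * w * (e⁻¹ * e')⁻¹ = e⁻¹ * (e' * w * e'⁻¹) * e := by group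
      _ = w := by rw [← h2, h1]; group
  refine ⟨W, D, ?_, fun d hd => hd.1, ?_, hWc, ?_, ?_⟩
  · rintro _ ⟨_, ⟨v, -, rfl⟩, rfl⟩ x
    exact hNfix x v
  · exact PGroup.elemAb_mono h.psep.elem (map_subtype_le _)
  · rintro d ⟨hdf, e, he, hd⟩
    rw [mem_normalizer_iff_map_conj_eq]
    refine eq_of_le_of_card_ge ?_ (card_map_of_injective (MulAut.conj d).injective).ge
    rintro _ ⟨_, ⟨_, ⟨v, hv, rfl⟩, rfl⟩, rfl⟩
    show d * _ * d⁻¹ ∈ W
    rw [show (V.subtype (N v)) = ((N v : ↥V) : G) from rfl, hNconj d e hd v hv]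
    exact hmemW _ (h.conj_mem_plane (compOf_le ha.1 he) hv)
  · obtain ⟨ψ⟩ := (h.psep.isTr ha).iso
    have hch : ∀ d : ↥D, ∃ y : ↥(comp (semiQ V p) (zpowers (semiProj V a))), ∃ e ∈ compOf p V a,
        Acts φ p V a e d ∧ semiProj V e = y := fun d => by
      obtain ⟨e, he, hd⟩ := d.2.2
      exact ⟨⟨_, (h.psep.map_compOf ha).le ⟨e, he, rfl⟩⟩, e, he, hd, rfl⟩
    choose g hg using hch
    have hgeq : ∀ (d : ↥D) (e : G), e ∈ compOf p V a → Acts φ p V a e d →
        semiProj V e = ((g d : _) : Semi V) := by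
      intro d e he hd
      obtain ⟨e', he', hd', hy⟩ := hg d
      rw [← hy]
      exact huniq d e e' he he' hd hd'
    let g' : ↥D →* ↥(comp (semiQ V p) (zpowers (semiProj V a))) := MonoidHom.mk' g fun d d' => by
      obtain ⟨e, he, hd, hy⟩ := hg d
      obtain ⟨e', he', hd', hy'⟩ := hg d'
      apply Subtype.ext
      rw [Subgroup.coe_mul, ← hy, ← hy', ← map_mul]
      refine (hgeq (d * d') (e * e') (mul_mem he he') ⟨mul_mem hd.1 hd'.1, fun x w hw => ?_⟩).symm
      calc (d : G) * d' * φ x w * ((d : G) * d')⁻¹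
          = (d : G) * ((d' : G) * φ x w * (d' : G)⁻¹) * (d : G)⁻¹ := by group
        _ = (d : G) * φ x (e' * w * e'⁻¹) * (d : G)⁻¹ := by rw [hd'.2 x w hw]
        _ = φ x (e * (e' * w * e'⁻¹) * e⁻¹) := hd.2 x _ (h.conj_mem_plane (compOf_le ha.1 he') hw)
        _ = _ := by congr 1; group
    refine ⟨ψ.toMonoidHom.comp g', ψ.surjective.comp ?_, ?_⟩
    · rintro ⟨y, hy⟩
      obtain ⟨e, he, rfl⟩ := (h.psep.map_compOf ha).ge hy
      obtain ⟨d, hd, hdf⟩ := h.exists_fixed ha he
      exact ⟨⟨d, hdf, e, he, hd⟩, Subtype.ext (hgeq ⟨d, hdf, e, he, hd⟩ e he hd).symm⟩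
    · ext d
      obtain ⟨e, he, hd, hy⟩ := hg d
      rw [MonoidHom.mem_ker, MonoidHom.comp_apply, MulEquiv.coe_toMonoidHom, EmbeddingLike.map_eq_one_iff,
        mem_subgroupOf]
      constructor
      · intro h1
        have heC : e ∈ centralizer (V : Set G) := by
          rw [← semiProj_eq_one, hy]
          exact congrArg Subtype.val h1
        refine mem_centralizer_iff.2 ?_
        rintro _ ⟨_, ⟨v, hv, rfl⟩, rfl⟩
        have h2 := hNconj d e hd v hv
        rw [show (⟨e * (v : G) * e⁻¹, hconjV e v⟩ : ↥V) = v from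
          Subtype.ext (Setup.conj_fix heC v.2)] at h2
        exact (mul_inv_eq_iff_eq_mul.1 h2).symm
      · intro h1
        apply Subtype.ext
        show ((g d : _) : Semi V) = 1
        rw [← hy, semiProj_eq_one]
        refine h.psep.mem_centralizer_of_fix ha he fun w hw => ?_
        set v : ↥V := ⟨w, h.psep.planeOf_le hw⟩
        have h2 := hNconj d e hd v hw
        rw [← mem_centralizer_iff.1 h1 _ (hmemW v hw), mul_inv_cancel_right] at h2
        have h3 := hNinj (v⁻¹ * ⟨e * (v : G) * e⁻¹, hconjV e v⟩)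
          (mul_mem (inv_mem hw) (show e * w * e⁻¹ ∈ planeOf p V a from
            h.conj_mem_plane (compOf_le ha.1 he) hw))
          (by rw [map_mul, map_inv, ← Subtype.ext h2, inv_mul_cancel])
        exact (congrArg Subtype.val (inv_mul_eq_one.1 h3)).symm

end Oper

end CfsgLib.PStab.BestOff
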