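import Cfsg.Agent.Lib.PStab.Offender.Basic

/-!
Transvection groups of a faithful pair: stabilized series, centres and conjugate pairs.
-/

set_option autoImplicit false

namespace CfsgLib.PStab.BestOff

open Subgroup Cfsg
open scoped commutatorElement

variable {G : Type*} [Group G] {p : ℕ}

/-- The elements normalizing `M` and `R` that act trivially on `M` modulo `R`. -/
def acts (M R : Subgroup G) : Subgroup G where
  carrier := {y | y ∈ normalizer (M : Set G) ∧ y ∈ normalizer (R : Set G) ∧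
    ∀ m ∈ M, y * m * y⁻¹ * m⁻¹ ∈ R}
  one_mem' := ⟨one_mem _, one_mem _, fun m _ => by simp [one_mem]⟩
  mul_mem' := by
    rintro y z ⟨hy1, hy2, hy3⟩ ⟨hz1, hz2, hz3⟩
    refine ⟨mul_mem hy1 hz1, mul_mem hy2 hz2, fun m hm => ?_⟩
    have h1 := (mem_normalizer_iff.1 hy2 _).1 (hz3 m hm)
    have h2 := mul_mem h1 (hy3 m hm)
    convert h2 using 1
    group
  inv_mem' := by
    rintro y ⟨hy1, hy2, hy3⟩
    refine ⟨inv_mem hy1, inv_mem hy2, fun m hm => ?_⟩
    have hm' : y⁻¹ * m * y ∈ M := by simpa using (mem_normalizer_iff.1 (inv_mem hy1) m).1 hm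
    have h1 := inv_mem (hy3 _ hm')
    convert h1 using 1
    group

theorem commutator_le_of_le_normalizer {V A : Subgroup G} (hA : A ≤ normalizer (V : Set G)) :
    ⁅V, A⁆ ≤ V :=
  commutator_le.2 fun v hv a ha => by
    have h1 := mul_mem hv ((mem_normalizer_iff.1 (hA ha) _).1 (inv_mem hv))
    rw [commutatorElement_def]
    convert h1 using 1
    group

theorem le_normalizer_of_commutator_le [Finite G] {V A W : Subgroup G} (hW : W ≤ V)
    (h : ⁅V, A⁆ ≤ W) : A ≤ normalizer (W : Set G) := by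
  intro a ha
  rw [mem_normalizer_iff_map_conj_eq]
  refine eq_of_le_of_card_ge ?_ (card_map_of_injective (MulAut.conj a).injective).ge
  rintro _ ⟨w, hw, rfl⟩
  have h1 := mul_mem (inv_mem (h (commutator_mem_commutator (hW hw) ha))) hw
  rw [commutatorElement_def] at h1
  show a * w * a⁻¹ ∈ W
  convert h1 using 1
  group

theorem le_acts [Finite G] {V A W : Subgroup G} (hAV : A ≤ normalizer (V : Set G)) (hW : W ≤ V)
    (h : ⁅V, A⁆ ≤ W) : A ≤ acts V W := by
  intro a ha
  refine ⟨hAV ha, le_normalizer_of_commutator_le hW h ha, fun m hm => ?_⟩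
  have h1 := inv_mem (h (commutator_mem_commutator hm ha))
  rw [commutatorElement_def] at h1
  convert h1 using 1
  group

theorem commutator_le_of_le_acts {V A W : Subgroup G} (h : A ≤ acts V W) : ⁅V, A⁆ ≤ W :=
  commutator_le.2 fun m hm a ha => by
    have h1 := inv_mem ((h ha).2.2 m hm)
    rw [commutatorElement_def]
    convert h1 using 1
    group

theorem commutator_sup_right [Finite G] {V A B : Subgroup G} (hA : A ≤ normalizer (V : Set G))
    (hB : B ≤ normalizer (V : Set G)) : ⁅V, A ⊔ B⁆ = ⁅V, A⁆ ⊔ ⁅V, B⁆ := by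
  refine le_antisymm ?_ (sup_le (commutator_mono le_rfl le_sup_left) (commutator_mono le_rfl le_sup_right))
  have hWV : ⁅V, A⁆ ⊔ ⁅V, B⁆ ≤ V :=
    sup_le (commutator_le_of_le_normalizer hA) (commutator_le_of_le_normalizer hB)
  exact commutator_le_of_le_acts (sup_le (le_acts hA hWV le_sup_left) (le_acts hB hWV le_sup_right))

theorem centralizer_sup (A B : Subgroup G) :
    centralizer ((A ⊔ B : Subgroup G) : Set G) = centralizer (A : Set G) ⊓ centralizer (B : Set G) :=
  le_antisymm (le_inf (centralizer_le (SetLike.coe_subset_coe.2 le_sup_left))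
      (centralizer_le (SetLike.coe_subset_coe.2 le_sup_right)))
    (le_centralizer_iff.1 (sup_le (le_centralizer_iff.1 inf_le_left) (le_centralizer_iff.1 inf_le_right)))

theorem map_conj_centralizer {T : Subgroup G} (g : G) :
    (centralizer (T : Set G)).map (MulAut.conj g).toMonoidHom =
      centralizer ((T.map (MulAut.conj g).toMonoidHom : Subgroup G) : Set G) := by
  ext y
  rw [mem_map_equiv, mem_centralizer_iff, mem_centralizer_iff]
  simp only [MulAut.conj_symm_apply]
  constructor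
  · rintro h _ ⟨t, ht, rfl⟩
    have h1 := h t ht
    show g * t * g⁻¹ * y = y * (g * t * g⁻¹)
    calc g * t * g⁻¹ * y = g * (t * (g⁻¹ * y * g)) * g⁻¹ := by group
      _ = y * (g * t * g⁻¹) := by rw [h1]; group
  · intro h t ht
    have h1 := h _ ⟨t, ht, rfl⟩
    calc t * (g⁻¹ * y * g) = g⁻¹ * (g * t * g⁻¹ * y) * g := by group
      _ = g⁻¹ * (y * (g * t * g⁻¹)) * g := by rw [show g * t * g⁻¹ * y = y * (g * t * g⁻¹) from h1]
      _ = _ := by group

theorem IsTr.map_conj {V T : Subgroup G} (hT : IsTr p V T) {g : G}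
    (hg : g ∈ normalizer (V : Set G)) : IsTr p V (T.map (MulAut.conj g).toMonoidHom) := by
  have hj : Function.Injective (MulAut.conj g).toMonoidHom := (MulAut.conj g).injective
  refine ⟨by rw [card_map_of_injective hj]; exact hT.1, ?_⟩
  have h1 : V ⊓ centralizer ((T.map (MulAut.conj g).toMonoidHom : Subgroup G) : Set G) =
      (V ⊓ centralizer (T : Set G)).map (MulAut.conj g).toMonoidHom := by
    rw [map_inf _ _ _ hj, map_conj_centralizer]
    congr 1
    exact (mem_normalizer_iff_map_conj_eq.1 hg).symm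
  rw [h1, card_map_of_injective hj]
  exact hT.2

theorem commutator_map_conj {V T : Subgroup G} {g : G} (hg : g ∈ normalizer (V : Set G)) :
    ⁅V, T.map (MulAut.conj g).toMonoidHom⁆ = ⁅V, T⁆.map (MulAut.conj g).toMonoidHom := by
  rw [map_commutator]
  congr 1
  exact (mem_normalizer_iff_map_conj_eq.1 hg).symm

variable [Finite G] [hp : Fact p.Prime] {V H Q : Subgroup G}

/-- An element of order prime to `p` acting trivially on `W` and on `V` modulo `W` acts trivially. -/
theorem fix_of_series (hV : IsElementaryAbelian p V) {W : Subgroup G} (hW : W ≤ V) {q : G}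
    (hq : (orderOf q).Coprime p) (hqW : ∀ w ∈ W, q * w * q⁻¹ = w) {v : G}
    (hv : q * v * q⁻¹ * v⁻¹ ∈ W) : q * v * q⁻¹ = v := by
  have hpow : ∀ n : ℕ, q ^ n * v * (q ^ n)⁻¹ = (q * v * q⁻¹ * v⁻¹) ^ n * v := by
    intro n
    induction n with
    | zero => simp
    | succ n ih =>
      calc q ^ (n + 1) * v * (q ^ (n + 1))⁻¹ = q * (q ^ n * v * (q ^ n)⁻¹) * q⁻¹ := by
            rw [pow_succ']; group
        _ = q * (q * v * q⁻¹ * v⁻¹) ^ n * q⁻¹ * (q * v * q⁻¹) := by rw [ih]; group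
        _ = _ := by rw [hqW _ (pow_mem hv n), pow_succ]; group
  have h1 := hpow (orderOf q)
  rw [pow_orderOf_eq_one, one_mul, inv_one, mul_one] at h1
  have h2 : q * v * q⁻¹ * v⁻¹ = 1 := by
    have h3 := pow_gcd_eq_one.2 ⟨right_eq_mul.1 h1, hV.2 _ (hW hv)⟩
    rwa [hq, pow_one] at h3
  exact mul_inv_eq_one.1 h2

namespace Setup

theorem eq_one_of_series (hS : Setup p V H Q) {M : Subgroup G} (hM : M ≤ V) {q : G}
    (hq : q ∈ Q) (hqM : ∀ w ∈ M, q * w * q⁻¹ = w) (hv : ∀ v ∈ V, q * v * q⁻¹ * v⁻¹ ∈ M) : q = 1 :=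
  hS.eq_one (hS.Q_le hq) fun v hv' =>
    fix_of_series hS.elem hM (hS.Q_cop.coprime_dvd_left (Subgroup.orderOf_dvd_natCard Q hq)) hqM
      (hv v hv')

theorem acts_of_isTr (hS : Setup p V H Q) {T : Subgroup G} (hTH : T ≤ H) (hT : IsTr p V T) :
    T ≤ acts V ⁅V, T⁆ ∧ T ≤ centralizer ((⁅V, T⁆ : Subgroup G) : Set G) :=
  ⟨le_acts (hTH.trans hS.le_norm) ((hS.commutator_isTr hTH hT).2.trans inf_le_left) le_rfl,
    le_centralizer_iff.1 ((hS.commutator_isTr hTH hT).2.trans inf_le_right)⟩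

omit [Finite G] hp in
theorem conj_fix {y w : G} {S : Subgroup G} (hy : y ∈ centralizer (S : Set G)) (hw : w ∈ S) :
    y * w * y⁻¹ = w := by
  rw [← mem_centralizer_iff.1 hy w hw, mul_inv_cancel_right]

/-- A conjugate by an element of `Q` has the same centre only if it is the same group. -/
theorem center_ne (hS : Setup p V H Q) {T : Subgroup G} (hTH : T ≤ H) (hT : IsTr p V T) {x : G}
    (hx : x ∈ Q) (hxT : x ∉ centralizer (T : Set G)) :
    ⁅V, T.map (MulAut.conj x).toMonoidHom⁆ ≠ ⁅V, T⁆ := by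
  intro he
  set T' := T.map (MulAut.conj x).toMonoidHom with hT'
  have hxH := hS.Q_le hx
  have hTr' : IsTr p V T' := hT.map_conj (hS.le_norm hxH)
  have hT'H : T' ≤ H := by
    rintro _ ⟨t, ht, rfl⟩
    exact mul_mem (mul_mem hxH (hTH ht)) (inv_mem hxH)
  obtain ⟨ha, hc⟩ := hS.acts_of_isTr hTH hT
  obtain ⟨ha', hc'⟩ := hS.acts_of_isTr hT'H hTr'
  rw [he] at ha' hc'
  apply hxT
  rw [mem_centralizer_iff]
  intro t ht
  have hb : x * t * x⁻¹ ∈ T' := ⟨t, ht, rfl⟩
  have hq : x * t * x⁻¹ * t⁻¹ ∈ Q := by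
    have h1 := mul_mem hx ((mem_normalizer_iff.1 (hS.Q_norm (hTH ht)) _).1 (inv_mem hx))
    convert h1 using 1
    group
  have h1 : x * t * x⁻¹ * t⁻¹ = 1 :=
    hS.eq_one_of_series ((hS.commutator_isTr hTH hT).2.trans inf_le_left) hq
      (fun w hw => conj_fix (mul_mem (hc' hb) (inv_mem (hc ht))) hw)
      (mul_mem (ha' hb) (inv_mem (ha ht))).2.2
  exact (mul_inv_eq_iff_eq_mul.1 (mul_inv_eq_one.1 h1)).symm

/-- Transvection groups are determined by their centres. -/
theorem eq_of_center_eq (hS : Setup p V H Q) {T D : Subgroup G} (hTH : T ≤ H) (hT : IsTr p V T)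
    (hDH : D ≤ H) (hD : IsTr p V D) (he : ⁅V, T⁆ = ⁅V, D⁆) : T = D := by
  by_contra hne
  obtain ⟨hR, hRT⟩ := hS.commutator_isTr hTH hT
  obtain ⟨haT, hcT⟩ := hS.acts_of_isTr hTH hT
  obtain ⟨haD, hcD⟩ := hS.acts_of_isTr hDH hD
  rw [← he] at haD hcD
  set R := ⁅V, T⁆ with hRdef
  have hcomm : ∀ t ∈ T, ∀ d ∈ D, t * d = d * t := by
    intro t ht d hd
    have h1 : ∀ v ∈ V, t * d * v * (t * d)⁻¹ = d * t * v * (d * t)⁻¹ := by
      intro v hv
      have hf := (haT ht).2.2 v hv
      have hg := (haD hd).2.2 v hv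
      calc t * d * v * (t * d)⁻¹
          = t * (d * v * d⁻¹ * v⁻¹) * t⁻¹ * (t * v * t⁻¹ * v⁻¹) * v := by group
        _ = (d * v * d⁻¹ * v⁻¹) * (t * v * t⁻¹ * v⁻¹) * v := by rw [conj_fix (hcT ht) hg]
        _ = (t * v * t⁻¹ * v⁻¹) * (d * v * d⁻¹ * v⁻¹) * v := by
          rw [PGroup.elemAb_comm hS.elem ((hRT hg).1) ((hRT hf).1)]
        _ = d * (t * v * t⁻¹ * v⁻¹) * d⁻¹ * (d * v * d⁻¹ * v⁻¹) * v := by rw [conj_fix (hcD hd) hf]
        _ = _ := by group
    have h2 : (d * t)⁻¹ * (t * d) = 1 :=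
      hS.eq_one (mul_mem (inv_mem (mul_mem (hDH hd) (hTH ht))) (mul_mem (hTH ht) (hDH hd)))
        fun v hv => by
          calc (d * t)⁻¹ * (t * d) * v * ((d * t)⁻¹ * (t * d))⁻¹
              = (d * t)⁻¹ * (t * d * v * (t * d)⁻¹) * (d * t) := by group
            _ = v := by rw [h1 v hv]; group
    exact (inv_mul_eq_one.1 h2).symm
  set P := T ⊔ D with hP
  have hPH : P ≤ H := sup_le hTH hDH
  have hPe : IsElementaryAbelian p P := PGroup.elemAb_sup hT.isEq.1 hD.isEq.1 hcomm
  have hTD : T ⊓ D = ⊥ := by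
    haveI : Fact (Nat.card T).Prime := ⟨by rw [hT.1]; exact hp.out⟩
    rcases eq_bot_or_eq_top_of_prime_card (D.subgroupOf T) with h | h
    · rwa [subgroupOf_eq_bot, disjoint_iff, inf_comm] at h
    · have hle : T ≤ D := subgroupOf_eq_top.1 h
      exact absurd (eq_of_le_of_card_ge hle (by rw [hT.1, hD.1])) hne
  have hPcard : Nat.card P = p * p := by
    have := Transfer.card_mul_card_of_commute T D hcomm
    rwa [hT.1, hD.1, hTD, Subgroup.card_bot, mul_one, eq_comm] at this
  have hPeq : IsEq p V P := by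
    refine ⟨hPe, le_antisymm (hS.card_le hPe hPH) ?_⟩
    set X := V ⊓ centralizer (T : Set G) with hX
    set Y := V ⊓ centralizer (D : Set G) with hY
    have hXY : V ⊓ centralizer (P : Set G) = X ⊓ Y := by
      rw [hP, centralizer_sup, hX, hY, inf_inf_distrib_left]
    have h2 := Transfer.card_mul_card_of_commute X Y fun a ha b hb =>
      PGroup.elemAb_comm hS.elem ha.1 hb.1
    have h3 : Nat.card ↥(X ⊔ Y) ≤ Nat.card V := card_le_of_le (sup_le inf_le_left inf_le_left)
    rw [hXY, hPcard]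
    refine Nat.le_of_mul_le_mul_right ?_ (Nat.card_pos (α := ↥V))
    calc Nat.card V * Nat.card V = Nat.card X * p * (Nat.card Y * p) := by rw [hT.2, hD.2]
      _ = p * p * (Nat.card X * Nat.card Y) := by ring
      _ ≤ p * p * (Nat.card V * Nat.card ↥(X ⊓ Y)) := by rw [h2]; gcongr
      _ = _ := by ring
  obtain ⟨B, hB⟩ := hS.exists_good hPe hPH fun h => hT.ne_bot (le_bot_iff.1 (h ▸ le_sup_left))
  have hBcard : Nat.card B = p := Nat.eq_of_mul_eq_mul_right hp.out.pos (hB.2.1.trans hPcard)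
  have hBH : B ≤ H := hB.1.trans hPH
  have hBtr : IsTr p V B := (hS.isEq_good hPeq hPH hB).isTr hBcard
  have hBR : ⁅V, B⁆ = R :=
    eq_of_le_of_card_ge (commutator_le_of_le_acts (hB.1.trans (sup_le haT haD)))
      (by rw [hR, (hS.commutator_isTr hBH hBtr).1])
  obtain ⟨y, hy, hyP⟩ : ∃ y ∈ Q ⊓ centralizer (B : Set G), y ∉ centralizer (P : Set G) :=
    SetLike.not_le_iff_exists.1 hB.2.2
  have hyN := hS.le_norm (hS.Q_le hy.1)
  have hyR : R.map (MulAut.conj y).toMonoidHom = R := by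
    rw [← hBR, ← commutator_map_conj hyN]
    congr 1
    exact mem_normalizer_iff_map_conj_eq.1 (centralizer_le_normalizer _ hy.2)
  rw [hP, centralizer_sup, Subgroup.mem_inf, not_and_or] at hyP
  rcases hyP with h | h
  · exact hS.center_ne hTH hT hy.1 h (by rw [commutator_map_conj hyN, hyR])
  · exact hS.center_ne hDH hD hy.1 h (by rw [← he, commutator_map_conj hyN, ← he, hyR])

end Setup

end CfsgLib.PStab.BestOff
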