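import Cfsg.Agent.Lib.PStab.Offender.Pairs
import Cfsg.Agent.Lib.LocalEven.NaturalFrame
import Cfsg.Agent.Lib.LocalEven.SL2Natural

/-!
A transvection group and a conjugate under an element of `Q` generate `SL(2, p)` acting on a plane.
-/

set_option autoImplicit false

namespace CfsgLib.PStab.BestOff

open Subgroup Cfsg Matrix CfsgLib.LocalEven.QdOver
open scoped commutatorElement MatrixGroups

variable {G : Type*} [Group G] {p : ℕ}

/-- `T` together with its conjugate by `x`. -/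
def pairSub (T : Subgroup G) (x : G) : Subgroup G :=
  T ⊔ T.map (MulAut.conj x).toMonoidHom

theorem exists_ne_of_card [hp : Fact p.Prime] {R : Subgroup G} (hR : Nat.card R = p) :
    ∃ r : ↥R, r ≠ 1 := by
  haveI : Finite R := Nat.finite_of_card_ne_zero (by rw [hR]; exact hp.out.pos.ne')
  haveI : Nontrivial R := Finite.one_lt_card_iff_nontrivial.1 (by rw [hR]; exact hp.out.one_lt)
  exact exists_ne 1

variable [Finite G] [hp : Fact p.Prime] {V H Q : Subgroup G}

/-- The hypotheses on a transvection group and an element of `Q` moving it. -/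
structure PairHyp (p : ℕ) (V H Q T : Subgroup G) (x : G) : Prop where
  setup : Setup p V H Q
  le : T ≤ H
  tr : IsTr p V T
  mem : x ∈ Q
  moved : x ∉ centralizer (T : Set G)

namespace PairHyp

variable {T : Subgroup G} {x : G}

theorem le' (h : PairHyp p V H Q T x) : T.map (MulAut.conj x).toMonoidHom ≤ H := by
  rintro _ ⟨t, ht, rfl⟩
  exact mul_mem (mul_mem (h.setup.Q_le h.mem) (h.le ht)) (inv_mem (h.setup.Q_le h.mem))

theorem tr' (h : PairHyp p V H Q T x) : IsTr p V (T.map (MulAut.conj x).toMonoidHom) :=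
  h.tr.map_conj (h.setup.le_norm (h.setup.Q_le h.mem))

theorem sub_le (h : PairHyp p V H Q T x) : pairSub T x ≤ H := sup_le h.le h.le'

theorem sub_le_sup (h : PairHyp p V H Q T x) : pairSub T x ≤ Q ⊔ T := by
  refine sup_le le_sup_right ?_
  rintro _ ⟨t, ht, rfl⟩
  exact mul_mem (mul_mem (mem_sup_left h.mem) (mem_sup_right ht)) (inv_mem (mem_sup_left h.mem))

theorem center_inf (h : PairHyp p V H Q T x) :
    ⁅V, T⁆ ⊓ ⁅V, T.map (MulAut.conj x).toMonoidHom⁆ = ⊥ := by
  obtain ⟨h1, -⟩ := h.setup.commutator_isTr h.le h.tr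
  obtain ⟨h2, -⟩ := h.setup.commutator_isTr h.le' h.tr'
  haveI : Fact (Nat.card ↥⁅V, T⁆).Prime := ⟨by rw [h1]; exact hp.out⟩
  rcases eq_bot_or_eq_top_of_prime_card
    ((⁅V, T.map (MulAut.conj x).toMonoidHom⁆).subgroupOf ⁅V, T⁆) with hh | hh
  · rwa [subgroupOf_eq_bot, disjoint_iff, inf_comm] at hh
  · exfalso
    have hle : ⁅V, T⁆ ≤ ⁅V, T.map (MulAut.conj x).toMonoidHom⁆ := subgroupOf_eq_top.1 hh
    exact h.setup.center_ne h.le h.tr h.mem h.moved (eq_of_le_of_card_ge hle (by rw [h1, h2])).symm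

theorem plane_eq (h : PairHyp p V H Q T x) :
    ⁅V, pairSub T x⁆ = ⁅V, T⁆ ⊔ ⁅V, T.map (MulAut.conj x).toMonoidHom⁆ :=
  commutator_sup_right (h.le.trans h.setup.le_norm) (h.le'.trans h.setup.le_norm)

theorem plane_le (h : PairHyp p V H Q T x) : ⁅V, pairSub T x⁆ ≤ V :=
  commutator_le_of_le_normalizer (h.sub_le.trans h.setup.le_norm)

theorem plane_card (h : PairHyp p V H Q T x) : Nat.card ↥⁅V, pairSub T x⁆ = p ^ 2 := by
  obtain ⟨h1, h1'⟩ := h.setup.commutator_isTr h.le h.tr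
  obtain ⟨h2, h2'⟩ := h.setup.commutator_isTr h.le' h.tr'
  have := Transfer.card_mul_card_of_commute _ _
    (fun a (ha : a ∈ ⁅V, T⁆) b (hb : b ∈ ⁅V, T.map (MulAut.conj x).toMonoidHom⁆) =>
      PGroup.elemAb_comm h.setup.elem (h1' ha).1 (h2' hb).1)
  rw [h1, h2, h.center_inf, Subgroup.card_bot, mul_one] at this
  rw [h.plane_eq, pow_two, this]

omit [Finite G] in
theorem exists_mem_Q {t : G} (hS : Setup p V H Q) (hx : x ∈ Q) (ht : t ∈ H) :
    x * t * x⁻¹ * t⁻¹ ∈ Q := by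
  have h1 := mul_mem hx ((mem_normalizer_iff.1 (hS.Q_norm ht) _).1 (inv_mem hx))
  convert h1 using 1
  group

/-- The pair fixes no nontrivial element of its plane. -/
theorem plane_inf (h : PairHyp p V H Q T x) :
    ⁅V, pairSub T x⁆ ⊓ centralizer (pairSub T x : Set G) = ⊥ := by
  rw [eq_bot_iff]
  intro w hw
  rw [mem_bot]
  by_contra hw1
  apply h.moved
  set W := ⁅V, pairSub T x⁆ with hW
  set R0 := zpowers w with hR0
  have hwV : w ∈ V := h.plane_le hw.1
  have hR0card : Nat.card R0 = p := by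
    rw [hR0, Nat.card_zpowers]
    exact PGroup.elemAb_orderOf h.setup.elem hwV hw1
  have hR0W : R0 ≤ W := zpowers_le.2 hw.1
  have hLR0 : pairSub T x ≤ centralizer (R0 : Set G) := by
    rw [hR0, le_centralizer_iff, zpowers_le]
    exact hw.2
  -- each of the two groups acts trivially on `W / R0`
  have key : ∀ S : Subgroup G, S ≤ pairSub T x → S ≤ H → IsTr p V S → ⁅V, S⁆ ≤ W →
      S ≤ acts W R0 := by
    intro S hSL hSH hStr hSW s hs
    obtain ⟨hc, hc'⟩ := h.setup.commutator_isTr hSH hStr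
    refine ⟨le_normalizer_of_commutator_le h.plane_le hSW hs,
      centralizer_le_normalizer _ (hLR0 (hSL hs)), fun m hm => ?_⟩
    by_cases hwS : w ∈ ⁅V, S⁆
    · have hle : R0 ≤ ⁅V, S⁆ := zpowers_le.2 hwS
      rw [eq_of_le_of_card_ge hle (by rw [hc, hR0card])]
      exact ((h.setup.acts_of_isTr hSH hStr).1 hs).2.2 m (h.plane_le hm)
    · have hdis : ⁅V, S⁆ ⊓ R0 = ⊥ := by
        haveI : Fact (Nat.card R0).Prime := ⟨by rw [hR0card]; exact hp.out⟩
        rcases eq_bot_or_eq_top_of_prime_card ((⁅V, S⁆).subgroupOf R0) with hh | hh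
        · rwa [subgroupOf_eq_bot, disjoint_iff] at hh
        · exact absurd (subgroupOf_eq_top.1 hh (mem_zpowers w)) hwS
      have hfull : ⁅V, S⁆ ⊔ R0 = W := by
        refine eq_of_le_of_card_ge (sup_le hSW hR0W) ?_
        have := Transfer.card_mul_card_of_commute ⁅V, S⁆ R0 fun a ha b hb =>
          PGroup.elemAb_comm h.setup.elem (hc' ha).1 (h.plane_le (hR0W hb))
        rw [hc, hR0card, hdis, Subgroup.card_bot, mul_one] at this
        rw [h.plane_card, pow_two, this]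
      have hfix : W ≤ centralizer (S : Set G) := by
        rw [← hfull]
        exact sup_le (hc'.trans inf_le_right) ((le_centralizer_iff.1 hLR0).trans (centralizer_le hSL))
      rw [Setup.conj_fix (le_centralizer_iff.1 hfix hs) hm, mul_inv_cancel]
      exact one_mem _
  have hactW : pairSub T x ≤ acts W R0 :=
    sup_le (key T le_sup_left h.le h.tr (commutator_mono le_rfl le_sup_left))
      (key _ le_sup_right h.le' h.tr' (commutator_mono le_rfl le_sup_right))
  have hactV : pairSub T x ≤ acts V W := le_acts (h.sub_le.trans h.setup.le_norm) h.plane_le le_rfl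
  rw [mem_centralizer_iff]
  intro t ht
  set q := x * t * x⁻¹ * t⁻¹ with hq
  have hqQ : q ∈ Q := exists_mem_Q h.setup h.mem (h.le ht)
  have hqL : q ∈ pairSub T x :=
    mul_mem (mem_sup_right ⟨t, ht, rfl⟩) (inv_mem (mem_sup_left ht))
  have hqW : ∀ m ∈ W, q * m * q⁻¹ = m := fun m hm =>
    fix_of_series h.setup.elem (hR0W.trans h.plane_le)
      (h.setup.Q_cop.coprime_dvd_left (Subgroup.orderOf_dvd_natCard Q hqQ))
      (fun r hr => Setup.conj_fix (hLR0 hqL) hr) ((hactW hqL).2.2 m hm)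
  have h1 : q = 1 := h.setup.eq_one_of_series h.plane_le hqQ hqW (hactV hqL).2.2
  exact (mul_inv_eq_iff_eq_mul.1 (mul_inv_eq_one.1 h1)).symm

theorem plane_sup (h : PairHyp p V H Q T x) :
    ⁅V, pairSub T x⁆ ⊔ (V ⊓ centralizer (pairSub T x : Set G)) = V := by
  set W := ⁅V, pairSub T x⁆
  set X := V ⊓ centralizer (T : Set G) with hX
  set Y := V ⊓ centralizer ((T.map (MulAut.conj x).toMonoidHom : Subgroup G) : Set G) with hY
  have hXY : V ⊓ centralizer (pairSub T x : Set G) = X ⊓ Y := by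
    rw [pairSub, centralizer_sup, hX, hY, inf_inf_distrib_left]
  refine eq_of_le_of_card_ge (sup_le h.plane_le inf_le_left) ?_
  have h1 := Transfer.card_mul_card_of_commute W (V ⊓ centralizer (pairSub T x : Set G)) fun a ha b hb =>
    PGroup.elemAb_comm h.setup.elem (h.plane_le ha) hb.1
  rw [show W ⊓ (V ⊓ centralizer (pairSub T x : Set G)) = ⊥ from
    eq_bot_iff.2 (le_trans (inf_le_inf_left _ inf_le_right) h.plane_inf.le), Subgroup.card_bot,
    mul_one, h.plane_card] at h1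
  rw [← h1, hXY]
  have h2 := Transfer.card_mul_card_of_commute X Y fun a ha b hb =>
    PGroup.elemAb_comm h.setup.elem ha.1 hb.1
  have h3 : Nat.card ↥(X ⊔ Y) ≤ Nat.card V := card_le_of_le (sup_le inf_le_left inf_le_left)
  refine Nat.le_of_mul_le_mul_right ?_ (Nat.card_pos (α := ↥V))
  calc Nat.card V * Nat.card V = Nat.card X * p * (Nat.card Y * p) := by rw [h.tr.2, h.tr'.2]
    _ = p * p * (Nat.card X * Nat.card Y) := by ring
    _ ≤ p * p * (Nat.card V * Nat.card ↥(X ⊓ Y)) := by rw [h2]; gcongr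
    _ = _ := by ring

theorem sub_inf (h : PairHyp p V H Q T x) :
    pairSub T x ⊓ centralizer ((⁅V, pairSub T x⁆ : Subgroup G) : Set G) = ⊥ := by
  refine h.setup.eq_bot (inf_le_left.trans h.sub_le) ?_
  rw [le_centralizer_iff]
  calc V = _ := h.plane_sup.symm
    _ ≤ _ := sup_le (le_centralizer_iff.1 inf_le_right)
      (inf_le_right.trans (centralizer_le inf_le_left))

/-- Every nontrivial element of the plane lies in the centre of a transvection group of the pair. -/
theorem exists_center (h : PairHyp p V H Q T x) {w : G} (hw : w ∈ ⁅V, pairSub T x⁆) :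
    ∃ D ≤ pairSub T x, IsTr p V D ∧ w ∈ ⁅V, D⁆ := by
  set T' := T.map (MulAut.conj x).toMonoidHom with hT'
  set R := ⁅V, T⁆ with hR
  set R' := ⁅V, T'⁆ with hR'
  obtain ⟨hc, hc'⟩ := h.setup.commutator_isTr h.le h.tr
  obtain ⟨-, hc''⟩ := h.setup.commutator_isTr h.le' h.tr'
  have hn : R' ≤ normalizer (R : Set G) := fun y hy => centralizer_le_normalizer _
    (mem_centralizer_iff.2 fun z hz => PGroup.elemAb_comm h.setup.elem (hc' hz).1 (hc'' hy).1)
  rw [h.plane_eq, ← SetLike.mem_coe, coe_mul_of_right_le_normalizer_left _ _ hn, Set.mem_mul] at hw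
  obtain ⟨r, hr, r', hr', rfl⟩ := hw
  by_cases hr1 : r' = 1
  · exact ⟨T, le_sup_left, h.tr, by rw [hr1, mul_one]; exact hr⟩
  obtain ⟨⟨t, htT⟩, hgen⟩ := (isCyclic_of_prime_card (p := p) h.tr.1).exists_generator
  set c := t * r' * t⁻¹ * r'⁻¹ with hcdef
  have hcR : c ∈ R := ((h.setup.acts_of_isTr h.le h.tr).1 htT).2.2 r' (hc'' hr').1
  have hc1 : c ≠ 1 := by
    intro e
    apply hr1
    have h2 : r' ∈ ⁅V, pairSub T x⁆ ⊓ centralizer (pairSub T x : Set G) := by
      refine ⟨commutator_mono le_rfl le_sup_right hr', mem_centralizer_iff.2 fun y hy => ?_⟩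
      have h3 : t * r' = r' * t := mul_inv_eq_iff_eq_mul.1 (mul_inv_eq_one.1 e)
      have h4 : r' ∈ centralizer (pairSub T x : Set G) := by
        rw [pairSub, centralizer_sup]
        refine ⟨mem_centralizer_iff.2 fun z hz => ?_, (hc'' hr').2⟩
        obtain ⟨i, hi⟩ := hgen ⟨z, hz⟩
        rw [show z = t ^ i from (congrArg Subtype.val hi).symm]
        exact (Commute.zpow_left h3 i).eq
      exact mem_centralizer_iff.1 h4 y hy
    rwa [h.plane_inf, mem_bot] at h2
  have hgen2 := mem_zpowers_of_prime_card (G := ↥R) (p := p) hc (g := ⟨c, hcR⟩) (g' := ⟨r, hr⟩)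
    (fun e => hc1 (congrArg Subtype.val e))
  obtain ⟨k, hk⟩ := mem_powers_iff_mem_zpowers.2 hgen2
  have hk' : c ^ k = r := congrArg Subtype.val hk
  have hcfix : t * c * t⁻¹ = c := Setup.conj_fix ((h.setup.acts_of_isTr h.le h.tr).2 htT) hcR
  have hpow : ∀ n : ℕ, t ^ n * r' * (t ^ n)⁻¹ = c ^ n * r' := by
    intro n
    induction n with
    | zero => simp
    | succ n ih =>
      calc t ^ (n + 1) * r' * (t ^ (n + 1))⁻¹ = t * (t ^ n * r' * (t ^ n)⁻¹) * t⁻¹ := by
            rw [pow_succ']; group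
        _ = (t * c * t⁻¹) ^ n * (t * r' * t⁻¹ * r'⁻¹) * r' := by rw [ih, conj_pow]; group
        _ = c ^ (n + 1) * r' := by rw [hcfix, ← hcdef, pow_succ]
  have hgN : t ^ k ∈ normalizer (V : Set G) := h.setup.le_norm (h.le (pow_mem htT k))
  refine ⟨T'.map (MulAut.conj (t ^ k)).toMonoidHom, ?_, h.tr'.map_conj hgN, ?_⟩
  · rintro _ ⟨y, hy, rfl⟩
    exact mul_mem (mul_mem (mem_sup_left (pow_mem htT k)) (mem_sup_right hy))
      (inv_mem (mem_sup_left (pow_mem htT k)))
  · rw [commutator_map_conj hgN]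
    refine ⟨r', hr', ?_⟩
    show t ^ k * r' * (t ^ k)⁻¹ = r * r'
    rw [hpow, hk']

/-- Every transvection group inside `Q ⊔ T` lies in the pair. -/
theorem le_of_le_sup (h : PairHyp p V H Q T x) {C : Subgroup G} (hC : C ≤ Q ⊔ T) (hCtr : IsTr p V C) :
    C ≤ pairSub T x := by
  set W := ⁅V, pairSub T x⁆ with hW
  have hCH : C ≤ H := hC.trans (sup_le h.setup.Q_le h.le)
  obtain ⟨w, hw, hw1⟩ : ∃ w ∈ W ⊓ (V ⊓ centralizer (C : Set G)), w ≠ 1 := by
    by_contra hcon
    push Not at hcon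
    have h1 := Transfer.card_mul_card_of_commute W (V ⊓ centralizer (C : Set G)) fun a ha b hb =>
      PGroup.elemAb_comm h.setup.elem (h.plane_le ha) hb.1
    rw [show W ⊓ (V ⊓ centralizer (C : Set G)) = ⊥ from eq_bot_iff.2 fun y hy => mem_bot.2 (hcon y hy),
      Subgroup.card_bot, mul_one, h.plane_card] at h1
    have h2 : Nat.card ↥(W ⊔ (V ⊓ centralizer (C : Set G))) ≤ Nat.card V :=
      card_le_of_le (sup_le h.plane_le inf_le_left)
    rw [← h1, ← hCtr.2, pow_two, mul_comm (p * p), ← mul_assoc] at h2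
    have h3 : 0 < Nat.card ↥(V ⊓ centralizer (C : Set G)) * p :=
      Nat.mul_pos Nat.card_pos hp.out.pos
    have := hp.out.two_le
    nlinarith
  obtain ⟨D, hDL, hDtr, hwD⟩ := h.exists_center hw.1
  have hDH : D ≤ H := hDL.trans h.sub_le
  suffices C ≤ D from this.trans hDL
  intro c hc
  obtain ⟨hcC, hcC'⟩ := h.setup.commutator_isTr hCH hCtr
  obtain ⟨hcD, hcD'⟩ := h.setup.commutator_isTr hDH hDtr
  obtain ⟨haC, hcenC⟩ := h.setup.acts_of_isTr hCH hCtr
  obtain ⟨haD, hcenD⟩ := h.setup.acts_of_isTr hDH hDtr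
  have hQD : Q ⊔ D = Q ⊔ T := by
    refine eq_of_le_of_card_ge (sup_le le_sup_left (hDL.trans h.sub_le_sup)) ?_
    have e1 := Solvable.card_sup_of_disjoint (hDH.trans h.setup.Q_norm)
      (by rw [inf_comm]; exact h.setup.inf_Q (PGroup.elemAb_isPGroup hDtr.isEq.1))
    have e2 := Solvable.card_sup_of_disjoint (h.le.trans h.setup.Q_norm)
      (by rw [inf_comm]; exact h.setup.inf_Q (PGroup.elemAb_isPGroup h.tr.isEq.1))
    rw [e1, e2, hDtr.1, h.tr.1]
  have hc' := hC hc
  rw [← hQD, sup_comm, ← SetLike.mem_coe,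
    coe_mul_of_left_le_normalizer_right _ _ (hDH.trans h.setup.Q_norm), Set.mem_mul] at hc'
  obtain ⟨d, hd, q, hq, hdq⟩ := hc'
  suffices hq1 : q = 1 by rw [← hdq, hq1, mul_one]; exact hd
  have hqe : q = d⁻¹ * c := by rw [← hdq, inv_mul_cancel_left]
  set R0 := ⁅V, D⁆ with hR0
  have hR0w : R0 = zpowers w := by
    refine (eq_of_le_of_card_ge (zpowers_le.2 hwD) ?_).symm
    rw [Nat.card_zpowers, PGroup.elemAb_orderOf h.setup.elem hw.2.1 hw1, hcD]
  have hCR0 : C ≤ centralizer (R0 : Set G) := by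
    rw [le_centralizer_iff, hR0w, zpowers_le]
    exact hw.2.2
  set M := R0 ⊔ ⁅V, C⁆ with hM
  have hMV : M ≤ V := sup_le (hcD'.trans inf_le_left) (hcC'.trans inf_le_left)
  have hMC : C ≤ centralizer (M : Set G) := by
    rw [le_centralizer_iff]
    exact sup_le (le_centralizer_iff.1 hCR0) (hcC'.trans inf_le_right)
  have hdM : d ∈ acts M R0 := by
    refine ⟨le_normalizer_of_commutator_le hMV ?_ hd, (haD hd).2.1, fun m hm => (haD hd).2.2 m (hMV hm)⟩
    exact le_sup_left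
  have hcM : c ∈ acts M R0 :=
    ⟨centralizer_le_normalizer _ (hMC hc), centralizer_le_normalizer _ (hCR0 hc), fun m hm => by
      rw [Setup.conj_fix (hMC hc) hm, mul_inv_cancel]; exact one_mem _⟩
  have hcV : c ∈ acts V M := le_acts (hCH.trans h.setup.le_norm) hMV le_sup_right hc
  have hdV : d ∈ acts V M := le_acts (hDH.trans h.setup.le_norm) hMV le_sup_left hd
  have hqM : ∀ m ∈ M, q * m * q⁻¹ = m := fun m hm =>
    fix_of_series h.setup.elem (hcD'.trans inf_le_left)
      (h.setup.Q_cop.coprime_dvd_left (Subgroup.orderOf_dvd_natCard Q hq))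
      (fun r hr => by
        rw [hqe]
        exact Setup.conj_fix (mul_mem (inv_mem (hcenD hd)) (hCR0 hc)) hr)
      (hqe ▸ (mul_mem (inv_mem hdM) hcM).2.2 m hm)
  exact h.setup.eq_one_of_series hMV hq hqM (hqe ▸ (mul_mem (inv_mem hdV) hcV).2.2)

theorem commutator_Q_le (h : PairHyp p V H Q T x) : ⁅Q, T⁆ ≤ pairSub T x :=
  commutator_le.2 fun y hy t ht => by
    have hyT : T.map (MulAut.conj y).toMonoidHom ≤ pairSub T x := by
      refine h.le_of_le_sup ?_ (h.tr.map_conj (h.setup.le_norm (h.setup.Q_le hy)))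
      rintro _ ⟨s, hs, rfl⟩
      exact mul_mem (mul_mem (mem_sup_left hy) (mem_sup_right hs)) (inv_mem (mem_sup_left hy))
    rw [commutatorElement_def]
    exact mul_mem (hyT ⟨t, ht, rfl⟩) (inv_mem (mem_sup_left ht))

theorem commutator_sup_eq (h : PairHyp p V H Q T x) : ⁅Q, T⁆ ⊔ T = pairSub T x := by
  refine le_antisymm (sup_le h.commutator_Q_le le_sup_left) (sup_le le_sup_right ?_)
  rintro _ ⟨t, ht, rfl⟩
  have h1 := mul_mem (mem_sup_left (T := T) (commutator_mem_commutator h.mem ht)) (mem_sup_right ht)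
  show x * t * x⁻¹ ∈ _
  convert h1 using 1
  rw [commutatorElement_def, inv_mul_cancel_right]

theorem inf_Q_eq (h : PairHyp p V H Q T x) : pairSub T x ⊓ Q = ⁅Q, T⁆ := by
  have hN : ⁅Q, T⁆ ≤ Q := commutator_le_of_le_normalizer (h.le.trans h.setup.Q_norm)
  refine le_antisymm ?_ (le_inf h.commutator_Q_le hN)
  intro y hy
  have hTN : T ≤ normalizer ((⁅Q, T⁆ : Subgroup G) : Set G) := by
    intro t ht
    rw [mem_normalizer_iff_map_conj_eq, ← MulEquiv.toMonoidHom_eq_coe, map_commutator]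
    congr 1
    · exact mem_normalizer_iff_map_conj_eq.1 (h.setup.Q_norm (h.le ht))
    · exact mem_normalizer_iff_map_conj_eq.1 (le_normalizer ht)
  have hy' : y ∈ pairSub T x := hy.1
  rw [← h.commutator_sup_eq, sup_comm, ← SetLike.mem_coe,
    coe_mul_of_left_le_normalizer_right _ _ hTN, Set.mem_mul] at hy'
  obtain ⟨t, ht, n, hn, rfl⟩ := hy'
  have h1 : t ∈ T ⊓ Q := ⟨ht, by simpa using mul_mem (show t * n ∈ Q from hy.2) (inv_mem (hN hn))⟩
  rw [h.setup.inf_Q (PGroup.elemAb_isPGroup h.tr.isEq.1), mem_bot] at h1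
  rw [h1, one_mul]
  exact hn

/-! ### Matrices -/

theorem exists_iso (h : PairHyp p V H Q T x) :
    ∃ (φ : ↥(pairSub T x) ≃* SL(2, ZMod p)) (t : G) (ht : t ∈ pairSub T x) (n : ZMod p),
      t ∈ T ∧ n ≠ 0 ∧ φ ⟨t, ht⟩ = upSL n := by
  classical
  set T' := T.map (MulAut.conj x).toMonoidHom with hT'
  set L := pairSub T x with hL
  set W := ⁅V, L⁆ with hW
  obtain ⟨hc, hc'⟩ := h.setup.commutator_isTr h.le h.tr
  obtain ⟨hd, hd'⟩ := h.setup.commutator_isTr h.le' h.tr'
  obtain ⟨⟨r, hrR⟩, hr1⟩ := exists_ne_of_card (p := p) hc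
  obtain ⟨⟨r', hrR'⟩, hr1'⟩ := exists_ne_of_card (p := p) hd
  have hrV : r ∈ V := (hc' hrR).1
  have hrV' : r' ∈ V := (hd' hrR').1
  have hrW : r ∈ W := commutator_mono le_rfl le_sup_left hrR
  have hrW' : r' ∈ W := commutator_mono le_rfl le_sup_right hrR'
  have hrp : orderOf r = p := PGroup.elemAb_orderOf h.setup.elem hrV fun e => hr1 (Subtype.ext e)
  have hrp' : orderOf r' = p := PGroup.elemAb_orderOf h.setup.elem hrV' fun e => hr1' (Subtype.ext e)
  have hrgen : zpowers r = ⁅V, T⁆ :=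
    eq_of_le_of_card_ge (zpowers_le.2 hrR) (by rw [Nat.card_zpowers, hrp, hc])
  have hrgen' : zpowers r' = ⁅V, T'⁆ :=
    eq_of_le_of_card_ge (zpowers_le.2 hrR') (by rw [Nat.card_zpowers, hrp', hd])
  have hmodr : ∀ (g : G), orderOf g = p → ∀ a b : ZMod p, g ^ (a + b).val = g ^ a.val * g ^ b.val := by
    intro g hg a b
    rw [← pow_add, ZMod.val_add]
    conv_rhs => rw [← pow_mod_orderOf, hg]
  have hLW : L ≤ normalizer (W : Set G) := le_normalizer_of_commutator_le h.plane_le le_rfl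
  let f : (Fin 2 → ZMod p) → ↥W := fun v =>
    ⟨r ^ (v 0).val * r' ^ (v 1).val, mul_mem (pow_mem hrW _) (pow_mem hrW' _)⟩
  have hfadd : ∀ v w, f (v + w) = f v * f w := by
    intro v w
    apply Subtype.ext
    show r ^ (v 0 + w 0).val * r' ^ (v 1 + w 1).val = _ * _
    rw [hmodr r hrp, hmodr r' hrp']
    have hcm : Commute (r ^ (w 0).val) (r' ^ (v 1).val) :=
      PGroup.elemAb_comm h.setup.elem (pow_mem hrV _) (pow_mem hrV' _)
    exact hcm.mul_mul_mul_comm _ _
  have hf0 : f 0 = 1 := Subtype.ext (by simp [f])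
  have hfker : ∀ v, f v = 1 → v = 0 := by
    intro v hv
    have hv' : r ^ (v 0).val * r' ^ (v 1).val = 1 := congrArg Subtype.val hv
    have h1 : r ^ (v 0).val ∈ ⁅V, T⁆ ⊓ ⁅V, T'⁆ := by
      refine ⟨pow_mem hrR _, ?_⟩
      show r ^ (v 0).val ∈ ⁅V, T'⁆
      rw [eq_inv_of_mul_eq_one_left hv']
      exact inv_mem (pow_mem hrR' _)
    rw [hT', h.center_inf, mem_bot] at h1
    rw [h1, one_mul] at hv'
    have e0 : p ∣ (v 0).val := hrp.symm.dvd.trans (orderOf_dvd_of_pow_eq_one h1)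
    have e1 : p ∣ (v 1).val := hrp'.symm.dvd.trans (orderOf_dvd_of_pow_eq_one hv')
    funext i
    fin_cases i
    · exact (ZMod.val_eq_zero _).1 (Nat.eq_zero_of_dvd_of_lt e0 (ZMod.val_lt _))
    · exact (ZMod.val_eq_zero _).1 (Nat.eq_zero_of_dvd_of_lt e1 (ZMod.val_lt _))
  let eHom : (Fin 2 → ZMod p) →+ Additive ↥W :=
    { toFun := fun v => Additive.ofMul (f v)
      map_zero' := congrArg Additive.ofMul hf0
      map_add' := fun v w => congrArg Additive.ofMul (hfadd v w) }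
  have hbij : Function.Bijective eHom := by
    refine (Nat.bijective_iff_injective_and_card _).2 ⟨?_, ?_⟩
    · rw [injective_iff_map_eq_zero]
      exact fun v hv => hfker v (congrArg Additive.toMul hv)
    · rw [Nat.card_fun, Nat.card_zmod, Nat.card_fin]
      show p ^ 2 = Nat.card ↥W
      exact h.plane_card.symm
  let e : (Fin 2 → ZMod p) ≃+ Additive ↥W := AddEquiv.ofBijective eHom hbij
  let σ : ↥L → (↥W →* ↥W) := fun g => MonoidHom.mk'
    (fun w => ⟨(g : G) * w * (g : G)⁻¹, (mem_normalizer_iff.1 (hLW g.2) _).1 w.2⟩)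
    (fun a b => Subtype.ext (by simp only [coe_mul]; group))
  let ρ : ↥L → ((Fin 2 → ZMod p) →ₗ[ZMod p] (Fin 2 → ZMod p)) := fun g =>
    (e.symm.toAddMonoidHom.comp ((MonoidHom.toAdditive (σ g)).comp e.toAddMonoidHom)).toZModLinearMap p
  have hρ : ∀ g v, ρ g v = e.symm (Additive.ofMul (σ g (f v))) := fun g v => rfl
  have hρ' : ∀ g v, f (ρ g v) = σ g (f v) := by
    intro g v
    rw [hρ]
    exact congrArg Additive.toMul (e.apply_symm_apply _)
  have hfinj : Function.Injective f := fun v w hh => hbij.1 (congrArg Additive.ofMul hh)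
  have hρmul : ∀ g k, ρ (g * k) = ρ g * ρ k := by
    intro g k
    refine LinearMap.ext fun v => hfinj ?_
    rw [Module.End.mul_apply, hρ', hρ', hρ']
    apply Subtype.ext
    show ((g : G) * k) * _ * ((g : G) * k)⁻¹ = (g : G) * ((k : G) * _ * (k : G)⁻¹) * (g : G)⁻¹
    group
  have hρone : ρ 1 = 1 := by
    refine LinearMap.ext fun v => hfinj ?_
    rw [Module.End.one_apply, hρ']
    exact Subtype.ext (by show (1 : G) * _ * (1 : G)⁻¹ = _; group)
  let M : ↥L →* Matrix (Fin 2) (Fin 2) (ZMod p) :=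
    { toFun := fun g => LinearMap.toMatrix' (ρ g)
      map_one' := by rw [hρone]; exact LinearMap.toMatrix'_one
      map_mul' := fun g k => by rw [hρmul, LinearMap.toMatrix'_mul] }
  -- the matrices of the generators
  have hfe : ∀ j : Fin 2, ((f (Pi.single j 1) : ↥W) : G) = if j = 0 then r else r' := by
    intro j
    fin_cases j
    · show r ^ (1 : ZMod p).val * r' ^ (0 : ZMod p).val = r
      simp [ZMod.val_one p]
    · show r ^ (0 : ZMod p).val * r' ^ (1 : ZMod p).val = r'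
      simp [ZMod.val_one p]
  have hM : ∀ (g : ↥L) (j : Fin 2) (c : Fin 2 → ZMod p),
      ((g : G) * (if j = 0 then r else r') * (g : G)⁻¹ = r ^ (c 0).val * r' ^ (c 1).val) →
      ∀ i, M g i j = c i := by
    intro g j c hgc i
    show ρ g (Pi.single j 1) i = c i
    rw [show ρ g (Pi.single j 1) = c from hfinj ?_]
    rw [hρ']
    apply Subtype.ext
    show (g : G) * _ * (g : G)⁻¹ = _
    rw [hfe j]
    exact hgc
  obtain ⟨⟨t, htT⟩, ht1⟩ := exists_ne_of_card (p := p) h.tr.1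
  have htL : t ∈ L := mem_sup_left htT
  have hbT : x * t * x⁻¹ ∈ T' := ⟨t, htT, rfl⟩
  have hbL : x * t * x⁻¹ ∈ L := mem_sup_right hbT
  obtain ⟨haT, hcT⟩ := h.setup.acts_of_isTr h.le h.tr
  obtain ⟨haT', hcT'⟩ := h.setup.acts_of_isTr h.le' h.tr'
  have hcoef : ∀ (g : G) (a : G), orderOf g = p → a ∈ zpowers g → ∃ n : ZMod p, g ^ n.val = a := by
    intro g a hg ha
    obtain ⟨k, rfl⟩ := mem_powers_iff_mem_zpowers.2 ha
    refine ⟨k, ?_⟩
    rw [ZMod.val_natCast]
    show g ^ (k % p) = g ^ k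
    conv_rhs => rw [← pow_mod_orderOf, hg]
  obtain ⟨n, hn⟩ := hcoef r (t * r' * t⁻¹ * r'⁻¹) hrp
    (hrgen ▸ (haT htT).2.2 r' hrV')
  obtain ⟨m, hm⟩ := hcoef r' (x * t * x⁻¹ * r * (x * t * x⁻¹)⁻¹ * r⁻¹) hrp'
    (hrgen' ▸ (haT' hbT).2.2 r hrV)
  have hMt : M ⟨t, htL⟩ = !![1, n; 0, 1] := by
    ext i j
    revert j
    rw [Fin.forall_fin_two]
    constructor
    · rw [hM ⟨t, htL⟩ 0 ![1, 0] (by simp [Setup.conj_fix (hcT htT) hrR, ZMod.val_one p]) i]
      fin_cases i <;> rfl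
    · rw [hM ⟨t, htL⟩ 1 ![n, 1] (by
        simp only [Fin.one_eq_zero_iff, Nat.succ_ne_self, ↓reduceIte, Matrix.cons_val_zero,
          Matrix.cons_val_one, ZMod.val_one p, pow_one]
        rw [hn]; group) i]
      fin_cases i <;> rfl
  have hMb : M ⟨x * t * x⁻¹, hbL⟩ = !![1, 0; m, 1] := by
    ext i j
    revert j
    rw [Fin.forall_fin_two]
    constructor
    · rw [hM ⟨_, hbL⟩ 0 ![1, m] (by
        simp only [↓reduceIte, Matrix.cons_val_zero, Matrix.cons_val_one, ZMod.val_one p, pow_one]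
        have hcm : Commute r (r' ^ m.val) := PGroup.elemAb_comm h.setup.elem hrV (pow_mem hrV' _)
        rw [hcm.eq, hm, inv_mul_cancel_right]) i]
      fin_cases i <;> rfl
    · rw [hM ⟨_, hbL⟩ 1 ![0, 1] (by simpa [ZMod.val_one p, mul_assoc] using Setup.conj_fix (hcT' hbT) hrR') i]
      fin_cases i <;> rfl
  -- injectivity
  have hker : ∀ g : ↥L, M g = 1 → g = 1 := by
    intro g hg
    have h1 : ρ g = 1 := by
      apply LinearMap.toMatrix'.injective
      rw [LinearMap.toMatrix'_one]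
      exact hg
    have h2 : (g : G) ∈ L ⊓ centralizer (W : Set G) := by
      refine ⟨g.2, mem_centralizer_iff.2 fun w hw => ?_⟩
      obtain ⟨v, hv⟩ := hbij.2 (Additive.ofMul (⟨w, hw⟩ : ↥W))
      have hv' : f v = ⟨w, hw⟩ := congrArg Additive.toMul hv
      have h3 := hρ' g v
      rw [h1, Module.End.one_apply, hv'] at h3
      exact (mul_inv_eq_iff_eq_mul.1 (congrArg Subtype.val h3).symm).symm
    have h2' : (g : G) ∈ (⊥ : Subgroup G) := by
      rw [← h.sub_inf]
      exact h2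
    exact Subtype.ext (Subgroup.mem_bot.1 h2')
  have hn0 : n ≠ 0 := by
    intro e
    apply ht1
    have h1 := hker ⟨t, htL⟩ (by rw [hMt, e]; exact (Matrix.one_fin_two).symm)
    exact Subtype.ext (congrArg (fun y : ↥L => (y : G)) h1)
  have hm0 : m ≠ 0 := by
    intro e
    apply ht1
    have h1 := hker ⟨_, hbL⟩ (by rw [hMb, e]; exact (Matrix.one_fin_two).symm)
    have h2 : x * t * x⁻¹ = 1 := congrArg (fun y : ↥L => (y : G)) h1
    exact Subtype.ext (conj_eq_one_iff.1 h2)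
  -- determinant
  let d : ↥L →* (ZMod p)ˣ := ((Matrix.detMonoidHom).comp M).toHomUnits
  have hdet : ∀ g : ↥L, (M g).det = 1 := by
    have hsmall : ∀ S : Subgroup G, S ≤ L → Nat.card S = p → S ≤ d.ker.map L.subtype := by
      intro S hSL hSp s hs
      refine ⟨⟨s, hSL hs⟩, Units.ext ?_, rfl⟩
      show (M ⟨s, hSL hs⟩).det = 1
      have h1 : (⟨s, hSL hs⟩ : ↥L) ^ p = 1 :=
        Subtype.ext ((PGroup.elemAb_of_card_eq hSp).2 s hs)
      have h2 := congrArg (fun y => (M y).det) h1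
      simp only [map_pow, Matrix.det_pow, map_one, Matrix.det_one, ZMod.pow_card] at h2
      exact h2
    have hall : L ≤ d.ker.map L.subtype :=
      sup_le (hsmall T le_sup_left h.tr.1) (hsmall T' le_sup_right h.tr'.1)
    intro g
    obtain ⟨y, hy, hyg⟩ := hall g.2
    obtain rfl : y = g := Subtype.ext hyg
    exact congrArg Units.val hy
  let φ : ↥L →* SL(2, ZMod p) :=
    { toFun := fun g => ⟨M g, hdet g⟩
      map_one' := Subtype.ext (map_one M)
      map_mul' := fun a b => Subtype.ext (map_mul M a b) }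
  have hφt : φ ⟨t, htL⟩ = upSL n := Subtype.ext hMt
  have hrange : φ.range = ⊤ := by
    refine eq_top_of_up_mem _ (fun a => ⟨⟨t, htL⟩ ^ (a / n).val, ?_⟩)
      (g := lowSL m) ⟨⟨_, hbL⟩, Subtype.ext hMb⟩ (by simpa using hm0)
    rw [map_pow, hφt, CfsgLib.LocalEven.NatFrame.upSL_pow, ZMod.natCast_val, ZMod.cast_id,
      div_mul_cancel₀ a hn0]
  refine ⟨MulEquiv.ofBijective φ ⟨?_, MonoidHom.range_eq_top.1 hrange⟩, t, htL, n, htT, hn0, hφt⟩
  rw [injective_iff_map_eq_one]
  exact fun g hg => hker g (congrArg Subtype.val hg)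

/-- `p` is `2` or `3`. -/
theorem p_cases (h : PairHyp p V H Q T x) : p = 2 ∨ p = 3 := by
  by_cases hp2 : p = 2
  · exact Or.inl hp2
  right
  obtain ⟨φ, t, ht, n, htT, hn, hφ⟩ := h.exists_iso
  have h2 : (2 : ZMod p) ≠ 0 := by
    intro e
    have h2' : ((2 : ℕ) : ZMod p) = 0 := by exact_mod_cast e
    rw [ZMod.natCast_eq_zero_iff] at h2'
    exact hp2 ((Nat.prime_dvd_prime_iff_eq hp.out Nat.prime_two).1 h2')
  set D : SL(2, ZMod p) := diagSL 2 h2 with hD
  have hcm : D * upSL n * D⁻¹ * (upSL n)⁻¹ = upSL n ^ 3 := by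
    rw [CfsgLib.LocalEven.NatFrame.upSL_pow, mul_inv_eq_iff_eq_mul, mul_inv_eq_iff_eq_mul, hD,
      ← upSL_add, CfsgLib.LocalEven.SL2Natural.diag_up]
    congr 2
    push_cast
    field_simp
    ring
  set g : ↥(pairSub T x) := φ.symm D with hg
  have hcomm : ⁅g, (⟨t, ht⟩ : ↥(pairSub T x))⁆ = ⟨t, ht⟩ ^ 3 := by
    apply φ.injective
    rw [map_pow, hφ, commutatorElement_def]
    simp only [map_mul, map_inv, hφ, hg, MulEquiv.apply_symm_apply]
    exact hcm
  have hQ : ⁅(g : G), t⁆ ∈ Q := by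
    obtain ⟨q, hq, s, hs, hqs⟩ : ∃ q ∈ Q, ∃ s ∈ T, q * s = (g : G) := by
      have h1 := h.sub_le_sup g.2
      rw [← SetLike.mem_coe,
        coe_mul_of_right_le_normalizer_left _ _ (h.le.trans h.setup.Q_norm), Set.mem_mul] at h1
      obtain ⟨q, hq, s, hs, e⟩ := h1
      exact ⟨q, hq, s, hs, e⟩
    have hst : s * t * s⁻¹ = t := by
      rw [PGroup.elemAb_comm h.tr.isEq.1 hs htT, mul_inv_cancel_right]
    have e : ⁅(g : G), t⁆ = q * t * q⁻¹ * t⁻¹ := by
      rw [commutatorElement_def, ← hqs]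
      calc q * s * t * (q * s)⁻¹ * t⁻¹ = q * (s * t * s⁻¹) * q⁻¹ * t⁻¹ := by group
        _ = _ := by rw [hst]
    rw [e]
    exact exists_mem_Q h.setup hq (h.le htT)
  have hcomm' : ⁅(g : G), t⁆ = t ^ 3 := by
    have := congrArg (fun y : ↥(pairSub T x) => (y : G)) hcomm
    simp only [commutatorElement_def] at this ⊢
    push_cast at this
    exact this
  rw [hcomm'] at hQ
  have h3 : t ^ 3 ∈ T ⊓ Q := ⟨pow_mem htT 3, hQ⟩
  rw [h.setup.inf_Q (PGroup.elemAb_isPGroup h.tr.isEq.1), mem_bot] at h3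
  have ht1 : t ≠ 1 := by
    intro e
    apply hn
    have h4 : φ ⟨t, ht⟩ = 1 := by
      rw [show (⟨t, ht⟩ : ↥(pairSub T x)) = 1 from Subtype.ext e, map_one]
    rw [hφ] at h4
    simpa using congrArg (fun y : SL(2, ZMod p) => y.1 0 1) h4
  have h4 := PGroup.elemAb_orderOf h.tr.isEq.1 htT ht1
  exact (Nat.prime_dvd_prime_iff_eq hp.out Nat.prime_three).1 (h4 ▸ orderOf_dvd_of_pow_eq_one h3)

end PairHyp

end CfsgLib.PStab.BestOff
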