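import Cfsg.Agent.Lib.PStab.Offender.Plane

/-!
Structure theorem for faithful pairs generated by best offenders: a direct product of copies of `SL(2, p)`.
-/

set_option autoImplicit false

namespace CfsgLib.PStab.BestOff

open Subgroup Cfsg Matrix
open scoped commutatorElement MatrixGroups

variable {G : Type*} [Group G] {p : ℕ}

/-- The component attached to a transvection group. -/
def comp (Q T : Subgroup G) : Subgroup G := ⁅Q, T⁆ ⊔ T

theorem card_SL_two : Nat.card SL(2, ZMod 2) = 6 := by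
  rw [Nat.card_eq_fintype_card]
  decide +kernel

theorem card_SL_three : Nat.card SL(2, ZMod 3) = 24 := by
  rw [Nat.card_eq_fintype_card]
  decide +kernel

theorem exists_noncommuting :
    ∃ i j : SL(2, ZMod 3), i ^ 4 = 1 ∧ j ^ 4 = 1 ∧ i * j ≠ j * i :=
  ⟨⟨!![0, 2; 1, 0], by decide⟩, ⟨!![1, 1; 1, 2], by decide⟩, by decide +kernel, by decide +kernel,
    by decide +kernel⟩

theorem pow_sub_one_mem [hp : Fact p.Prime] {U : Subgroup G} {q w : G} {i : ℕ}
    (hq : q ∈ normalizer (U : Set G)) (hw : w ∈ normalizer (U : Set G)) (hwp : orderOf w = p)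
    (hi : ¬ p ∣ i) (h : q * w * q⁻¹ * (w ^ i)⁻¹ ∈ U) :
    q ^ (p - 1) * w * (q ^ (p - 1))⁻¹ * w⁻¹ ∈ U := by
  have h1 := conj_pow_mem hq hw h (p - 1)
  have e : i ^ (p - 1) ≡ 1 [MOD orderOf w] := by
    rw [hwp, ← ZMod.natCast_eq_natCast_iff]
    push_cast
    exact ZMod.pow_card_sub_one_eq_one (by rwa [Ne, ZMod.natCast_eq_zero_iff])
  rwa [pow_eq_pow_iff_modEq.2 e, pow_one] at h1

variable [Finite G] [hp : Fact p.Prime] {V H Q : Subgroup G}

namespace Setup

theorem exists_pairHyp (hS : Setup p V H Q) {T : Subgroup G} (hTH : T ≤ H) (hT : IsTr p V T) :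
    ∃ x, PairHyp p V H Q T x := by
  obtain ⟨x, hx, hxT⟩ := SetLike.not_le_iff_exists.1 fun hle : Q ≤ centralizer (T : Set G) =>
    hS.not_le_centralizer (PGroup.elemAb_isPGroup hT.isEq.1) hTH hT.ne_bot (le_centralizer_iff.1 hle)
  exact ⟨x, hS, hTH, hT, hx, hxT⟩

theorem mem_Q_of_pow (hS : Setup p V H Q) {T : Subgroup G} (hTH : T ≤ H) (hT : IsTr p V T)
    {y : G} (hy : y ∈ Q ⊔ T) {m : ℕ} (hm : m.Coprime p) (hym : y ^ m = 1) : y ∈ Q := by
  rw [← SetLike.mem_coe, coe_mul_of_right_le_normalizer_left _ _ (hTH.trans hS.Q_norm),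
    Set.mem_mul] at hy
  obtain ⟨q, hq, t, ht, rfl⟩ := hy
  have key : ∀ n : ℕ, (q * t) ^ n * (t ^ n)⁻¹ ∈ Q := by
    intro n
    induction n with
    | zero => simp [one_mem]
    | succ n ih =>
      have h1 := mul_mem hq ((mem_normalizer_iff.1 (hS.Q_norm (hTH ht)) _).1 ih)
      convert h1 using 1
      rw [pow_succ', pow_succ']
      group
  have h2 : t ^ m ∈ T ⊓ Q := by
    refine ⟨pow_mem ht m, ?_⟩
    show t ^ m ∈ Q
    have h3 := key m
    rw [hym, one_mul] at h3
    exact inv_mem_iff.1 h3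
  rw [hS.inf_Q (PGroup.elemAb_isPGroup hT.isEq.1), mem_bot] at h2
  have h4 : t = 1 := by
    have := pow_gcd_eq_one.2 ⟨h2, hT.isEq.1.2 t ht⟩
    rwa [hm, pow_one] at this
  rw [h4, mul_one]
  exact hq

theorem comp_le (hS : Setup p V H Q) {T : Subgroup G} (hTH : T ≤ H) : comp Q T ≤ H :=
  sup_le ((commutator_le_of_le_normalizer (hTH.trans hS.Q_norm)).trans hS.Q_le) hTH

end Setup

/-- The facts on one component. -/
structure CompHyp (p : ℕ) (V H Q T : Subgroup G) : Prop where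
  setup : Setup p V H Q
  le : T ≤ H
  tr : IsTr p V T

namespace CompHyp

variable {T : Subgroup G}

theorem pair (h : CompHyp p V H Q T) : ∃ x, PairHyp p V H Q T x ∧ comp Q T = pairSub T x := by
  obtain ⟨x, hx⟩ := h.setup.exists_pairHyp h.le h.tr
  exact ⟨x, hx, hx.commutator_sup_eq⟩

theorem comp_le (h : CompHyp p V H Q T) : comp Q T ≤ H := h.setup.comp_le h.le

theorem p_cases (h : CompHyp p V H Q T) : p = 2 ∨ p = 3 := by
  obtain ⟨x, hx, -⟩ := h.pair
  exact hx.p_cases

theorem iso (h : CompHyp p V H Q T) : Nonempty (↥(comp Q T) ≃* SL(2, ZMod p)) := by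
  obtain ⟨x, hx, he⟩ := h.pair
  obtain ⟨φ, -⟩ := hx.exists_iso
  rw [he]
  exact ⟨φ⟩

theorem plane_card (h : CompHyp p V H Q T) : Nat.card ↥⁅V, comp Q T⁆ = p ^ 2 := by
  obtain ⟨x, hx, he⟩ := h.pair
  rw [he]
  exact hx.plane_card

theorem plane_le (h : CompHyp p V H Q T) : ⁅V, comp Q T⁆ ≤ V :=
  commutator_le_of_le_normalizer (h.comp_le.trans h.setup.le_norm)

theorem plane_inf (h : CompHyp p V H Q T) :
    ⁅V, comp Q T⁆ ⊓ (V ⊓ centralizer (comp Q T : Set G)) = ⊥ := by
  obtain ⟨x, hx, he⟩ := h.pair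
  rw [he, eq_bot_iff, ← hx.plane_inf]
  exact inf_le_inf_left _ inf_le_right

theorem plane_sup (h : CompHyp p V H Q T) :
    ⁅V, comp Q T⁆ ⊔ (V ⊓ centralizer (comp Q T : Set G)) = V := by
  obtain ⟨x, hx, he⟩ := h.pair
  rw [he]
  exact hx.plane_sup

theorem comp_inf (h : CompHyp p V H Q T) :
    comp Q T ⊓ centralizer ((⁅V, comp Q T⁆ : Subgroup G) : Set G) = ⊥ := by
  obtain ⟨x, hx, he⟩ := h.pair
  rw [he]
  exact hx.sub_inf

theorem comp_le_sup (h : CompHyp p V H Q T) : comp Q T ≤ Q ⊔ T :=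
  sup_le ((commutator_le_of_le_normalizer (h.le.trans h.setup.Q_norm)).trans le_sup_left) le_sup_right

theorem Q_le_normalizer (h : CompHyp p V H Q T) : Q ≤ normalizer (comp Q T : Set G) := by
  obtain ⟨x, hx, he⟩ := h.pair
  rw [he]
  intro y hy
  rw [mem_normalizer_iff_map_conj_eq]
  refine eq_of_le_of_card_ge ?_ (card_map_of_injective (MulAut.conj y).injective).ge
  show (pairSub T x).map (MulAut.conj y).toMonoidHom ≤ _
  rw [pairSub, Subgroup.map_sup]
  have key : ∀ S : Subgroup G, S ≤ Q ⊔ T → IsTr p V S →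
      S.map (MulAut.conj y).toMonoidHom ≤ pairSub T x := by
    intro S hS1 hS2
    refine hx.le_of_le_sup ?_ (hS2.map_conj (h.setup.le_norm (h.setup.Q_le hy)))
    rintro _ ⟨s, hs, rfl⟩
    exact mul_mem (mul_mem (mem_sup_left hy) (hS1 hs)) (inv_mem (mem_sup_left hy))
  exact sup_le (key T le_sup_right h.tr) (key _ (le_sup_right.trans hx.sub_le_sup) hx.tr')

theorem card_commutator_Q (h : CompHyp p V H Q T) :
    Nat.card ↥⁅Q, T⁆ * p = Nat.card ↥(comp Q T) := by
  have hN : ⁅Q, T⁆ ≤ Q := commutator_le_of_le_normalizer (h.le.trans h.setup.Q_norm)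
  have hTN : T ≤ normalizer ((⁅Q, T⁆ : Subgroup G) : Set G) := by
    intro t ht
    rw [mem_normalizer_iff_map_conj_eq, ← MulEquiv.toMonoidHom_eq_coe, map_commutator]
    congr 1
    · exact mem_normalizer_iff_map_conj_eq.1 (h.setup.Q_norm (h.le ht))
    · exact mem_normalizer_iff_map_conj_eq.1 (le_normalizer ht)
  have hd : ⁅Q, T⁆ ⊓ T = ⊥ := by
    rw [eq_bot_iff, ← h.setup.inf_Q (PGroup.elemAb_isPGroup h.tr.isEq.1)]
    exact le_inf inf_le_right (inf_le_left.trans hN)
  rw [comp, Solvable.card_sup_of_disjoint hTN hd, h.tr.1]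

/-- The structure of `[Q, T]`. -/
theorem commutator_Q_cases (h : CompHyp p V H Q T) :
    (p = 2 ∧ Nat.card ↥⁅Q, T⁆ = 3) ∨
      (p = 3 ∧ Nat.card ↥⁅Q, T⁆ = 8 ∧ ¬ ∀ a ∈ ⁅Q, T⁆, ∀ b ∈ ⁅Q, T⁆, a * b = b * a) := by
  obtain ⟨φ⟩ := h.iso
  have hcard := h.card_commutator_Q
  rw [Nat.card_congr φ.toEquiv] at hcard
  rcases h.p_cases with h2 | h3
  · subst h2
    rw [card_SL_two] at hcard
    exact Or.inl ⟨rfl, by omega⟩
  · subst h3
    rw [card_SL_three] at hcard
    refine Or.inr ⟨rfl, by omega, fun hcomm => ?_⟩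
    obtain ⟨i, j, hi, hj, hne⟩ := exists_noncommuting
    obtain ⟨x, hx, he⟩ := h.pair
    have hmem : ∀ g : SL(2, ZMod 3), g ^ 4 = 1 → ((φ.symm g : ↥(comp Q T)) : G) ∈ ⁅Q, T⁆ := by
      intro g hg
      have h1 := (φ.symm g).2
      have h2 : ((φ.symm g : ↥(comp Q T)) : G) ^ 4 = 1 := by
        rw [← SubgroupClass.coe_pow, ← map_pow, hg, map_one, OneMemClass.coe_one]
      rw [← hx.inf_Q_eq]
      refine ⟨?_, h.setup.mem_Q_of_pow h.le h.tr (h.comp_le_sup h1) (by norm_num) h2⟩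
      rw [← he]
      exact h1
    apply hne
    have h3 := hcomm _ (hmem i hi) _ (hmem j hj)
    have h4 : φ.symm i * φ.symm j = φ.symm j * φ.symm i := Subtype.ext h3
    rw [← map_mul, ← map_mul] at h4
    exact φ.symm.injective h4

/-- `Q` fixes no line of the plane. -/
theorem no_line (h : CompHyp p V H Q T) {U : Subgroup G} (hU : U ≤ ⁅V, comp Q T⁆)
    (hUc : Nat.card U = p) (hn : Q ≤ normalizer (U : Set G)) : False := by
  set W := ⁅V, comp Q T⁆ with hW
  have hUV : U ≤ V := hU.trans h.plane_le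
  obtain ⟨⟨u, hu⟩, hu1⟩ := exists_ne_of_card (p := p) hUc
  have hup : orderOf u = p := PGroup.elemAb_orderOf h.setup.elem (hUV hu) fun e => hu1 (Subtype.ext e)
  have hugen : zpowers u = U :=
    eq_of_le_of_card_ge (zpowers_le.2 hu) (by rw [Nat.card_zpowers, hup, hUc])
  obtain ⟨w, hw, hwU⟩ : ∃ w ∈ W, w ∉ U := SetLike.not_le_iff_exists.1 fun hle => by
    have h1 := card_le_of_le hle
    rw [h.plane_card, hUc, pow_two] at h1
    have := hp.out.one_lt
    nlinarith
  have hwp : orderOf w = p :=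
    PGroup.elemAb_orderOf h.setup.elem (h.plane_le hw) fun e => hwU (e ▸ one_mem U)
  have hVU : ∀ v ∈ V, v ∈ normalizer (U : Set G) := fun v hv => centralizer_le_normalizer _
    (mem_centralizer_iff.2 fun z hz => PGroup.elemAb_comm h.setup.elem (hUV hz) hv)
  have hfull : U ⊔ zpowers w = W := by
    refine eq_of_le_of_card_ge (sup_le hU (zpowers_le.2 hw)) ?_
    have h1 : U < U ⊔ zpowers w :=
      lt_of_le_of_ne le_sup_left fun e => hwU (e ▸ mem_sup_right (mem_zpowers w))
    have h2 := card_mul_le_of_lt ((PGroup.elemAb_isPGroup h.setup.elem).to_le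
      (sup_le hUV (zpowers_le.2 (h.plane_le hw)))) h1
    rw [hUc] at h2
    rw [h.plane_card, pow_two]
    exact h2
  have hNQ : ⁅Q, T⁆ ≤ Q := commutator_le_of_le_normalizer (h.le.trans h.setup.Q_norm)
  have hact : comp Q T ≤ acts V W := le_acts (h.comp_le.trans h.setup.le_norm) h.plane_le le_rfl
  have hexp : ∀ q ∈ ⁅Q, T⁆, q ^ (p - 1) = 1 := by
    intro q hq
    have hqQ : q ∈ Q := hNQ hq
    have hqU := hn hqQ
    have hqc : q ∈ comp Q T := mem_sup_left hq
    have hcop : (orderOf (q ^ (p - 1))).Coprime p :=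
      h.setup.Q_cop.coprime_dvd_left (Subgroup.orderOf_dvd_natCard Q (pow_mem hqQ _))
    -- on the line
    have hline : q ^ (p - 1) * u * (q ^ (p - 1))⁻¹ = u := by
      obtain ⟨i, hi⟩ := mem_powers_iff_mem_zpowers.2
        (hugen.symm ▸ (mem_normalizer_iff.1 hqU u).1 hu : q * u * q⁻¹ ∈ zpowers u)
      have hbot : ∀ y : G, y ∈ normalizer ((⊥ : Subgroup G) : Set G) := fun y =>
        mem_normalizer_iff.2 fun z => by simp [conj_eq_one_iff]
      have h1 : ¬ p ∣ i := by
        intro hd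
        rw [← hup] at hd
        have h2 : q * u * q⁻¹ = 1 := by
          rw [← hi]
          exact orderOf_dvd_iff_pow_eq_one.1 hd
        exact hu1 (Subtype.ext (conj_eq_one_iff.1 h2))
      have h2 := pow_sub_one_mem (hbot q) (hbot u) hup h1 (by
        rw [mem_bot, mul_inv_eq_one]; exact hi.symm)
      rw [mem_bot] at h2
      exact mul_inv_eq_one.1 h2
    have hfixU : ∀ z ∈ U, q ^ (p - 1) * z * (q ^ (p - 1))⁻¹ = z := by
      intro z hz
      rw [← hugen] at hz
      obtain ⟨k, rfl⟩ := mem_zpowers_iff.1 hz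
      rw [← conj_zpow, hline]
    -- modulo the line
    have hqw : q * w * q⁻¹ ∈ W := (mem_normalizer_iff.1
      (le_normalizer_of_commutator_le h.plane_le le_rfl hqc) w).1 hw
    rw [← hfull, ← SetLike.mem_coe, coe_mul_of_right_le_normalizer_left _ _
      (zpowers_le.2 (hVU w (h.plane_le hw))), Set.mem_mul] at hqw
    obtain ⟨z, hz, y, hy, hzy⟩ := hqw
    obtain ⟨i, hi⟩ := mem_powers_iff_mem_zpowers.2 hy
    have h1 : ¬ p ∣ i := by
      intro hd
      rw [← hwp] at hd
      apply hwU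
      have h2 : q * w * q⁻¹ ∈ U := by
        rw [← hzy, ← hi]
        show z * w ^ i ∈ U
        rw [show w ^ i = 1 from orderOf_dvd_iff_pow_eq_one.1 hd, mul_one]
        exact hz
      exact (mem_normalizer_iff.1 hqU w).2 h2
    have hi' : w ^ i = y := hi
    have h2 := pow_sub_one_mem hqU (hVU w (h.plane_le hw)) hwp h1 (by
      rw [← hzy, hi', mul_inv_cancel_right]; exact hz)
    have hfixw : q ^ (p - 1) * w * (q ^ (p - 1))⁻¹ = w :=
      fix_of_series h.setup.elem hUV hcop hfixU h2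
    refine h.setup.eq_one_of_series h.plane_le (pow_mem hqQ _) ?_ (hact (pow_mem hqc _)).2.2
    have hC : W ≤ centralizer ({q ^ (p - 1)} : Set G) := by
      rw [← hfull]
      refine sup_le (fun z hz => ?_) (zpowers_le.2 ?_) <;> rw [mem_centralizer_singleton_iff]
      · exact (mul_inv_eq_iff_eq_mul.1 (hfixU z hz)).symm
      · exact (mul_inv_eq_iff_eq_mul.1 hfixw).symm
    intro z hz
    rw [← mem_centralizer_singleton_iff.1 (hC hz), mul_inv_cancel_right]
  rcases h.commutator_Q_cases with ⟨h2, hc⟩ | ⟨h3, -, hnc⟩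
  · subst h2
    have : ⁅Q, T⁆ = ⊥ := eq_bot_iff.2 fun q hq => mem_bot.2 (by simpa using hexp q hq)
    rw [this, Subgroup.card_bot] at hc
    omega
  · subst h3
    apply hnc
    intro a ha b hb
    have h1 : ∀ c ∈ ⁅Q, T⁆, c⁻¹ = c := fun c hc => inv_eq_of_mul_eq_one_left (by
      rw [← pow_two]; exact hexp c hc)
    calc a * b = (a * b)⁻¹ := (h1 _ (mul_mem ha hb)).symm
      _ = b⁻¹ * a⁻¹ := mul_inv_rev a b
      _ = b * a := by rw [h1 _ hb, h1 _ ha]

/-- Every transvection group normalizes the plane. -/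
theorem isTr_le_normalizer (h : CompHyp p V H Q T) {S : Subgroup G} (hSH : S ≤ H)
    (hStr : IsTr p V S) : S ≤ normalizer ((⁅V, comp Q T⁆ : Subgroup G) : Set G) := by
  set W := ⁅V, comp Q T⁆ with hW
  intro s hs
  by_contra hsN
  set Ws := W.map (MulAut.conj s).toMonoidHom with hWs
  set U := W ⊓ Ws with hU
  obtain ⟨hc, hc'⟩ := h.setup.commutator_isTr hSH hStr
  obtain ⟨haS, -⟩ := h.setup.acts_of_isTr hSH hStr
  have hcomm : ∀ a ∈ V, ∀ b ∈ V, a * b = b * a := fun a ha b hb =>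
    PGroup.elemAb_comm h.setup.elem ha hb
  have hWsle : Ws ≤ W ⊔ ⁅V, S⁆ := by
    rintro _ ⟨w, hw, rfl⟩
    have h1 := mul_mem (mem_sup_right (S := W) ((haS hs).2.2 w (h.plane_le hw))) (mem_sup_left hw)
    rwa [inv_mul_cancel_right] at h1
  have hWscard : Nat.card Ws = p ^ 2 := by
    rw [hWs, card_map_of_injective (K := W) (MulAut.conj s).injective, h.plane_card]
  have hWsV : Ws ≤ V := hWsle.trans (sup_le h.plane_le (hc'.trans inf_le_left))
  have hUc : Nat.card U = p := by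
    have h1 := Transfer.card_mul_card_of_commute W Ws fun a ha b hb =>
      hcomm a (h.plane_le ha) b (hWsV hb)
    rw [h.plane_card, hWscard] at h1
    have h2 := Transfer.card_mul_card_of_commute W ⁅V, S⁆ fun a ha b hb =>
      hcomm a (h.plane_le ha) b (hc' hb).1
    rw [h.plane_card, hc] at h2
    have h3 : Nat.card ↥(W ⊔ Ws) ≤ p ^ 2 * p :=
      calc Nat.card ↥(W ⊔ Ws) ≤ Nat.card ↥(W ⊔ ⁅V, S⁆) := card_le_of_le (sup_le le_sup_left hWsle)
        _ ≤ Nat.card ↥(W ⊔ ⁅V, S⁆) * Nat.card ↥(W ⊓ ⁅V, S⁆) := Nat.le_mul_of_pos_right _ Nat.card_pos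
        _ = _ := h2.symm
    have hUW : U < W := lt_of_le_of_ne inf_le_left fun e => by
      apply hsN
      have hle : W ≤ Ws := by rw [← e]; exact inf_le_right
      rw [mem_normalizer_iff_map_conj_eq]
      exact (eq_of_le_of_card_ge hle (by rw [hWscard, h.plane_card])).symm
    have h4 := card_mul_le_of_lt ((PGroup.elemAb_isPGroup h.setup.elem).to_le h.plane_le) hUW
    rw [h.plane_card, pow_two] at h4
    have h5 : Nat.card U ≤ p := Nat.le_of_mul_le_mul_right h4 hp.out.pos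
    refine le_antisymm h5 ?_
    refine Nat.le_of_mul_le_mul_left ?_ (Nat.mul_pos (pow_pos hp.out.pos 2) hp.out.pos)
    calc p ^ 2 * p * p = p ^ 2 * p ^ 2 := by ring
      _ = Nat.card ↥(W ⊔ Ws) * Nat.card U := h1
      _ ≤ _ := Nat.mul_le_mul_right _ h3
  refine h.no_line inf_le_left hUc ?_
  have hQW : Q ≤ normalizer (W : Set G) := by
    intro q hq
    rw [mem_normalizer_iff_map_conj_eq, hW, map_commutator]
    congr 1
    · exact mem_normalizer_iff_map_conj_eq.1 (h.setup.le_norm (h.setup.Q_le hq))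
    · exact mem_normalizer_iff_map_conj_eq.1 (h.Q_le_normalizer hq)
  refine Solvable.le_normalizer_inf hQW fun q hq => ?_
  have hq' : s⁻¹ * q * s ∈ Q := by
    simpa using (mem_normalizer_iff.1 (inv_mem (h.setup.Q_norm (hSH hs))) q).1 hq
  rw [mem_normalizer_iff_map_conj_eq]
  refine eq_of_le_of_card_ge ?_ (card_map_of_injective (MulAut.conj q).injective).ge
  rintro _ ⟨_, ⟨w, hw, rfl⟩, rfl⟩
  refine ⟨s⁻¹ * q * s * w * (s⁻¹ * q * s)⁻¹, (mem_normalizer_iff.1 (hQW hq') w).1 hw, ?_⟩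
  show s * (s⁻¹ * q * s * w * (s⁻¹ * q * s)⁻¹) * s⁻¹ = q * (s * w * s⁻¹) * q⁻¹
  group

/-- A transvection group lies in the component or centralizes its plane. -/
theorem dichotomy (h : CompHyp p V H Q T) {S : Subgroup G} (hSH : S ≤ H) (hStr : IsTr p V S) :
    S ≤ comp Q T ∨ S ≤ centralizer ((⁅V, comp Q T⁆ : Subgroup G) : Set G) := by
  by_cases hc : S ≤ centralizer ((⁅V, comp Q T⁆ : Subgroup G) : Set G)
  · exact Or.inr hc
  left
  obtain ⟨s, hs, hs'⟩ := SetLike.not_le_iff_exists.1 hc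
  obtain ⟨m, hm, hne⟩ : ∃ m ∈ ⁅V, comp Q T⁆, s * m * s⁻¹ * m⁻¹ ≠ 1 := by
    by_contra hcon
    push Not at hcon
    exact hs' (mem_centralizer_iff.2 fun m hm =>
      (mul_inv_eq_iff_eq_mul.1 (mul_inv_eq_one.1 (hcon m hm))).symm)
  set c := s * m * s⁻¹ * m⁻¹ with hcdef
  have hcW : c ∈ ⁅V, comp Q T⁆ :=
    mul_mem ((mem_normalizer_iff.1 (h.isTr_le_normalizer hSH hStr hs) m).1 hm) (inv_mem hm)
  have hcS : c ∈ ⁅V, S⁆ := ((h.setup.acts_of_isTr hSH hStr).1 hs).2.2 m (h.plane_le hm)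
  obtain ⟨x, hx, he⟩ := h.pair
  rw [he] at hcW ⊢
  obtain ⟨D, hD, hDtr, hcD⟩ := hx.exists_center hcW
  have hDH : D ≤ H := hD.trans hx.sub_le
  have hpow : ∀ R : Subgroup G, R ≤ V → Nat.card R = p → c ∈ R → zpowers c = R := fun R hR hRc hcR =>
    eq_of_le_of_card_ge (zpowers_le.2 hcR)
      (by rw [Nat.card_zpowers, PGroup.elemAb_orderOf h.setup.elem (hR hcR) hne, hRc])
  have heq : ⁅V, S⁆ = ⁅V, D⁆ := by
    rw [← hpow _ ((h.setup.commutator_isTr hSH hStr).2.trans inf_le_left)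
        (h.setup.commutator_isTr hSH hStr).1 hcS,
      ← hpow _ ((h.setup.commutator_isTr hDH hDtr).2.trans inf_le_left)
        (h.setup.commutator_isTr hDH hDtr).1 hcD]
  rw [h.setup.eq_of_center_eq hSH hStr hDH hDtr heq]
  exact hD

variable (hgen : H ≤ sSup {S | S ≤ H ∧ IsTr p V S})
include hgen

theorem le_normalizer_plane (h : CompHyp p V H Q T) :
    H ≤ normalizer ((⁅V, comp Q T⁆ : Subgroup G) : Set G) :=
  hgen.trans (sSup_le fun _ hS => h.isTr_le_normalizer hS.1 hS.2)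

theorem le_normalizer_comp (h : CompHyp p V H Q T) : H ≤ normalizer (comp Q T : Set G) := by
  obtain ⟨x, hx, he⟩ := h.pair
  intro g hg
  have key : ∀ S : Subgroup G, S ≤ comp Q T → IsTr p V S →
      S.map (MulAut.conj g).toMonoidHom ≤ comp Q T := by
    intro S hS1 hS2
    have hSgH : S.map (MulAut.conj g).toMonoidHom ≤ H := by
      rintro _ ⟨s, hs, rfl⟩
      exact mul_mem (mul_mem hg (h.comp_le (hS1 hs))) (inv_mem hg)
    refine (h.dichotomy hSgH (hS2.map_conj (h.setup.le_norm hg))).resolve_right fun hc => hS2.ne_bot ?_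
    rw [eq_bot_iff, ← h.comp_inf]
    refine le_inf hS1 fun s hs => mem_centralizer_iff.2 fun w hw => ?_
    have h1 := mem_centralizer_iff.1 (hc ⟨s, hs, rfl⟩) (g * w * g⁻¹)
      ((mem_normalizer_iff.1 (h.le_normalizer_plane hgen hg) w).1 hw)
    have h2 : g * w * g⁻¹ * (g * s * g⁻¹) = g * s * g⁻¹ * (g * w * g⁻¹) := h1
    calc w * s = g⁻¹ * (g * w * g⁻¹ * (g * s * g⁻¹)) * g := by group
      _ = s * w := by rw [h2]; group
  rw [mem_normalizer_iff_map_conj_eq]
  refine eq_of_le_of_card_ge ?_ (card_map_of_injective (MulAut.conj g).injective).ge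
  show (comp Q T).map (MulAut.conj g).toMonoidHom ≤ _
  rw [he, pairSub, Subgroup.map_sup, ← pairSub]
  exact sup_le (by rw [← he]; exact key T le_sup_right h.tr)
    (by rw [← he]; exact key _ (he ▸ le_sup_right) hx.tr')

theorem commutator_eq_bot (h : CompHyp p V H Q T) :
    ⁅comp Q T, H ⊓ centralizer ((⁅V, comp Q T⁆ : Subgroup G) : Set G)⁆ = ⊥ := by
  rw [eq_bot_iff, ← h.comp_inf, commutator_le]
  intro e he c hc
  refine ⟨?_, ?_⟩
  · show ⁅e, c⁆ ∈ comp Q T
    have h1 := mul_mem he ((mem_normalizer_iff.1 (h.le_normalizer_comp hgen hc.1) _).1 (inv_mem he))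
    rw [commutatorElement_def]
    convert h1 using 1
    group
  · have hn := Solvable.normalizer_le_normalizer_centralizer _
      (h.le_normalizer_plane hgen (h.comp_le he))
    have h1 := mul_mem ((mem_normalizer_iff.1 hn c).1 hc.2) (inv_mem hc.2)
    rwa [commutatorElement_def]

theorem sup_eq (h : CompHyp p V H Q T) :
    comp Q T ⊔ (H ⊓ centralizer ((⁅V, comp Q T⁆ : Subgroup G) : Set G)) = H := by
  refine le_antisymm (sup_le h.comp_le inf_le_left) (hgen.trans (sSup_le fun S hS => ?_))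
  rcases h.dichotomy hS.1 hS.2 with h1 | h1
  · exact h1.trans le_sup_left
  · exact (le_inf hS.1 h1).trans le_sup_right

theorem commutator_le (h : CompHyp p V H Q T) :
    ⁅V, H ⊓ centralizer ((⁅V, comp Q T⁆ : Subgroup G) : Set G)⁆ ≤
      V ⊓ centralizer (comp Q T : Set G) := by
  rw [Subgroup.commutator_le]
  intro v hv c hc
  set C0 := V ⊓ centralizer (comp Q T : Set G) with hC0
  have hv' := hv
  rw [← h.plane_sup, ← SetLike.mem_coe, coe_mul_of_right_le_normalizer_left _ _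
    (fun y (hy : y ∈ V ⊓ centralizer (comp Q T : Set G)) =>
      centralizer_le_normalizer _ (mem_centralizer_iff.2 fun z hz =>
      PGroup.elemAb_comm h.setup.elem (h.plane_le hz) hy.1)), Set.mem_mul] at hv'
  obtain ⟨w, hw, c', hc', rfl⟩ := hv'
  have hcw : c * w * c⁻¹ = w := Setup.conj_fix hc.2 hw
  have hcc : c * c'⁻¹ * c⁻¹ ∈ C0 := by
    refine ⟨(mem_normalizer_iff.1 (h.setup.le_norm hc.1) _).1 (inv_mem hc'.1),
      mem_centralizer_iff.2 fun e he => ?_⟩
    have e1 : Commute e c := by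
      have := commutator_eq_bot_iff_le_centralizer.1 (h.commutator_eq_bot hgen) he
      exact (mem_centralizer_iff.1 this c hc).symm
    have e2 : Commute e c'⁻¹ := Commute.inv_right (mem_centralizer_iff.1 hc'.2 e he)
    exact ((e1.mul_right e2).mul_right e1.inv_right).eq
  have h1 : ⁅w * c', c⁆ = w * (c' * (c * c'⁻¹ * c⁻¹)) * w⁻¹ := by
    rw [commutatorElement_def]
    calc w * c' * c * (w * c')⁻¹ * c⁻¹ = w * c' * (c * c'⁻¹ * c⁻¹) * (c * w * c⁻¹)⁻¹ := by group
      _ = _ := by rw [hcw]; group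
  have h2 := mul_mem hc' hcc
  have h3 : w * (c' * (c * c'⁻¹ * c⁻¹)) * w⁻¹ = c' * (c * c'⁻¹ * c⁻¹) := by
    rw [PGroup.elemAb_comm h.setup.elem (h.plane_le hw) h2.1, mul_inv_cancel_right]
  rw [h1, h3]
  exact h2

theorem comp_eq_or_le (h : CompHyp p V H Q T) {T' : Subgroup G} (h' : CompHyp p V H Q T') :
    comp Q T' = comp Q T ∨ comp Q T' ≤ H ⊓ centralizer ((⁅V, comp Q T⁆ : Subgroup G) : Set G) := by
  obtain ⟨x, hx, he⟩ := h'.pair
  rcases h.dichotomy h'.le h'.tr with h1 | h1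
  · left
    have hle : comp Q T' ≤ comp Q T := by
      rw [he]
      refine sup_le h1 ?_
      rintro _ ⟨t, ht, rfl⟩
      exact (mem_normalizer_iff.1 (h.le_normalizer_comp hgen (hx.setup.Q_le hx.mem)) t).1 (h1 ht)
    refine eq_of_le_of_card_ge hle ?_
    obtain ⟨φ⟩ := h.iso
    obtain ⟨ψ⟩ := h'.iso
    rw [Nat.card_congr φ.toEquiv, Nat.card_congr ψ.toEquiv]
  · right
    refine le_inf h'.comp_le ?_
    rw [he]
    refine sup_le h1 ?_
    rintro _ ⟨t, ht, rfl⟩
    exact (mem_normalizer_iff.1 (Solvable.normalizer_le_normalizer_centralizer _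
      (h.le_normalizer_plane hgen (hx.setup.Q_le hx.mem))) t).1 (h1 ht)

end CompHyp

namespace Setup

theorem le_sSup_of_generated (hS : Setup p V H Q)
    (h3 : H = ⨆ A : {A : Subgroup G // A ≤ H ∧ IsBestOffenderOn p V A}, (A : Subgroup G)) :
    H ≤ sSup {S | S ≤ H ∧ IsTr p V S} := by
  refine h3.le.trans (iSup_le fun A => ?_)
  exact (hS.le_sSup_isTr (hS.isEq_of_best A.2.1 A.2.2) A.2.1).trans
    (sSup_le_sSup fun T hT => ⟨hT.1.trans A.2.1, hT.2⟩)

theorem exists_isTr (hS : Setup p V H Q) (hgen : H ≤ sSup {S | S ≤ H ∧ IsTr p V S}) (h1 : H ≠ ⊥) :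
    ∃ T, CompHyp p V H Q T := by
  by_contra hc
  push Not at hc
  exact h1 (le_bot_iff.1 (hgen.trans (sSup_le fun T hT => absurd ⟨hS, hT.1, hT.2⟩ (hc T))))

variable {ι : Type*} [Finite ι] {f : ι → Subgroup G}

theorem iSupIndep_comp (hgen : H ≤ sSup {S | S ≤ H ∧ IsTr p V S}) (hinj : Function.Injective f)
    (hf : ∀ i, ∃ T, CompHyp p V H Q T ∧ f i = comp Q T) : iSupIndep f := by
  intro i
  obtain ⟨T, hT, he⟩ := hf i
  rw [disjoint_iff, eq_bot_iff, he, ← hT.comp_inf]
  refine inf_le_inf_left _ (iSup₂_le fun j hj => ?_)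
  obtain ⟨T', hT', he'⟩ := hf j
  rcases hT.comp_eq_or_le hgen hT' with h | h
  · exact absurd (hinj (he'.trans (h.trans he.symm))) hj
  · exact he'.le.trans (h.trans inf_le_right)

theorem iSup_comp (hgen : H ≤ sSup {S | S ≤ H ∧ IsTr p V S}) (hS : Setup p V H Q)
    (hf : ∀ i, ∃ T, CompHyp p V H Q T ∧ f i = comp Q T)
    (hall : ∀ T, CompHyp p V H Q T → ∃ i, f i = comp Q T) : ⨆ i, f i = H := by
  refine le_antisymm (iSup_le fun i => ?_) (hgen.trans (sSup_le fun T hT => ?_))
  · obtain ⟨T, hT, he⟩ := hf i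
    exact he.le.trans hT.comp_le
  · obtain ⟨i, hi⟩ := hall T ⟨hS, hT.1, hT.2⟩
    exact le_sup_right.trans (hi.ge.trans (le_iSup f i))

theorem plane_le_fix (hgen : H ≤ sSup {S | S ≤ H ∧ IsTr p V S}) (hinj : Function.Injective f)
    (hf : ∀ i, ∃ T, CompHyp p V H Q T ∧ f i = comp Q T) {i j : ι} (hij : j ≠ i) :
    ⁅V, f j⁆ ≤ V ⊓ centralizer (f i : Set G) := by
  obtain ⟨T, hT, he⟩ := hf i
  obtain ⟨T', hT', he'⟩ := hf j
  rcases hT.comp_eq_or_le hgen hT' with h | h
  · exact absurd (hinj (he'.trans (h.trans he.symm))) hij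
  · rw [he', he]
    exact (commutator_mono le_rfl h).trans (hT.commutator_le hgen)

theorem iSup_plane (hS : Setup p V H Q) (hgen : H ≤ sSup {S | S ≤ H ∧ IsTr p V S})
    (hinj : Function.Injective f) (hf : ∀ i, ∃ T, CompHyp p V H Q T ∧ f i = comp Q T)
    (hall : ∀ T, CompHyp p V H Q T → ∃ i, f i = comp Q T) :
    (V ⊓ centralizer (H : Set G)) ⊔ (⨆ i, ⁅V, f i⁆) = V := by
  classical
  haveI := Fintype.ofFinite ι
  refine le_antisymm (sup_le inf_le_left (iSup_le fun i => ?_)) ?_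
  · obtain ⟨T, hT, he⟩ := hf i
    exact he ▸ hT.plane_le
  have key : ∀ s : Finset ι, V ≤
      (V ⊓ centralizer ((s.sup f : Subgroup G) : Set G)) ⊔ s.sup (fun i => ⁅V, f i⁆) := by
    intro s
    induction s using Finset.induction with
    | empty =>
      refine le_sup_of_le_left (le_inf le_rfl fun v _ => mem_centralizer_iff.2 fun y hy => ?_)
      rw [Finset.sup_empty, SetLike.mem_coe, Subgroup.mem_bot] at hy
      rw [hy, one_mul, mul_one]
    | insert a s has ih =>
      obtain ⟨T, hT, he⟩ := hf a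
      refine ih.trans (sup_le ?_ (le_sup_of_le_right (Finset.sup_mono (Finset.subset_insert a s))))
      intro v hv
      have hv' : v ∈ ⁅V, comp Q T⁆ ⊔ (V ⊓ centralizer (comp Q T : Set G)) := by
        rw [hT.plane_sup]; exact hv.1
      rw [← SetLike.mem_coe, coe_mul_of_right_le_normalizer_left _ _
        (fun y (hy : y ∈ V ⊓ centralizer (comp Q T : Set G)) => centralizer_le_normalizer _
          (mem_centralizer_iff.2 fun z hz => PGroup.elemAb_comm hS.elem (hT.plane_le hz) hy.1)),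
        Set.mem_mul] at hv'
      obtain ⟨w, hw, c, hc, rfl⟩ := hv'
      refine mul_mem (mem_sup_right ?_) (mem_sup_left ⟨hc.1, ?_⟩)
      · exact Finset.le_sup (f := fun i => ⁅V, f i⁆) (Finset.mem_insert_self a s) (he.symm ▸ hw)
      · have hws : w ∈ centralizer ((s.sup f : Subgroup G) : Set G) := by
          have hle : s.sup f ≤ centralizer ({w} : Set G) := Finset.sup_le fun i hi => by
            intro y hy
            rw [mem_centralizer_singleton_iff]
            have hne : a ≠ i := fun e => has (e ▸ hi)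
            exact mem_centralizer_iff.1 (plane_le_fix hgen hinj hf hne (he.symm ▸ hw)).2 y hy
          exact mem_centralizer_iff.2 fun y hy => mem_centralizer_singleton_iff.1 (hle hy)
        have hcs : c ∈ centralizer ((s.sup f : Subgroup G) : Set G) := by
          have := mul_mem (inv_mem hws) hv.2
          rwa [inv_mul_cancel_left] at this
        rw [Finset.sup_insert]
        show c ∈ centralizer ((f a ⊔ s.sup f : Subgroup G) : Set G)
        rw [centralizer_sup, he]
        exact ⟨hc.2, hcs⟩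
  have h1 := key Finset.univ
  rwa [Finset.sup_univ_eq_iSup, Finset.sup_univ_eq_iSup, iSup_comp hgen hS hf hall] at h1

theorem iSupIndep_plane (hS : Setup p V H Q) (hgen : H ≤ sSup {S | S ≤ H ∧ IsTr p V S})
    (hinj : Function.Injective f) (hf : ∀ i, ∃ T, CompHyp p V H Q T ∧ f i = comp Q T) :
    iSupIndep (fun o : Option ι => o.elim (V ⊓ centralizer (H : Set G)) (fun i => ⁅V, f i⁆)) := by
  classical
  haveI := Fintype.ofFinite ι
  have hHle : ∀ i, f i ≤ H := fun i => by
    obtain ⟨T, hT, he⟩ := hf i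
    exact he.le.trans hT.comp_le
  intro o
  rw [disjoint_iff, eq_bot_iff]
  rcases o with _ | i
  · have key : ∀ s : Finset ι, s.sup (fun i => ⁅V, f i⁆) ⊓ centralizer (H : Set G) = ⊥ := by
      intro s
      induction s using Finset.induction with
      | empty => simp
      | insert a s has ih =>
        obtain ⟨T, hT, he⟩ := hf a
        rw [eq_bot_iff]
        intro x hx
        have hle : s.sup (fun i => ⁅V, f i⁆) ≤ V ⊓ centralizer (comp Q T : Set G) :=
          Finset.sup_le fun i hi => he ▸ plane_le_fix hgen hinj hf fun e : i = a => has (e ▸ hi)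
        have hx1 : x ∈ (⁅V, comp Q T⁆ ⊔ s.sup (fun i => ⁅V, f i⁆) : Subgroup G) := by
          have h0 := hx.1
          rw [Finset.sup_insert, he] at h0
          exact h0
        rw [← SetLike.mem_coe, coe_mul_of_right_le_normalizer_left _ _
          (fun y (hy : y ∈ s.sup (fun i => ⁅V, f i⁆)) => centralizer_le_normalizer _
            (mem_centralizer_iff.2 fun z hz =>
              PGroup.elemAb_comm hS.elem (hT.plane_le hz) (hle hy).1)),
          Set.mem_mul] at hx1
        obtain ⟨w, hw, y, hy, hwy⟩ := hx1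
        have hw1 : w ∈ ⁅V, comp Q T⁆ ⊓ (V ⊓ centralizer (comp Q T : Set G)) := by
          refine ⟨hw, hT.plane_le hw, ?_⟩
          have h2 := mul_mem (centralizer_le hT.comp_le hx.2) (inv_mem (hle hy).2)
          rwa [← hwy, mul_inv_cancel_right] at h2
        rw [hT.plane_inf, Subgroup.mem_bot] at hw1
        rw [hw1, one_mul] at hwy
        rw [← ih, ← hwy]
        exact ⟨hy, hwy ▸ hx.2⟩
    have h2 : (⨆ (j : Option ι) (_ : j ≠ none),
        (j.elim (V ⊓ centralizer (H : Set G)) fun i => ⁅V, f i⁆)) ≤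
        Finset.univ.sup (fun i => ⁅V, f i⁆) := by
      refine iSup₂_le fun j hj => ?_
      rcases j with _ | j
      · exact absurd rfl hj
      · exact Finset.le_sup (f := fun i => ⁅V, f i⁆) (Finset.mem_univ j)
    rw [← key Finset.univ]
    exact fun x hx => ⟨h2 hx.2, hx.1.2⟩
  · obtain ⟨T, hT, he⟩ := hf i
    rw [← hT.plane_inf]
    show ⁅V, f i⁆ ⊓ _ ≤ _
    rw [he]
    refine inf_le_inf_left _ (iSup₂_le fun j hj => ?_)
    rcases j with _ | j
    · exact inf_le_inf_left _ (centralizer_le hT.comp_le)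
    · exact he ▸ plane_le_fix hgen hinj hf fun e : j = i => hj (congrArg some e)

end Setup

end CfsgLib.PStab.BestOff
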